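import Mathlib
import Groth.Agent.Lib.Helper24.ClosedDim.GenFibreChain
import Groth.Agent.Lib.Helper24.Cat.UCScheme
import Groth.Agent.Lib.lead.DimFormulaEq
import Groth.Agent.Lib.lead.TrdegDrop

/-!
# Algebra for the dimension of fibres (helper24)
-/

set_option autoImplicit false
universe u
open scoped Cardinal

namespace Groth.Agent.Lib.Helper24.FibreDim

open Groth.Agent.Lib.lead Groth.Agent.Lib.Helper24.ClosedDim

/-- A chain of `n + 1` primes over `p`, all containing `P`. -/
theorem exists_chain_over_ge (R S : Type u) [CommRing R] [CommRing S] [Algebra R S]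
    [Algebra.FiniteType R S] (p : Ideal R) [p.IsPrime] (P : Ideal S) [P.IsPrime] [P.LiesOver p]
    (n : ℕ) (h : Algebra.trdeg (R ⧸ p) (S ⧸ P) = n) :
    ∃ Q : Fin (n + 1) → PrimeSpectrum S, StrictMono Q ∧
      (∀ i, (Q i).asIdeal.comap (algebraMap R S) = p) ∧ ∀ i, P ≤ (Q i).asIdeal := by
  haveI : Algebra.FiniteType (R ⧸ p) (S ⧸ P) := NonDomainDim.finiteType_quotient p P
  obtain ⟨Q', hmono, hQ'⟩ := exists_chain_domain (R ⧸ p) (S ⧸ P) n h
  refine ⟨fun i => PrimeSpectrum.comap (Ideal.Quotient.mk P) (Q' i), ?_, ?_, ?_⟩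
  · refine Monotone.strictMono_of_injective ?_ ?_
    · intro i j hij
      have hle : Q' i ≤ Q' j := hmono.monotone hij
      show (PrimeSpectrum.comap _ (Q' i)).asIdeal ≤ (PrimeSpectrum.comap _ (Q' j)).asIdeal
      exact Ideal.comap_mono hle
    · intro i j hij
      exact hmono.injective (PrimeSpectrum.comap_injective_of_surjective _
        Ideal.Quotient.mk_surjective hij)
  · intro i
    ext r
    have h1 : r ∈ ((PrimeSpectrum.comap (Ideal.Quotient.mk P) (Q' i)).asIdeal.comap
        (algebraMap R S)) ↔ Ideal.Quotient.mk p r ∈ (Q' i).asIdeal.comap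
          (algebraMap (R ⧸ p) (S ⧸ P)) := Iff.rfl
    rw [h1, hQ' i, Ideal.mem_bot, Ideal.Quotient.eq_zero_iff_mem]
  · intro i s hs
    show Ideal.Quotient.mk P s ∈ (Q' i).asIdeal
    rw [Ideal.Quotient.eq_zero_iff_mem.mpr hs]
    exact Ideal.zero_mem _

/-- Along a chain of primes over the same prime, the residue transcendence degree drops at each
step. -/
theorem trdeg_add_le_of_chain (R S : Type u) [CommRing R] [CommRing S] [Algebra R S]
    [Algebra.FiniteType R S] (p : Ideal R) [p.IsPrime] {m : ℕ} (Q : Fin (m + 1) → PrimeSpectrum S)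
    (hQ : StrictMono Q) (hover : ∀ i, (Q i).asIdeal.LiesOver p) (t : Fin (m + 1) → ℕ)
    (ht : ∀ i, haveI := hover i; Algebra.trdeg (R ⧸ p) (S ⧸ (Q i).asIdeal) = t i) :
    ∀ i : Fin (m + 1), t (Fin.last m) + (m - (i : ℕ)) ≤ t i := by
  intro i
  induction i using Fin.reverseInduction with
  | last => simp
  | cast i ih =>
    haveI := hover i.castSucc
    haveI := hover i.succ
    have hlt : (Q i.castSucc).asIdeal < (Q i.succ).asIdeal := hQ Fin.castSucc_lt_succ
    have hfin : Algebra.trdeg (R ⧸ p) (S ⧸ (Q i.succ).asIdeal) < ℵ₀ := by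
      rw [ht i.succ]; exact Cardinal.nat_lt_aleph0 _
    have h1 := TrdegDrop.trdeg_quotient_lt_of_lt p (Q i.castSucc).asIdeal (Q i.succ).asIdeal hlt hfin
    rw [ht i.succ, ht i.castSucc] at h1
    have h2 : t i.succ < t i.castSucc := by exact_mod_cast h1
    have h3 : ((i.succ : Fin (m + 1)) : ℕ) = (i : ℕ) + 1 := Fin.val_succ i
    have h4 : ((i.castSucc : Fin (m + 1)) : ℕ) = (i : ℕ) := Fin.val_castSucc i
    have h5 : (i : ℕ) < m := i.2
    rw [h3] at ih
    rw [h4]
    omega

/-- The dimension formula (equality) for a finite type algebra over a universally catenary ring,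
when `B` has a unique minimal prime below `P` and `A` has a unique minimal prime below `p`. -/
theorem height_add_eq {A B : Type u} [CommRing A] [CommRing B] [Algebra A B]
    (hA : CAlg.IsUniversallyCatenary A) [Algebra.FiniteType A B]
    (p : Ideal A) [p.IsPrime] (P : Ideal B) [P.IsPrime] [P.LiesOver p]
    (Q₀ : Ideal B) [Q₀.IsPrime] (hQ₀P : Q₀ ≤ P)
    (hQ₀ : ∀ Q ∈ minimalPrimes B, Q ≤ P → Q = Q₀)
    (hq₀ : ∀ q ∈ minimalPrimes A, q ≤ p → q = Q₀.under A)
    (n E : ℕ) (hn : Algebra.trdeg (A ⧸ p) (B ⧸ P) = n)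
    (hE : Algebra.trdeg (A ⧸ Q₀.under A) (B ⧸ Q₀) = E) :
    P.height + n = p.height + E := by
  haveI : IsNoetherianRing A := hA.1
  haveI : IsNoetherianRing B := Algebra.FiniteType.isNoetherianRing A B
  obtain ⟨Q, hQmin, hQP, hht⟩ := NonDomainDim.exists_minimalPrime_height_le P
  obtain rfl : Q = Q₀ := hQ₀ Q hQmin hQP
  obtain ⟨q, hqmin, hqp', hht'⟩ := NonDomainDim.exists_minimalPrime_height_le p
  obtain rfl : q = Q.under A := hq₀ q hqmin hqp'
  set q := Q.under A with hq
  have hqp : q ≤ p := hqp'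
  haveI : Algebra.FiniteType (A ⧸ q) (B ⧸ Q) := NonDomainDim.finiteType_quotient q Q
  have hpbar : (p.map (Ideal.Quotient.mk q)).IsPrime :=
    Ideal.map_isPrime_of_surjective Ideal.Quotient.mk_surjective (by rwa [Ideal.mk_ker])
  have hPbar : (P.map (Ideal.Quotient.mk Q)).IsPrime :=
    Ideal.map_isPrime_of_surjective Ideal.Quotient.mk_surjective (by rwa [Ideal.mk_ker])
  haveI := NonDomainDim.liesOver_map_mk q p Q P hqp hQP
  haveI : Algebra.FiniteType A (A ⧸ q) :=
    Algebra.FiniteType.of_surjective (Ideal.Quotient.mkₐ A q) Ideal.Quotient.mk_surjective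
  have hUC : CAlg.IsUniversallyCatenary (A ⧸ q) := EssFTCat.main A (A ⧸ q) hA
  have main := DimFormulaEq.dim_eq (A ⧸ q) hUC (B ⧸ Q)
    (p.map (Ideal.Quotient.mk q)) (P.map (Ideal.Quotient.mk Q))
  rw [NonDomainDim.trdeg_doubleQuot q p Q P hqp hQP, hn, hE] at main
  have h1 := NonDomainDim.height_map_mk_le q p hqp
  have h1' := NonDomainDim.height_map_mk_le Q P hQP
  -- pass to natural numbers
  obtain ⟨a, ha⟩ := ENat.ne_top_iff_exists.mp
    (Ideal.height_ne_top (I := P) (Ideal.IsPrime.ne_top inferInstance))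
  obtain ⟨a', ha'⟩ := ENat.ne_top_iff_exists.mp
    (Ideal.height_ne_top (I := P.map (Ideal.Quotient.mk Q)) (Ideal.IsPrime.ne_top hPbar))
  obtain ⟨b, hb⟩ := ENat.ne_top_iff_exists.mp
    (Ideal.height_ne_top (I := p) (Ideal.IsPrime.ne_top inferInstance))
  obtain ⟨b', hb'⟩ := ENat.ne_top_iff_exists.mp
    (Ideal.height_ne_top (I := p.map (Ideal.Quotient.mk q)) (Ideal.IsPrime.ne_top hpbar))
  rw [← ha'] at main hht h1'
  rw [← hb'] at main h1 hht'
  rw [← ha] at hht h1' ⊢
  rw [← hb] at h1 hht' ⊢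
  have h3 : a' + n = b' + E := by
    have : ((a' + n : ℕ) : Cardinal.{u}) = ((b' + E : ℕ) : Cardinal.{u}) := by
      simpa using main
    exact_mod_cast this
  have h4 : a ≤ a' := by exact_mod_cast hht
  have h4' : a' ≤ a := by exact_mod_cast h1'
  have h5 : b' ≤ b := by exact_mod_cast h1
  have h5' : b ≤ b' := by exact_mod_cast hht'
  have : a + n = b + E := by omega
  exact_mod_cast this

end Groth.Agent.Lib.Helper24.FibreDim
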