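import Mathlib
import Groth.Agent.Lib.Helper24.FibreDim.Alg
import Groth.Agent.Lib.lead.SchemeDimIneqGlobal
import Groth.Agent.Lib.Helper18.GenFin

/-!
# Residue transcendence degrees along the fibres of a morphism locally of finite type (helper24)
-/

set_option autoImplicit false
set_option linter.style.haveILetI false
universe u
open scoped Cardinal
open AlgebraicGeometry CategoryTheory Groth.Agent.Lib.Helper7 Groth.Agent.Lib.lead

namespace Groth.Agent.Lib.Helper24.FibreDim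

variable {X Y : Scheme.{u}}

/-- The residue transcendence degree at `x`, as a natural number. -/
noncomputable def tr (f : X ⟶ Y) [LocallyOfFiniteType f] (x : X) : ℕ :=
  (SchemeDimIneqGlobal.exists_nat_trdeg f x).choose

theorem tr_spec (f : X ⟶ Y) [LocallyOfFiniteType f] (x : X) :
    @Algebra.trdeg (Y.residueField (f x)) (X.residueField x) _ _
      (f.residueFieldMap x).hom.toAlgebra = tr f x :=
  (SchemeDimIneqGlobal.exists_nat_trdeg f x).choose_spec

theorem exists_chart (f : X ⟶ Y) (x : X) :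
    ∃ (V : Y.Opens) (_ : IsAffineOpen V) (U : X.Opens) (_ : IsAffineOpen U)
      (_ : U ≤ f ⁻¹ᵁ V), x ∈ U := by
  obtain ⟨_, ⟨V, hV : IsAffineOpen V, rfl⟩, hfxV, -⟩ :=
    (Y.isBasis_affineOpens).exists_subset_of_mem_open (Set.mem_univ (f x)) isOpen_univ
  obtain ⟨_, ⟨U, hU : IsAffineOpen U, rfl⟩, hxU, hUV⟩ :=
    (X.isBasis_affineOpens).exists_subset_of_mem_open (show x ∈ (f ⁻¹ᵁ V : Set X) from hfxV)
      (f ⁻¹ᵁ V).isOpen
  exact ⟨V, hV, U, hU, hUV, hxU⟩

/-- The residue transcendence degree computed on an affine chart. -/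
theorem trdeg_chart (f : X ⟶ Y) [LocallyOfFiniteType f] {V : Y.Opens} (hV : IsAffineOpen V)
    {U : X.Opens} (hU : IsAffineOpen U) (e : U ≤ f ⁻¹ᵁ V) (x : X) (hx : x ∈ U)
    [Algebra Γ(Y, V) Γ(X, U)] (halg : algebraMap Γ(Y, V) Γ(X, U) = (f.appLE V U e).hom)
    (p : Ideal Γ(Y, V)) (hp : p = (hV.primeIdealOf ⟨f x, e hx⟩).asIdeal)
    [(hU.primeIdealOf ⟨x, hx⟩).asIdeal.LiesOver p] :
    Algebra.trdeg (Γ(Y, V) ⧸ p) (Γ(X, U) ⧸ (hU.primeIdealOf ⟨x, hx⟩).asIdeal) = tr f x := by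
  rw [← ResTrdegBridge.trdeg_residueField_eq f x hV hU e hx (e hx) halg p _ hp rfl]
  exact tr_spec f x

/-- Strict specialization inside a fibre strictly lowers the residue transcendence degree. -/
theorem tr_lt_of_lt (f : X ⟶ Y) [LocallyOfFiniteType f] {x x' : X} (hlt : x < x')
    (hf : f x = f x') : tr f x < tr f x' := by
  obtain ⟨V, hV, U, hU, e, hxU⟩ := exists_chart f x
  have hsp : x' ⤳ x := hlt.le
  have hnsp : ¬ x ⤳ x' := fun h => hlt.not_ge h
  have hx'U : x' ∈ U := hsp.mem_open U.isOpen hxU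
  letI : Algebra Γ(Y, V) Γ(X, U) := (f.appLE V U e).hom.toAlgebra
  have halg : algebraMap Γ(Y, V) Γ(X, U) = (f.appLE V U e).hom := rfl
  haveI : Algebra.FiniteType Γ(Y, V) Γ(X, U) := f.finiteType_appLE hV hU e
  set p : Ideal Γ(Y, V) := (hV.primeIdealOf ⟨f x, e hxU⟩).asIdeal with hp
  have hp' : p = (hV.primeIdealOf ⟨f x', e hx'U⟩).asIdeal := by
    rw [hp]
    congr 2
    exact Subtype.ext hf
  haveI : (hU.primeIdealOf ⟨x, hxU⟩).asIdeal.LiesOver p :=
    ResTrdegBridge.liesOver_primeIdealOf f x hV hU e hxU (e hxU) halg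
  haveI : (hU.primeIdealOf ⟨x', hx'U⟩).asIdeal.LiesOver p := by
    rw [hp']
    exact ResTrdegBridge.liesOver_primeIdealOf f x' hV hU e hx'U (e hx'U) halg
  haveI : p.IsPrime := (hV.primeIdealOf ⟨f x, e hxU⟩).isPrime
  have h1 := trdeg_chart f hV hU e x hxU halg p hp
  have h2 := trdeg_chart f hV hU e x' hx'U halg p hp'
  have hPlt : (hU.primeIdealOf ⟨x', hx'U⟩).asIdeal < (hU.primeIdealOf ⟨x, hxU⟩).asIdeal := by
    rw [lt_iff_le_not_ge]
    constructor
    · exact (AffPts.primeIdealOf_le_iff hU ⟨x', hx'U⟩ ⟨x, hxU⟩).mpr hsp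
    · intro hge
      exact hnsp ((AffPts.primeIdealOf_le_iff hU ⟨x, hxU⟩ ⟨x', hx'U⟩).mp hge)
  have h3 := TrdegDrop.trdeg_quotient_lt_of_lt p _ _ hPlt
    (by rw [h1]; exact Cardinal.nat_lt_aleph0 _)
  rw [h1, h2] at h3
  exact_mod_cast h3

theorem tr_le_of_le (f : X ⟶ Y) [LocallyOfFiniteType f] {x x' : X} (hle : x ≤ x')
    (hf : f x = f x') : tr f x ≤ tr f x' := by
  by_cases h : x' ≤ x
  · have h1 : x' ⤳ x := hle
    have h2 : x ⤳ x' := h
    have h3 : x' = x := (Specializes.antisymm h1 h2).eq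
    rw [h3]
  · exact (tr_lt_of_lt f (lt_of_le_not_ge hle h) hf).le

/-- Along a strictly increasing chain inside a fibre, `tr` increases at each step. -/
theorem tr_add_le_of_strictMono (f : X ⟶ Y) [LocallyOfFiniteType f] {m : ℕ}
    (c : Fin (m + 1) → X) (hc : StrictMono c) (hf : ∀ i, f (c i) = f (c 0)) :
    ∀ i : Fin (m + 1), tr f (c 0) + (i : ℕ) ≤ tr f (c i) := by
  intro i
  induction i using Fin.induction with
  | zero => simp
  | succ i ih =>
    have h1 : c i.castSucc < c i.succ := hc Fin.castSucc_lt_succ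
    have h2 := tr_lt_of_lt f h1 ((hf _).trans (hf _).symm)
    have h3 : ((i.succ : Fin (m + 1)) : ℕ) = (i : ℕ) + 1 := Fin.val_succ i
    have h4 : ((i.castSucc : Fin (m + 1)) : ℕ) = (i : ℕ) := Fin.val_castSucc i
    rw [h4] at ih
    rw [h3]
    omega

/-- Through every point there is a chain of length `tr f x` inside the fibre, below `x`. -/
theorem exists_chain_fibre (f : X ⟶ Y) [LocallyOfFiniteType f] (x : X) :
    ∃ c : Fin (tr f x + 1) → X, StrictMono c ∧ (∀ i, f (c i) = f x) ∧ ∀ i, c i ≤ x := by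
  obtain ⟨V, hV, U, hU, e, hxU⟩ := exists_chart f x
  letI : Algebra Γ(Y, V) Γ(X, U) := (f.appLE V U e).hom.toAlgebra
  have halg : algebraMap Γ(Y, V) Γ(X, U) = (f.appLE V U e).hom := rfl
  haveI : Algebra.FiniteType Γ(Y, V) Γ(X, U) := f.finiteType_appLE hV hU e
  set p : Ideal Γ(Y, V) := (hV.primeIdealOf ⟨f x, e hxU⟩).asIdeal with hp
  haveI : (hU.primeIdealOf ⟨x, hxU⟩).asIdeal.LiesOver p :=
    ResTrdegBridge.liesOver_primeIdealOf f x hV hU e hxU (e hxU) halg
  haveI : p.IsPrime := (hV.primeIdealOf ⟨f x, e hxU⟩).isPrime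
  have h1 := trdeg_chart f hV hU e x hxU halg p hp
  obtain ⟨Q, hQmono, hQover, hQge⟩ := exists_chain_over_ge Γ(Y, V) Γ(X, U) p
    (hU.primeIdealOf ⟨x, hxU⟩).asIdeal (tr f x) h1
  choose z hz using fun i => AffPts.primeIdealOf_surjective hU (Q i)
  refine ⟨fun i => (z i.rev).1, ?_, ?_, ?_⟩
  · intro i j hij
    have hlt : Q j.rev < Q i.rev := hQmono (Fin.rev_lt_rev.mpr hij)
    rw [← hz j.rev, ← hz i.rev] at hlt
    show (z i.rev).1 < (z j.rev).1
    rw [lt_iff_le_not_ge]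
    constructor
    · exact (AffPts.primeIdealOf_le_iff hU _ _).mp hlt.le
    · intro hge
      exact hlt.not_ge ((AffPts.primeIdealOf_le_iff hU _ _).mpr hge)
  · intro i
    have h2 := IsAffineOpen.comap_primeIdealOf_appLE (f := f) (x := (z i.rev).1) V hV U hU e
      (z i.rev).2
    have h3 : hV.primeIdealOf ⟨f (z i.rev).1, e (z i.rev).2⟩ = hV.primeIdealOf ⟨f x, e hxU⟩ := by
      rw [← h2]
      apply PrimeSpectrum.ext
      show Ideal.comap (f.appLE V U e).hom (hU.primeIdealOf ⟨(z i.rev).1, (z i.rev).2⟩).asIdeal = p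
      have h4 : hU.primeIdealOf ⟨(z i.rev).1, (z i.rev).2⟩ = Q i.rev := hz i.rev
      rw [h4, ← halg]
      exact hQover i.rev
    exact congrArg Subtype.val (AffPts.primeIdealOf_injective hV h3)
  · intro i
    show x ⤳ (z i.rev).1
    refine (AffPts.primeIdealOf_le_iff hU ⟨x, hxU⟩ (z i.rev)).mp ?_
    rw [hz i.rev]
    exact hQge i.rev

/-- Every point specializes, inside its fibre, to a point with residue transcendence degree `0`. -/
theorem exists_le_tr_zero (f : X ⟶ Y) [LocallyOfFiniteType f] (x : X) :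
    ∃ x₀ : X, x₀ ≤ x ∧ f x₀ = f x ∧ tr f x₀ = 0 := by
  obtain ⟨c, hc, hfc, hle⟩ := exists_chain_fibre f x
  refine ⟨c 0, hle 0, hfc 0, ?_⟩
  have h1 := tr_add_le_of_strictMono f c hc (fun i => (hfc i).trans (hfc 0).symm) (Fin.last _)
  have h2 := tr_le_of_le f (hle (Fin.last _)) (hfc _)
  simp only [Fin.val_last] at h1
  omega

end Groth.Agent.Lib.Helper24.FibreDim
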