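import Mathlib
import Groth.Agent.Lib.Helper24.FibreDim.Alg
import Groth.Agent.Lib.lead.ResTrdegBridge

/-!
# The dimension formula when only one local ring of the base is universally catenary (helper24)
-/

set_option autoImplicit false
set_option linter.style.haveILetI false
universe u
open scoped Cardinal

namespace Groth.Agent.Lib.Helper24.FibreDim

open Groth.Agent.Lib.lead

/-- Fractions of images of a localization are fractions of images of the original ring. -/
theorem frac_surj_comp {A A' K : Type u} [CommRing A] [CommRing A'] [Field K] [Algebra A A']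
    (M : Submonoid A) [IsLocalization M A'] (a' : A' →+* K)
    (hK : ∀ k : K, ∃ s t : A', a' t ≠ 0 ∧ k = a' s / a' t) :
    ∀ k : K, ∃ s t : A, (a'.comp (algebraMap A A')) t ≠ 0 ∧
      k = (a'.comp (algebraMap A A')) s / (a'.comp (algebraMap A A')) t := by
  intro k
  obtain ⟨s', t', ht', rfl⟩ := hK k
  obtain ⟨s, m, rfl⟩ := IsLocalization.exists_mk'_eq M s'
  obtain ⟨t, m', rfl⟩ := IsLocalization.exists_mk'_eq M t'
  have hm : a' (algebraMap A A' m) ≠ 0 :=
    ((IsLocalization.map_units A' m).map a').ne_zero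
  have hm' : a' (algebraMap A A' m') ≠ 0 :=
    ((IsLocalization.map_units A' m').map a').ne_zero
  have hs : a' (IsLocalization.mk' A' s m) * a' (algebraMap A A' m) = a' (algebraMap A A' s) := by
    rw [← map_mul, IsLocalization.mk'_spec]
  have ht : a' (IsLocalization.mk' A' t m') * a' (algebraMap A A' m') = a' (algebraMap A A' t) := by
    rw [← map_mul, IsLocalization.mk'_spec]
  have ht0 : a' (algebraMap A A' t) ≠ 0 := by
    rw [← ht]
    exact mul_ne_zero ht' hm'
  refine ⟨s * m', t * m, ?_, ?_⟩
  · simp only [RingHom.comp_apply, map_mul]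
    exact mul_ne_zero ht0 hm
  · simp only [RingHom.comp_apply, map_mul]
    rw [← hs, ← ht]
    field_simp

/-- The residue transcendence degree is unchanged by localization. -/
theorem trdeg_localization {A B A' B' : Type u} [CommRing A] [CommRing B] [CommRing A']
    [CommRing B'] [Algebra A B] [Algebra A A'] [Algebra B B'] [Algebra A' B'] [Algebra A B']
    [IsScalarTower A A' B'] [IsScalarTower A B B']
    (M : Submonoid A) [IsLocalization M A'] [IsLocalization (Algebra.algebraMapSubmonoid B M) B']
    (q' : Ideal A') [q'.IsPrime] (P' : Ideal B') [P'.IsPrime] [P'.LiesOver q']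
    (q : Ideal A) (P : Ideal B) [P.LiesOver q] (hq : q'.under A = q) (hP : P'.under B = P) :
    Algebra.trdeg (A' ⧸ q') (B' ⧸ P') = Algebra.trdeg (A ⧸ q) (B ⧸ P) := by
  let K := FractionRing (A' ⧸ q')
  let L := FractionRing (B' ⧸ P')
  let g : (A' ⧸ q') →+* (B' ⧸ P') := algebraMap _ _
  have hg : Function.Injective g := by
    rw [injective_iff_map_eq_zero]
    intro r hr
    obtain ⟨r, rfl⟩ := Ideal.Quotient.mk_surjective r
    have h1 : g (Ideal.Quotient.mk q' r) = Ideal.Quotient.mk P' (algebraMap A' B' r) :=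
      Ideal.Quotient.algebraMap_mk_of_liesOver _ _ _
    rw [h1, Ideal.Quotient.eq_zero_iff_mem] at hr
    rw [Ideal.Quotient.eq_zero_iff_mem, P'.over_def q']
    exact hr
  let ι : K →+* L := IsLocalization.map L g
    (nonZeroDivisors_le_comap_nonZeroDivisors_of_injective g hg)
  let a' : A' →+* K := (algebraMap (A' ⧸ q') K).comp (Ideal.Quotient.mk q')
  let b' : B' →+* L := (algebraMap (B' ⧸ P') L).comp (Ideal.Quotient.mk P')
  have ha' : RingHom.ker a' = q' := by
    ext r
    rw [RingHom.mem_ker]
    show algebraMap (A' ⧸ q') K (Ideal.Quotient.mk q' r) = 0 ↔ _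
    rw [(injective_iff_map_eq_zero' _).mp (IsFractionRing.injective (A' ⧸ q') K),
      Ideal.Quotient.eq_zero_iff_mem]
  have hb' : RingHom.ker b' = P' := by
    ext r
    rw [RingHom.mem_ker]
    show algebraMap (B' ⧸ P') L (Ideal.Quotient.mk P' r) = 0 ↔ _
    rw [(injective_iff_map_eq_zero' _).mp (IsFractionRing.injective (B' ⧸ P') L),
      Ideal.Quotient.eq_zero_iff_mem]
  have hsq : ι.comp a' = b'.comp (algebraMap A' B') := by
    ext r
    show ι (algebraMap (A' ⧸ q') K (Ideal.Quotient.mk q' r)) =
      algebraMap (B' ⧸ P') L (Ideal.Quotient.mk P' (algebraMap A' B' r))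
    rw [IsLocalization.map_eq]
    congr 1
  have hK : ∀ k : K, ∃ s t : A', a' t ≠ 0 ∧ k = a' s / a' t := by
    intro k
    obtain ⟨x, y, hy, rfl⟩ := IsFractionRing.div_surjective (A := A' ⧸ q') k
    obtain ⟨s, rfl⟩ := Ideal.Quotient.mk_surjective x
    obtain ⟨t, rfl⟩ := Ideal.Quotient.mk_surjective y
    refine ⟨s, t, ?_, rfl⟩
    exact IsFractionRing.to_map_ne_zero_of_mem_nonZeroDivisors (R := A' ⧸ q') (K := K) hy
  have hL : ∀ l : L, ∃ s t : B', b' t ≠ 0 ∧ l = b' s / b' t := by
    intro l
    obtain ⟨x, y, hy, rfl⟩ := IsFractionRing.div_surjective (A := B' ⧸ P') l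
    obtain ⟨s, rfl⟩ := Ideal.Quotient.mk_surjective x
    obtain ⟨t, rfl⟩ := Ideal.Quotient.mk_surjective y
    refine ⟨s, t, ?_, rfl⟩
    exact IsFractionRing.to_map_ne_zero_of_mem_nonZeroDivisors (R := B' ⧸ P') (K := L) hy
  have h1 := ResTrdegBridge.trdeg_eq_of_square q' P' a' b' ι ha' hb' hsq hK hL
  have ha : RingHom.ker (a'.comp (algebraMap A A')) = q := by
    rw [← RingHom.comap_ker, ha']
    exact hq
  have hb : RingHom.ker (b'.comp (algebraMap B B')) = P := by
    rw [← RingHom.comap_ker, hb']
    exact hP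
  have hsq2 : ι.comp (a'.comp (algebraMap A A')) =
      (b'.comp (algebraMap B B')).comp (algebraMap A B) := by
    ext r
    have h := congrArg (fun φ : A' →+* L => φ (algebraMap A A' r)) hsq
    simp only [RingHom.comp_apply] at h ⊢
    rw [h, ← IsScalarTower.algebraMap_apply A A' B', ← IsScalarTower.algebraMap_apply A B B']
  have h2 := ResTrdegBridge.trdeg_eq_of_square q P (a'.comp (algebraMap A A'))
    (b'.comp (algebraMap B B')) ι ha hb hsq2 (frac_surj_comp M a' hK)
    (frac_surj_comp (Algebra.algebraMapSubmonoid B M) b' hL)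
  rw [← h1, h2]

/-- The dimension formula (equality) when only the localization of `A` at `p` is universally
catenary. -/
theorem height_add_eq_local {A B : Type u} [CommRing A] [CommRing B] [Algebra A B]
    [Algebra.FiniteType A B] (p : Ideal A) [p.IsPrime]
    (A' : Type u) [CommRing A'] [Algebra A A'] [IsLocalization.AtPrime A' p]
    (hA : CAlg.IsUniversallyCatenary A')
    (P : Ideal B) [P.IsPrime] [P.LiesOver p]
    (Q₀ : Ideal B) [Q₀.IsPrime] (hQ₀P : Q₀ ≤ P)
    (hQ₀ : ∀ Q ∈ minimalPrimes B, Q ≤ P → Q = Q₀)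
    (hq₀ : ∀ q ∈ minimalPrimes A, q ≤ p → q = Q₀.under A)
    (n E : ℕ) (hn : Algebra.trdeg (A ⧸ p) (B ⧸ P) = n)
    (hE : Algebra.trdeg (A ⧸ Q₀.under A) (B ⧸ Q₀) = E) :
    P.height + n = p.height + E := by
  set MB := Algebra.algebraMapSubmonoid B p.primeCompl with hMB
  let B' := Localization MB
  letI : Algebra A' B' := localizationAlgebra p.primeCompl B
  haveI : IsScalarTower A A' B' := isScalarTower_localizationAlgebra _ _
  haveI : Algebra.FiniteType A' B' := by
    haveI : IsLocalization (Submonoid.map (algebraMap A B) p.primeCompl) B' :=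
      inferInstanceAs (IsLocalization MB _)
    have h := RingHom.finiteType_localizationPreserves (algebraMap A B) p.primeCompl A' B'
      (RingHom.finiteType_algebraMap.mpr inferInstance)
    exact RingHom.finiteType_algebraMap.mp h
  have hdisjP : Disjoint (MB : Set B) (P : Set B) := by
    rw [Set.disjoint_left]
    rintro _ ⟨a, ha, rfl⟩ haP
    apply ha
    rw [P.over_def p]
    exact haP
  have hdisjQ : Disjoint (MB : Set B) (Q₀ : Set B) :=
    Set.disjoint_of_subset_right hQ₀P hdisjP
  set P' : Ideal B' := P.map (algebraMap B B') with hP'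
  set Q₀' : Ideal B' := Q₀.map (algebraMap B B') with hQ₀'
  haveI : P'.IsPrime := IsLocalization.isPrime_of_isPrime_disjoint MB B' P inferInstance hdisjP
  haveI : Q₀'.IsPrime := IsLocalization.isPrime_of_isPrime_disjoint MB B' Q₀ inferInstance hdisjQ
  have hPu : P'.under B = P := IsLocalization.under_map_of_isPrime_disjoint MB B' inferInstance hdisjP
  have hQu : Q₀'.under B = Q₀ := IsLocalization.under_map_of_isPrime_disjoint MB B' inferInstance hdisjQ
  set p' : Ideal A' := P'.under A' with hp'
  set q₀' : Ideal A' := Q₀'.under A' with hq₀'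
  haveI : P'.LiesOver p' := ⟨rfl⟩
  haveI : Q₀'.LiesOver q₀' := ⟨rfl⟩
  have hunder : ∀ I : Ideal B', (I.under A').under A = (I.under B).under A := by
    intro I
    simp only [Ideal.under, Ideal.comap_comap]
    rw [← IsScalarTower.algebraMap_eq A A' B', ← IsScalarTower.algebraMap_eq A B B']
  have hp'u : p'.under A = p := by
    rw [hp', hunder, hPu]
    exact (P.over_def p).symm
  have hq₀'u : q₀'.under A = Q₀.under A := by
    rw [hq₀', hunder, hQu]
  have hQ₀'P' : Q₀' ≤ P' := Ideal.map_mono hQ₀P
  have hminB : ∀ Q : Ideal B', Q ∈ minimalPrimes B' → Q.under B ∈ minimalPrimes B := by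
    intro Q hQ
    have h := IsLocalization.minimalPrimes_map MB B' (⊥ : Ideal B)
    rw [Ideal.map_bot] at h
    have hQ' : Q ∈ (⊥ : Ideal B').minimalPrimes := hQ
    rw [h] at hQ'
    exact hQ'
  have hminA : ∀ q : Ideal A', q ∈ minimalPrimes A' → q.under A ∈ minimalPrimes A := by
    intro q hq
    have h := IsLocalization.minimalPrimes_map p.primeCompl A' (⊥ : Ideal A)
    rw [Ideal.map_bot] at h
    have hq' : q ∈ (⊥ : Ideal A').minimalPrimes := hq
    rw [h] at hq'
    exact hq'
  have hQ₀min : ∀ Q ∈ minimalPrimes B', Q ≤ P' → Q = Q₀' := by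
    intro Q hQ hle
    have h1 : Q.under B = Q₀ := by
      apply hQ₀ _ (hminB Q hQ)
      rw [← hPu]
      exact Ideal.comap_mono hle
    rw [hQ₀', ← h1]
    exact (IsLocalization.map_comap MB B' Q).symm
  have hq₀min : ∀ q ∈ minimalPrimes A', q ≤ p' → q = Q₀'.under A' := by
    intro q hq hle
    have h1 : q.under A = Q₀.under A := by
      apply hq₀ _ (hminA q hq)
      rw [← hp'u]
      exact Ideal.comap_mono hle
    rw [← IsLocalization.map_comap p.primeCompl A' q,
      ← IsLocalization.map_comap p.primeCompl A' (Q₀'.under A')]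
    show (q.under A).map _ = (q₀'.under A).map _
    rw [h1, hq₀'u]
  have hn' : Algebra.trdeg (A' ⧸ p') (B' ⧸ P') = n := by
    rw [trdeg_localization p.primeCompl p' P' p P hp'u hPu, hn]
  have hE' : Algebra.trdeg (A' ⧸ Q₀'.under A') (B' ⧸ Q₀') = E := by
    rw [trdeg_localization p.primeCompl (Q₀'.under A') Q₀' (Q₀.under A) Q₀ hq₀'u hQu, hE]
  have key := height_add_eq hA p' P' Q₀' hQ₀'P' hQ₀min hq₀min n E hn' hE'
  have h1 : P'.height = P.height := by
    rw [← IsLocalization.height_under MB P', hPu]
  have h2 : p'.height = p.height := by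
    rw [← IsLocalization.height_under p.primeCompl p', hp'u]
  rw [← h1, ← h2]
  exact key

end Groth.Agent.Lib.Helper24.FibreDim
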