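import Mathlib
import Groth.Agent.Lib.Helper24.FibreDim.LocalUC
import Groth.Agent.Lib.Helper7.LocQuotDim

/-!
# The dimension formula for a pair of primes `Q ≤ P`, universally catenary local base (helper24)
-/

set_option autoImplicit false
set_option linter.style.haveILetI false
universe u
open scoped Cardinal

namespace Groth.Agent.Lib.Helper24.FibreDim

open Groth.Agent.Lib.lead Groth.Agent.Lib.Helper7

/-- The dimension formula for a pair of primes `Q ≤ P` of a finite type `A`-algebra `B`, when the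
localization of `A` at `p = P ∩ A` is universally catenary:
`ht(P/Q) + trdeg κ(P)/κ(p) = ht(p/q) + trdeg κ(Q)/κ(q)`. -/
theorem height_pair_eq_local {A B : Type u} [CommRing A] [CommRing B] [Algebra A B]
    [Algebra.FiniteType A B] (p : Ideal A) [p.IsPrime]
    (A' : Type u) [CommRing A'] [Algebra A A'] [IsLocalization.AtPrime A' p]
    (hA : CAlg.IsUniversallyCatenary A')
    (P : Ideal B) [P.IsPrime] [P.LiesOver p]
    (Q : Ideal B) [Q.IsPrime] (hQP : Q ≤ P)
    (n E : ℕ) (hn : Algebra.trdeg (A ⧸ p) (B ⧸ P) = n)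
    (hE : Algebra.trdeg (A ⧸ Q.under A) (B ⧸ Q) = E) :
    (P.map (Ideal.Quotient.mk Q)).height + n =
      (p.map (Ideal.Quotient.mk (Q.under A))).height + E := by
  set q : Ideal A := Q.under A with hq
  haveI : Q.LiesOver q := ⟨rfl⟩
  have hqp : q ≤ p := by
    rw [P.over_def p]
    exact Ideal.comap_mono hQP
  haveI : Algebra.FiniteType (A ⧸ q) (B ⧸ Q) := NonDomainDim.finiteType_quotient q Q
  haveI hpbar : (p.map (Ideal.Quotient.mk q)).IsPrime :=
    Ideal.map_isPrime_of_surjective Ideal.Quotient.mk_surjective (by rwa [Ideal.mk_ker])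
  haveI hPbar : (P.map (Ideal.Quotient.mk Q)).IsPrime :=
    Ideal.map_isPrime_of_surjective Ideal.Quotient.mk_surjective (by rwa [Ideal.mk_ker])
  haveI := NonDomainDim.liesOver_map_mk q p Q P hqp hQP
  -- the localization of `A ⧸ q`
  let Abar' := A' ⧸ q.map (algebraMap A A')
  haveI : IsLocalization.AtPrime Abar' (p.map (Ideal.Quotient.mk q)) := by
    unfold IsLocalization.AtPrime
    rw [← LocQuotDim.algebraMapSubmonoid_primeCompl A p q hqp]
    infer_instance
  haveI : Algebra.FiniteType A' Abar' :=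
    Algebra.FiniteType.of_surjective (Ideal.Quotient.mkₐ A' _) Ideal.Quotient.mk_surjective
  have hUC : CAlg.IsUniversallyCatenary Abar' := EssFTCat.main A' Abar' hA
  have hinj : Function.Injective (algebraMap (A ⧸ q) (B ⧸ Q)) := by
    rw [injective_iff_map_eq_zero]
    intro r hr
    obtain ⟨r, rfl⟩ := Ideal.Quotient.mk_surjective r
    rw [Ideal.Quotient.algebraMap_mk_of_liesOver, Ideal.Quotient.eq_zero_iff_mem] at hr
    rw [Ideal.Quotient.eq_zero_iff_mem]
    exact hr
  have hbot : (⊥ : Ideal (B ⧸ Q)).under (A ⧸ q) = ⊥ := by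
    rw [Ideal.under, ← RingHom.ker_eq_comap_bot]
    exact (RingHom.injective_iff_ker_eq_bot _).mp hinj
  have hn' : Algebra.trdeg ((A ⧸ q) ⧸ p.map (Ideal.Quotient.mk q))
      ((B ⧸ Q) ⧸ P.map (Ideal.Quotient.mk Q)) = n := by
    rw [NonDomainDim.trdeg_doubleQuot q p Q P hqp hQP, hn]
  have hE' : Algebra.trdeg ((A ⧸ q) ⧸ (⊥ : Ideal (B ⧸ Q)).under (A ⧸ q))
      ((B ⧸ Q) ⧸ (⊥ : Ideal (B ⧸ Q))) = E := by
    rw [← hE]
    haveI : Nontrivial ((A ⧸ q) ⧸ (⊥ : Ideal (B ⧸ Q)).under (A ⧸ q)) :=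
      Ideal.Quotient.nontrivial_iff.2 (Ideal.IsPrime.ne_top inferInstance)
    refine NonDomainDim.trdeg_eq_of_ringEquiv
      ((Ideal.quotEquivOfEq hbot).trans (RingEquiv.quotientBot (A ⧸ q)))
      (RingEquiv.quotientBot (B ⧸ Q)) ?_
    intro r
    obtain ⟨r, rfl⟩ := Ideal.Quotient.mk_surjective r
    rfl
  have key := height_add_eq_local (A := A ⧸ q) (B := B ⧸ Q) (p.map (Ideal.Quotient.mk q)) Abar' hUC
    (P.map (Ideal.Quotient.mk Q)) ⊥ bot_le
    (fun Q' hQ' _ => by
      rw [IsDomain.minimalPrimes_eq_singleton_bot] at hQ'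
      exact hQ')
    (fun q' hq' _ => by
      rw [IsDomain.minimalPrimes_eq_singleton_bot] at hq'
      rw [hbot]
      exact hq') n E hn' hE'
  exact key

end Groth.Agent.Lib.Helper24.FibreDim
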