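import Mathlib
import Groth.Agent.Lib.Helper24.FibreDim.PairUC

/-!
# Algebraic core of S3448 (helper24)
-/

set_option autoImplicit false
set_option linter.style.haveILetI false
universe u
open scoped Cardinal

namespace Groth.Agent.Lib.Helper24.FibreDim

open Groth.Agent.Lib.lead Groth.Agent.Lib.Helper7

theorem trdeg_congr_ideal {A B : Type u} [CommRing A] [CommRing B] [Algebra A B] (p : Ideal A)
    (P P' : Ideal B) [P.LiesOver p] [P'.LiesOver p] (h : P' = P) :
    Algebra.trdeg (A ⧸ p) (B ⧸ P') = Algebra.trdeg (A ⧸ p) (B ⧸ P) := by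
  subst h
  rfl

theorem exists_nat_trdeg_quot {A B : Type u} [CommRing A] [CommRing B] [Algebra A B]
    [Algebra.FiniteType A B] (p : Ideal A) [p.IsPrime] (P : Ideal B) [P.IsPrime] [P.LiesOver p] :
    ∃ n : ℕ, Algebra.trdeg (A ⧸ p) (B ⧸ P) = n := by
  haveI : Algebra.FiniteType (A ⧸ p) (B ⧸ P) := NonDomainDim.finiteType_quotient p P
  have hfin : Algebra.trdeg (A ⧸ p) (B ⧸ P) < ℵ₀ := trdeg_lt_aleph0_of_finiteType
  exact ⟨_, (Cardinal.cast_toNat_of_lt_aleph0 hfin).symm⟩

/-- The algebraic core: a minimal prime `Q ≤ P` computing the height of `P`, and a prime `Z` over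
`p` between `Q` and `P`, with the numerical relations given by the dimension formula and the
dimension inequality. -/
theorem core {A B : Type u} [CommRing A] [CommRing B] [Algebra A B] [Algebra.FiniteType A B]
    [IsNoetherianRing A] (p : Ideal A) [p.IsPrime]
    (A' : Type u) [CommRing A'] [Algebra A A'] [IsLocalization.AtPrime A' p]
    (hA : CAlg.IsUniversallyCatenary A') (P : Ideal B) [P.IsPrime] [P.LiesOver p] :
    ∃ (Q Z : Ideal B) (_ : Q.IsPrime) (_ : Z.IsPrime) (_ : Z.LiesOver p), Q ≤ Z ∧ Z ≤ P ∧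
      ∃ (h c m : ℕ∞) (nP nZ nQ : ℕ),
        Algebra.trdeg (A ⧸ p) (B ⧸ P) = nP ∧ Algebra.trdeg (A ⧸ p) (B ⧸ Z) = nZ ∧
        Algebra.trdeg (A ⧸ Q.under A) (B ⧸ Q) = nQ ∧
        h ≤ p.height ∧ c ≤ Z.height ∧ P.height + nP = h + nQ ∧ c + nZ = h + nQ ∧
        P.height ≤ h + m ∧ m + nP ≤ nZ := by
  haveI : IsNoetherianRing B := Algebra.FiniteType.isNoetherianRing A B
  obtain ⟨Q, hQmin, hQP, hht⟩ := NonDomainDim.exists_minimalPrime_height_le P
  haveI : Q.IsPrime := hQmin.1.1
  set q : Ideal A := Q.under A with hq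
  haveI : Q.LiesOver q := ⟨rfl⟩
  have hqp : q ≤ p := by
    rw [P.over_def p]
    exact Ideal.comap_mono hQP
  haveI : Algebra.FiniteType (A ⧸ q) (B ⧸ Q) := NonDomainDim.finiteType_quotient q Q
  haveI hpbar : (p.map (Ideal.Quotient.mk q)).IsPrime :=
    Ideal.map_isPrime_of_surjective Ideal.Quotient.mk_surjective (by rwa [Ideal.mk_ker])
  haveI hPbar : (P.map (Ideal.Quotient.mk Q)).IsPrime :=
    Ideal.map_isPrime_of_surjective Ideal.Quotient.mk_surjective (by rwa [Ideal.mk_ker])
  haveI hlo := NonDomainDim.liesOver_map_mk q p Q P hqp hQP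
  have hI := Ideal.height_le_height_add_of_liesOver (p.map (Ideal.Quotient.mk q))
    (P.map (Ideal.Quotient.mk Q))
  set J : Ideal (B ⧸ Q) := (p.map (Ideal.Quotient.mk q)).map (algebraMap (A ⧸ q) (B ⧸ Q)) with hJ
  set Pt : Ideal ((B ⧸ Q) ⧸ J) := (P.map (Ideal.Quotient.mk Q)).map (Ideal.Quotient.mk J) with hPt
  have hJP : J ≤ P.map (Ideal.Quotient.mk Q) := by
    rw [hJ, Ideal.map_le_iff_le_comap]
    exact (hlo.over).le
  haveI hPtp : Pt.IsPrime :=
    Ideal.map_isPrime_of_surjective Ideal.Quotient.mk_surjective (by rwa [Ideal.mk_ker])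
  obtain ⟨l, hlast, hlen⟩ := Pt.exists_ltSeries_length_eq_height
  let φ : B →+* (B ⧸ Q) ⧸ J := (Ideal.Quotient.mk J).comp (Ideal.Quotient.mk Q)
  have hφ : Function.Surjective φ :=
    Ideal.Quotient.mk_surjective.comp Ideal.Quotient.mk_surjective
  let c : Fin (l.length + 1) → PrimeSpectrum B := fun i => PrimeSpectrum.comap φ (l i)
  have hc : StrictMono c := (RingHom.strictMono_comap_of_surjective hφ).comp l.strictMono
  have hclast : (c (Fin.last _)).asIdeal = P := by
    show Ideal.comap φ (l (Fin.last _)).asIdeal = P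
    have h1 : (l (Fin.last _)) = l.last := rfl
    rw [h1, hlast]
    show Ideal.comap ((Ideal.Quotient.mk J).comp (Ideal.Quotient.mk Q)) Pt = P
    rw [← Ideal.comap_comap, hPt, LocQuotDim.comap_map_mk_of_le _ _ J hJP,
      LocQuotDim.comap_map_mk_of_le _ P Q hQP]
  have hcle : ∀ i, (c i).asIdeal ≤ P := by
    intro i
    rw [← hclast]
    exact hc.monotone (Fin.le_last i)
  have hQc : ∀ i, Q ≤ (c i).asIdeal := by
    intro i b hb
    show φ b ∈ (l i).asIdeal
    have : φ b = 0 := by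
      show Ideal.Quotient.mk J (Ideal.Quotient.mk Q b) = 0
      rw [Ideal.Quotient.eq_zero_iff_mem.mpr hb, map_zero]
    rw [this]
    exact Ideal.zero_mem _
  have hover : ∀ i, (c i).asIdeal.LiesOver p := by
    intro i
    constructor
    apply le_antisymm
    · intro a ha
      show φ (algebraMap A B a) ∈ (l i).asIdeal
      have : φ (algebraMap A B a) = 0 := by
        show Ideal.Quotient.mk J (Ideal.Quotient.mk Q (algebraMap A B a)) = 0
        rw [Ideal.Quotient.eq_zero_iff_mem, hJ,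
          ← Ideal.Quotient.algebraMap_mk_of_liesOver (p := q) Q a]
        exact Ideal.mem_map_of_mem _ (Ideal.mem_map_of_mem _ ha)
      rw [this]
      exact Ideal.zero_mem _
    · rw [P.over_def p]
      exact Ideal.comap_mono (hcle i)
  have hex : ∀ i, ∃ n : ℕ, (haveI := hover i;
      Algebra.trdeg (A ⧸ p) (B ⧸ (c i).asIdeal)) = n := fun i =>
    haveI := hover i
    haveI := (c i).isPrime
    exists_nat_trdeg_quot p (c i).asIdeal
  choose t ht using hex
  have hchain := trdeg_add_le_of_chain A B p c hc hover t ht 0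
  simp only [Fin.val_zero, Nat.sub_zero] at hchain
  obtain ⟨nQ, hnQ⟩ := exists_nat_trdeg_quot q Q
  haveI := hover 0
  haveI := hover (Fin.last l.length)
  have hnP : Algebra.trdeg (A ⧸ p) (B ⧸ P) = t (Fin.last _) := by
    rw [← ht (Fin.last _)]
    exact (trdeg_congr_ideal p P (c (Fin.last _)).asIdeal hclast).symm
  have hF2 := height_pair_eq_local p A' hA P Q hQP (t (Fin.last _)) nQ hnP hnQ
  have hF1 := height_pair_eq_local p A' hA (c 0).asIdeal Q (hQc 0) (t 0) nQ (ht 0) hnQ
  have hP1 : (P.map (Ideal.Quotient.mk Q)).height = P.height :=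
    le_antisymm (NonDomainDim.height_map_mk_le Q P hQP) hht
  refine ⟨Q, (c 0).asIdeal, inferInstance, (c 0).isPrime, hover 0, hQc 0, hcle 0,
    (p.map (Ideal.Quotient.mk q)).height, ((c 0).asIdeal.map (Ideal.Quotient.mk Q)).height,
    Pt.height, t (Fin.last _), t 0, nQ, hnP, ht 0, hnQ,
    NonDomainDim.height_map_mk_le q p hqp,
    NonDomainDim.height_map_mk_le Q (c 0).asIdeal (hQc 0), ?_, hF1, ?_, ?_⟩
  · rw [← hP1]
    exact hF2
  · rw [← hP1]
    exact hI
  · rw [← hlen]
    have h2 : l.length + t (Fin.last l.length) ≤ t 0 := by omega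
    exact_mod_cast h2

end Groth.Agent.Lib.Helper24.FibreDim
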