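import Mathlib
import Groth.Agent.Lib.Helper24.FibreDim.Scheme
import Groth.Agent.Lib.Helper24.LocalDim.Scheme
import Groth.Agent.Lib.Helper7.LocQuotDim
import Groth.Agent.Lib.Helper18.FibreTd
import Groth.Agent.Lib.lead.FibreOrder

/-!
# Chains of specializations in schemes locally of finite type over a field, and in fibres (helper24)
-/

set_option autoImplicit false
set_option linter.style.haveILetI false
universe u
open AlgebraicGeometry CategoryTheory TopologicalSpace Groth.Agent.Lib.Helper7 Groth.Agent.Lib.lead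

namespace Groth.Agent.Lib.Helper24.FibreDim

section overField

variable (k : Type u) [Field k] (X : Scheme.{u}) [X.Over (Spec (CommRingCat.of k))]
  [LocallyOfFiniteType (X ↘ Spec (CommRingCat.of k))]

/-- Between a point `x` and a generization `z` of a scheme locally of finite type over a field there
is a chain of length `trdeg κ(z) - trdeg κ(x)`. -/
theorem exists_series_between (z x : X) (hzx : z ⤳ x) (nz nx : ℕ)
    (hz : @Algebra.trdeg k (X.residueField z) _ _ (Curv2.resAlgebra k X z) = nz)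
    (hx : @Algebra.trdeg k (X.residueField x) _ _ (Curv2.resAlgebra k X x) = nx) :
    ∃ c : LTSeries X, c.head = x ∧ c.last ≤ z ∧ c.length + nx = nz := by
  obtain ⟨W, hW, hxW, -⟩ :=
    exists_isAffineOpen_mem_and_subset (X := X) (x := x) (U := ⊤) (by simp)
  have hzW : z ∈ W := hzx.mem_open W.isOpen hxW
  letI algA : Algebra k Γ(X, W) := (ResTrdeg.kToΓ k X W).toAlgebra
  haveI ftA : Algebra.FiniteType k Γ(X, W) := ResTrdeg.finiteType_kToΓ k X hW
  haveI : IsNoetherianRing Γ(X, W) := Algebra.FiniteType.isNoetherianRing k _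
  set Px : PrimeSpectrum Γ(X, W) := hW.primeIdealOf ⟨x, hxW⟩ with hPx
  set Pz : PrimeSpectrum Γ(X, W) := hW.primeIdealOf ⟨z, hzW⟩ with hPz
  have hle : Pz.asIdeal ≤ Px.asIdeal := (AffPts.primeIdealOf_le_iff hW ⟨z, hzW⟩ ⟨x, hxW⟩).mpr hzx
  obtain ⟨n1, h1a, h1b, -⟩ := ResTrdeg.exists_nat_trdeg_residueField k X hW ⟨x, hxW⟩
  obtain ⟨n2, h2a, h2b, -⟩ := ResTrdeg.exists_nat_trdeg_residueField k X hW ⟨z, hzW⟩
  have hn1 : n1 = nx := by
    rw [hx] at h1a
    exact_mod_cast h1a.symm
  have hn2 : n2 = nz := by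
    rw [hz] at h2a
    exact_mod_cast h2a.symm
  subst hn1 hn2
  haveI := Px.isPrime
  haveI := Pz.isPrime
  haveI hPbar : (Px.asIdeal.map (Ideal.Quotient.mk Pz.asIdeal)).IsPrime :=
    Ideal.map_isPrime_of_surjective Ideal.Quotient.mk_surjective (by rwa [Ideal.mk_ker])
  have key := AffDim.height_add_dim_quotient (k := k) (Γ(X, W) ⧸ Pz.asIdeal)
    (Px.asIdeal.map (Ideal.Quotient.mk Pz.asIdeal))
  have hdq : ringKrullDim ((Γ(X, W) ⧸ Pz.asIdeal) ⧸
      Px.asIdeal.map (Ideal.Quotient.mk Pz.asIdeal)) = ringKrullDim (Γ(X, W) ⧸ Px.asIdeal) :=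
    ringKrullDim_eq_of_ringEquiv (DoubleQuot.quotQuotEquivQuotOfLE hle)
  rw [hdq, h1b, h2b] at key
  obtain ⟨l, hlast, hlen⟩ :=
    (Px.asIdeal.map (Ideal.Quotient.mk Pz.asIdeal)).exists_ltSeries_length_eq_height
  rw [← hlen] at key
  have hnum : l.length + n1 = n2 := by exact_mod_cast key
  have hsurj : Function.Surjective (Ideal.Quotient.mk Pz.asIdeal) := Ideal.Quotient.mk_surjective
  let c : Fin (l.length + 1) → PrimeSpectrum Γ(X, W) :=
    fun i => PrimeSpectrum.comap (Ideal.Quotient.mk Pz.asIdeal) (l i)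
  have hc : StrictMono c := (RingHom.strictMono_comap_of_surjective hsurj).comp l.strictMono
  have hclast : c (Fin.last _) = Px := by
    apply PrimeSpectrum.ext
    show Ideal.comap (Ideal.Quotient.mk Pz.asIdeal) (l (Fin.last _)).asIdeal = Px.asIdeal
    have h1 : (l (Fin.last _)) = l.last := rfl
    rw [h1, hlast]
    exact LocQuotDim.comap_map_mk_of_le _ _ _ hle
  have hPzc : ∀ i, Pz ≤ c i := by
    intro i b hb
    show Ideal.Quotient.mk Pz.asIdeal b ∈ (l i).asIdeal
    rw [Ideal.Quotient.eq_zero_iff_mem.mpr hb]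
    exact Ideal.zero_mem _
  choose w hw using fun i => AffPts.primeIdealOf_surjective hW (c i)
  have hmono : StrictMono (fun i : Fin (l.length + 1) => (w i.rev).1) := by
    intro i j hij
    have hlt : c j.rev < c i.rev := hc (Fin.rev_lt_rev.mpr hij)
    rw [← hw j.rev, ← hw i.rev] at hlt
    show (w i.rev).1 < (w j.rev).1
    rw [lt_iff_le_not_ge]
    constructor
    · exact (AffPts.primeIdealOf_le_iff hW _ _).mp hlt.le
    · intro hge
      exact hlt.not_ge ((AffPts.primeIdealOf_le_iff hW _ _).mpr hge)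
  refine ⟨LTSeries.mk l.length (fun i => (w i.rev).1) hmono, ?_, ?_, hnum⟩
  · show (w (Fin.rev 0)).1 = x
    rw [Fin.rev_zero]
    have h3 : w (Fin.last _) = ⟨x, hxW⟩ := by
      apply AffPts.primeIdealOf_injective hW
      rw [hw, hclast]
    rw [h3]
  · show (w (Fin.rev (Fin.last _))).1 ≤ z
    rw [Fin.rev_last]
    show z ⤳ (w 0).1
    refine (AffPts.primeIdealOf_le_iff hW ⟨z, hzW⟩ (w 0)).mp ?_
    rw [hw 0]
    exact hPzc 0

/-- The local dimension at a point in terms of the transcendence degree and the coheight. -/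
theorem localDim_eq_td_add_coheight (x : X) (nx : ℕ)
    (hx : @Algebra.trdeg k (X.residueField x) _ _ (Curv2.resAlgebra k X x) = nx) :
    FlatMor.localDim X x = ((nx : ℕ∞) + Order.coheight x : ℕ∞) := by
  haveI : IsLocallyNoetherian X :=
    LocallyOfFiniteType.isLocallyNoetherian (X ↘ Spec (CommRingCat.of k))
  have h1 : ringKrullDim (X.presheaf.stalk x) ≠ ⊤ := ringKrullDim_ne_top
  rw [ringKrullDim_stalk_eq_coheight] at h1
  have h2 : Order.coheight x ≠ ⊤ := by
    intro h
    rw [h] at h1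
    exact h1 rfl
  obtain ⟨b, hb⟩ := ENat.ne_top_iff_exists.mp h2
  have h3 : ringKrullDim (X.presheaf.stalk x) = b := by
    rw [ringKrullDim_stalk_eq_coheight, ← hb]
    rfl
  rw [LocalDim.localDim_scheme k X x nx b hx h3, ← hb]
  rfl

theorem localDim_mono {T : Type*} [TopologicalSpace T] {z x : T} (hzx : z ⤳ x) :
    FlatMor.localDim T z ≤ FlatMor.localDim T x := by
  unfold FlatMor.localDim
  refine le_iInf fun U => ?_
  exact iInf_le_of_le ⟨U.1, hzx.mem_open U.1.isOpen U.2⟩ le_rfl

end overField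

end Groth.Agent.Lib.Helper24.FibreDim
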