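import Mathlib
import Groth.Agent.Lib.Helper24.FibreDim.Scheme
import Groth.Agent.Lib.lead.FibreOrder

/-!
# The dimension formula on schemes and the dimension of the generic fibre (helper24)
-/

set_option autoImplicit false
set_option linter.style.haveILetI false
universe u
open scoped Cardinal
open AlgebraicGeometry CategoryTheory Groth.Agent.Lib.Helper7 Groth.Agent.Lib.lead

namespace Groth.Agent.Lib.Helper24.FibreDim

variable {X Y : Scheme.{u}}

theorem eq_genericPoint_of_closure_mem [IrreducibleSpace X] (ξ : X)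
    (h : closure {ξ} ∈ irreducibleComponents ↥X) : ξ = genericPoint ↥X := by
  rw [irreducibleComponents_eq_singleton, Set.mem_singleton_iff] at h
  have hgen : IsGenericPoint ξ (Set.univ : Set X) := h
  exact hgen.eq (genericPoint_spec ↥X)

theorem genericPoint_specializes [IrreducibleSpace X] (x : X) : genericPoint ↥X ⤳ x :=
  (genericPoint_spec ↥X).specializes trivial

/-- The dimension inequality, in terms of coheights and `tr`. -/
theorem coheight_add_tr_le (f : X ⟶ Y) [IsLocallyNoetherian Y] [LocallyOfFiniteType f]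
    [IrreducibleSpace X] (x : X) :
    (Order.coheight x : ℕ∞) + tr f x ≤ Order.coheight (f x) + tr f (genericPoint ↥X) := by
  have h := SchemeDimIneq.main f x (tr f x) (tr f (genericPoint ↥X)) (tr_spec f x) (by
    intro ξ hξ _
    obtain rfl := eq_genericPoint_of_closure_mem ξ hξ
    exact (tr_spec f _).le)
  rw [ringKrullDim_stalk_eq_coheight, ringKrullDim_stalk_eq_coheight] at h
  exact_mod_cast h

/-- The dimension formula (equality) when the local rings of `Y` are universally catenary. -/
theorem coheight_add_tr_eq (f : X ⟶ Y) [IsLocallyNoetherian Y] [LocallyOfFiniteType f]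
    [IrreducibleSpace X] [IrreducibleSpace Y] (hf : DenseRange f.base)
    (hY : ∀ y : Y, CAlg.IsUniversallyCatenary (Y.presheaf.stalk y)) (x : X) :
    (Order.coheight x : ℕ∞) + tr f x = Order.coheight (f x) + tr f (genericPoint ↥X) := by
  obtain ⟨V, hV, U, hU, e, hxU⟩ := exists_chart f x
  set ξ : X := genericPoint ↥X with hξdef
  have hξx : ξ ⤳ x := genericPoint_specializes x
  have hξU : ξ ∈ U := hξx.mem_open U.isOpen hxU
  have hfξ : f ξ = genericPoint ↥Y :=
    Groth.Agent.Lib.Helper18.GenFin.map_genericPoint_of_dense f hf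
  letI : Algebra Γ(Y, V) Γ(X, U) := (f.appLE V U e).hom.toAlgebra
  have halg : algebraMap Γ(Y, V) Γ(X, U) = (f.appLE V U e).hom := rfl
  haveI : Algebra.FiniteType Γ(Y, V) Γ(X, U) := f.finiteType_appLE hV hU e
  have hA : CAlg.IsUniversallyCatenary Γ(Y, V) := UCScheme.uc_sections Y hY ⟨V, hV⟩
  set p : Ideal Γ(Y, V) := (hV.primeIdealOf ⟨f x, e hxU⟩).asIdeal with hp
  set P : Ideal Γ(X, U) := (hU.primeIdealOf ⟨x, hxU⟩).asIdeal with hP
  set Q₀ : Ideal Γ(X, U) := (hU.primeIdealOf ⟨ξ, hξU⟩).asIdeal with hQ₀def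
  haveI : P.LiesOver p := ResTrdegBridge.liesOver_primeIdealOf f x hV hU e hxU (e hxU) halg
  haveI : p.IsPrime := (hV.primeIdealOf ⟨f x, e hxU⟩).isPrime
  haveI : P.IsPrime := (hU.primeIdealOf ⟨x, hxU⟩).isPrime
  haveI : Q₀.IsPrime := (hU.primeIdealOf ⟨ξ, hξU⟩).isPrime
  have hQ₀under : Q₀.under Γ(Y, V) = (hV.primeIdealOf ⟨f ξ, e hξU⟩).asIdeal :=
    (ResTrdegBridge.liesOver_primeIdealOf f ξ hV hU e hξU (e hξU) halg).over.symm
  have hQ₀P : Q₀ ≤ P := (AffPts.primeIdealOf_le_iff hU ⟨ξ, hξU⟩ ⟨x, hxU⟩).mpr hξx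
  have hQ₀ : ∀ Q ∈ minimalPrimes Γ(X, U), Q ≤ P → Q = Q₀ := by
    intro Q hQ _
    haveI : Q.IsPrime := hQ.1.1
    obtain ⟨ξ', hξ'⟩ := AffPts.primeIdealOf_surjective hU ⟨Q, inferInstance⟩
    have h1 : closure {ξ'.1} ∈ irreducibleComponents ↥X := by
      rw [AffPts.closure_mem_irreducibleComponents_iff, AffPts.forall_specializes_eq_iff hU ξ', hξ']
      exact hQ
    have h2 : ξ'.1 = ξ := eq_genericPoint_of_closure_mem _ h1
    have h3 : ξ' = ⟨ξ, hξU⟩ := Subtype.ext h2
    rw [hQ₀def, ← h3, hξ']
  have hq₀ : ∀ q ∈ minimalPrimes Γ(Y, V), q ≤ p → q = Q₀.under Γ(Y, V) := by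
    intro q hq _
    haveI : q.IsPrime := hq.1.1
    obtain ⟨η', hη'⟩ := AffPts.primeIdealOf_surjective hV ⟨q, inferInstance⟩
    have h1 : closure {η'.1} ∈ irreducibleComponents ↥Y := by
      rw [AffPts.closure_mem_irreducibleComponents_iff, AffPts.forall_specializes_eq_iff hV η', hη']
      exact hq
    have h2 : η'.1 = f ξ := by rw [hfξ]; exact eq_genericPoint_of_closure_mem _ h1
    have h3 : η' = ⟨f ξ, e hξU⟩ := Subtype.ext h2
    rw [hQ₀under, ← h3, hη']
  have hn := trdeg_chart f hV hU e x hxU halg p hp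
  have hE := trdeg_chart f hV hU e ξ hξU halg (Q₀.under Γ(Y, V)) hQ₀under
  have key := height_add_eq hA p P Q₀ hQ₀P hQ₀ hq₀ (tr f x) (tr f ξ) hn hE
  have hX : ringKrullDim (X.presheaf.stalk x) = P.height := by
    letI := TopCat.Presheaf.algebra_section_stalk X.presheaf (⟨x, hxU⟩ : U)
    have := hU.isLocalization_stalk ⟨x, hxU⟩
    exact IsLocalization.AtPrime.ringKrullDim_eq_height P (X.presheaf.stalk x)
  have hYd : ringKrullDim (Y.presheaf.stalk (f x)) = p.height := by
    letI := TopCat.Presheaf.algebra_section_stalk Y.presheaf (⟨f x, e hxU⟩ : V)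
    have := hV.isLocalization_stalk ⟨f x, e hxU⟩
    exact IsLocalization.AtPrime.ringKrullDim_eq_height p (Y.presheaf.stalk (f x))
  rw [ringKrullDim_stalk_eq_coheight] at hX hYd
  have hX' : (Order.coheight x : ℕ∞) = P.height := by exact_mod_cast hX
  have hY' : (Order.coheight (f x) : ℕ∞) = p.height := by exact_mod_cast hYd
  rw [hX', hY']
  exact key

/-- The dimension of the fibre through the generic point of an irreducible scheme is the residue
transcendence degree at the generic point. -/
theorem dim_fibre_generic (f : X ⟶ Y) [LocallyOfFiniteType f] [IrreducibleSpace X] (y : Y)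
    (hy : f (genericPoint ↥X) = y) :
    topologicalKrullDim (f.fiber y) = tr f (genericPoint ↥X) := by
  rw [StalkDimIneq.topologicalKrullDim_eq_krullDim (f.fiber y),
    Order.krullDim_eq_of_orderIso (FibreOrder.fiberOrderIso f y)]
  apply le_antisymm
  · unfold Order.krullDim
    apply iSup_le
    intro l
    let c : Fin (l.length + 1) → X := fun i => (l i).1
    have hc : StrictMono c := fun i j hij => l.strictMono hij
    have hfc : ∀ i, f (c i) = y := fun i => (l i).2
    have h1 := tr_add_le_of_strictMono f c hc (fun i => (hfc i).trans (hfc 0).symm) (Fin.last _)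
    have h2 : tr f (c (Fin.last _)) ≤ tr f (genericPoint ↥X) :=
      tr_le_of_le f (genericPoint_specializes _) ((hfc _).trans hy.symm)
    simp only [Fin.val_last] at h1
    have h3 : l.length ≤ tr f (genericPoint ↥X) := by omega
    exact_mod_cast h3
  · obtain ⟨c, hc, hfc, -⟩ := exists_chain_fibre f (genericPoint ↥X)
    let l : LTSeries ↥(f ⁻¹' {y}) :=
      LTSeries.mk (tr f (genericPoint ↥X)) (fun i => ⟨c i, (hfc i).trans hy⟩)
        (fun i j hij => hc hij)
    exact Order.LTSeries.length_le_krullDim l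

end Groth.Agent.Lib.Helper24.FibreDim
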