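import Mathlib
import Groth.Agent.Lib.Helper24.FibreDim.Core3448
import Groth.Agent.Lib.Helper24.FibreDim.FibreChain
import Groth.Agent.Lib.Helper24.FibreDim.Formula
import Groth.Agent.Lib.Helper24.CodimPre.Main
import Groth.Agent.Lib.lead.StalkDimIneq
import Groth.Prelude.Def_Found
import Groth.Prelude.Def_Flat

/-!
# S3448: the dimension formula at a point, in terms of a generic point of a fibre component
(helper24)
-/

set_option autoImplicit false
set_option linter.style.haveILetI false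
universe u
open scoped Cardinal
open AlgebraicGeometry CategoryTheory Groth.Agent.Lib.Helper7 Groth.Agent.Lib.lead
open Groth.Agent.Lib.Helper18

namespace Groth.Agent.Lib.Helper24.FibreDim

variable {X Y : Scheme.{u}}

theorem td_fibre_aux (f : X ⟶ Y) [LocallyOfFiniteType f] (v : X) :
    ∀ (y : Y) (_ : f v = y) (w : f.fiber y) (_ : f.fiberι y w = v),
      letI := FibreTd.fibreOver f y
      @Algebra.trdeg (Y.residueField y) ((f.fiber y).residueField w) _ _
        (Curv2.resAlgebra (Y.residueField y) (f.fiber y) w) = tr f v := by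
  intro y hy
  subst hy
  intro w hw
  have h1 : w = f.asFiber v := by
    apply (f.fiberι (f v)).isEmbedding.injective
    rw [hw, f.fiberι_asFiber]
  subst h1
  rw [← tr_spec f v]
  exact FibreTd.td_asFiber f v

/-- The transcendence degree of a point of the fibre over `κ(y)`. -/
theorem td_fibre (f : X ⟶ Y) [LocallyOfFiniteType f] (y : Y) (w : f.fiber y) :
    letI := FibreTd.fibreOver f y
    @Algebra.trdeg (Y.residueField y) ((f.fiber y).residueField w) _ _
      (Curv2.resAlgebra (Y.residueField y) (f.fiber y) w) = tr f (f.fiberι y w) := by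
  have hy : f (f.fiberι y w) = y := by
    have : f.fiberι y w ∈ Set.range (f.fiberι y) := ⟨w, rfl⟩
    rw [f.range_fiberι] at this
    exact this
  exact td_fibre_aux f (f.fiberι y w) y hy w rfl

/-- The local dimension of the fibre at a point. -/
theorem localDim_fibre (f : X ⟶ Y) [LocallyOfFiniteType f] (y : Y) (w : f.fiber y) :
    FlatMor.localDim (f.fiber y) w =
      (((tr f (f.fiberι y w) : ℕ) : ℕ∞) + FibreOrder.G f (f.fiberι y w) : ℕ∞) := by
  letI := FibreTd.fibreOver f y
  haveI : LocallyOfFiniteType ((f.fiber y) ↘ Spec (CommRingCat.of (Y.residueField y))) :=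
    inferInstanceAs (LocallyOfFiniteType (f.fiberToSpecResidueField y))
  rw [localDim_eq_td_add_coheight (Y.residueField y) (f.fiber y) w _ (td_fibre f y w),
    FibreOrder.coheight_fiber]

theorem fibreDimAt_eq_tr_add_G (f : X ⟶ Y) [LocallyOfFiniteType f] (v : X) :
    FlatMor.fibreDimAt f v = (((tr f v : ℕ) : ℕ∞) + FibreOrder.G f v : ℕ∞) := by
  unfold FlatMor.fibreDimAt
  rw [localDim_fibre f (f v) (f.asFiber v), f.fiberι_asFiber]

theorem exists_fibre_point (f : X ⟶ Y) (z : X) (y : Y) (hz : f z = y) :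
    ∃ z' : f.fiber y, f.fiberι y z' = z := by
  have : z ∈ Set.range (f.fiberι y) := by
    rw [f.range_fiberι]
    exact hz
  exact this

/-- Monotonicity of the local dimension of the fibre under specialization. -/
theorem tr_add_G_le (f : X ⟶ Y) [LocallyOfFiniteType f] {z x : X} (hzx : z ⤳ x)
    (hf : f z = f x) :
    ((tr f z : ℕ) : ℕ∞) + FibreOrder.G f z ≤ ((tr f x : ℕ) : ℕ∞) + FibreOrder.G f x := by
  obtain ⟨z', hz'⟩ := exists_fibre_point f z (f x) hf
  have hsp : z' ⤳ f.asFiber x := by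
    rw [← (f.fiberι (f x)).isEmbedding.isInducing.specializes_iff, hz', f.fiberι_asFiber]
    exact hzx
  have h1 := localDim_mono hsp
  rw [localDim_fibre, localDim_fibre, hz', f.fiberι_asFiber] at h1
  exact_mod_cast h1

/-- Between a point and a generization in the same fibre there is a chain of length the difference
of the residue transcendence degrees. -/
theorem exists_series_fibre (f : X ⟶ Y) [LocallyOfFiniteType f] {z x : X} (hzx : z ⤳ x)
    (hf : f z = f x) :
    ∃ c : LTSeries X, c.head = x ∧ c.last ≤ z ∧ c.length + tr f x = tr f z := by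
  obtain ⟨z', hz'⟩ := exists_fibre_point f z (f x) hf
  have hsp : z' ⤳ f.asFiber x := by
    rw [← (f.fiberι (f x)).isEmbedding.isInducing.specializes_iff, hz', f.fiberι_asFiber]
    exact hzx
  letI := FibreTd.fibreOver f (f x)
  haveI : LocallyOfFiniteType ((f.fiber (f x)) ↘ Spec (CommRingCat.of (Y.residueField (f x)))) :=
    inferInstanceAs (LocallyOfFiniteType (f.fiberToSpecResidueField (f x)))
  have h1 := td_fibre f (f x) z'
  have h2 := td_fibre f (f x) (f.asFiber x)
  rw [hz'] at h1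
  rw [f.fiberι_asFiber] at h2
  obtain ⟨c, hhead, hlast, hlen⟩ := exists_series_between (Y.residueField (f x)) (f.fiber (f x))
    z' (f.asFiber x) hsp (tr f z) (tr f x) h1 h2
  refine ⟨c.map (f.fiberι (f x)) (FibreOrder.fiberι_strictMono f (f x)), ?_, ?_, hlen⟩
  · rw [LTSeries.head_map, hhead, f.fiberι_asFiber]
  · rw [LTSeries.last_map, ← hz']
    show f.fiberι (f x) z' ⤳ f.fiberι (f x) c.last
    exact (show z' ⤳ c.last from hlast).map (f.fiberι (f x)).continuous

theorem G_ne_top (f : X ⟶ Y) [IsLocallyNoetherian Y] [LocallyOfFiniteType f] (v : X) :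
    FibreOrder.G f v ≠ ⊤ := by
  haveI : IsLocallyNoetherian (f.fiber (f v)) :=
    LocallyOfFiniteType.isLocallyNoetherian (f.fiberToSpecResidueField (f v))
  have h1 : ringKrullDim ((f.fiber (f v)).presheaf.stalk (f.asFiber v)) ≠ ⊤ := ringKrullDim_ne_top
  rw [FibreOrder.ringKrullDim_fiber_stalk] at h1
  intro h
  rw [h] at h1
  exact h1 rfl

theorem coheight_ne_top (Z : Scheme.{u}) [IsLocallyNoetherian Z] (v : Z) :
    Order.coheight v ≠ ⊤ := by
  have h1 : ringKrullDim (Z.presheaf.stalk v) ≠ ⊤ := ringKrullDim_ne_top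
  rw [ringKrullDim_stalk_eq_coheight] at h1
  intro h
  rw [h] at h1
  exact h1 rfl

theorem arith_enat (a d gP gZ h c m hZ : ℕ∞) (nP nZ nQ : ℕ)
    (ha : a ≠ ⊤) (hd' : d ≠ ⊤) (hgP : gP ≠ ⊤) (hgZ : gZ ≠ ⊤) (hhZ : hZ ≠ ⊤)
    (H : a = d + gP) (F2 : a + nP = h + nQ) (F1 : c + nZ = h + nQ) (I : a ≤ h + m)
    (C1 : m + nP ≤ nZ) (hd : h ≤ d) (hc : c ≤ hZ) (N1 : (nZ : ℕ∞) + gZ ≤ nP + gP)
    (S1 : hZ ≤ d + gZ) :
    gZ = 0 ∧ (nZ : ℕ∞) + gZ = nP + gP ∧ hZ = d := by
  have hh : h ≠ ⊤ := ne_top_of_le_ne_top hd' hd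
  have hcc : c ≠ ⊤ := ne_top_of_le_ne_top hhZ hc
  have hm : m ≠ ⊤ := by
    intro hm
    rw [hm, top_add] at C1
    exact (ENat.natCast_ne_top nZ) (top_le_iff.mp C1)
  lift a to ℕ using ha
  lift d to ℕ using hd'
  lift gP to ℕ using hgP
  lift gZ to ℕ using hgZ
  lift hZ to ℕ using hhZ
  lift h to ℕ using hh
  lift c to ℕ using hcc
  lift m to ℕ using hm
  norm_cast at *
  omega

/-- The forward direction of S3448, in terms of coheights. -/
theorem main3448_mp [IsLocallyNoetherian Y] (f : X ⟶ Y) [LocallyOfFiniteType f] (x : X)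
    (hcat : CAlg.IsUniversallyCatenary (Y.presheaf.stalk (f x)))
    (H : (Order.coheight x : ℕ∞) = Order.coheight (f x) + FibreOrder.G f x) :
    ∃ z : X, f z = f x ∧ z ⤳ x ∧ FibreOrder.G f z = 0 ∧
      ((tr f z : ℕ) : ℕ∞) + FibreOrder.G f z = ((tr f x : ℕ) : ℕ∞) + FibreOrder.G f x ∧
      (Order.coheight z : ℕ∞) = Order.coheight (f z) := by
  haveI : IsLocallyNoetherian X := LocallyOfFiniteType.isLocallyNoetherian f
  obtain ⟨V, hV, U, hU, e, hxU⟩ := exists_chart f x
  letI : Algebra Γ(Y, V) Γ(X, U) := (f.appLE V U e).hom.toAlgebra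
  have halg : algebraMap Γ(Y, V) Γ(X, U) = (f.appLE V U e).hom := rfl
  haveI : Algebra.FiniteType Γ(Y, V) Γ(X, U) := f.finiteType_appLE hV hU e
  haveI : IsNoetherianRing Γ(Y, V) := IsLocallyNoetherian.component_noetherian ⟨V, hV⟩
  set p : Ideal Γ(Y, V) := (hV.primeIdealOf ⟨f x, e hxU⟩).asIdeal with hp
  set P : Ideal Γ(X, U) := (hU.primeIdealOf ⟨x, hxU⟩).asIdeal with hP
  haveI : P.LiesOver p := ResTrdegBridge.liesOver_primeIdealOf f x hV hU e hxU (e hxU) halg
  haveI : p.IsPrime := (hV.primeIdealOf ⟨f x, e hxU⟩).isPrime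
  haveI : P.IsPrime := (hU.primeIdealOf ⟨x, hxU⟩).isPrime
  letI algY := TopCat.Presheaf.algebra_section_stalk Y.presheaf (⟨f x, e hxU⟩ : V)
  haveI locY : IsLocalization.AtPrime (Y.presheaf.stalk (f x)) p :=
    hV.isLocalization_stalk ⟨f x, e hxU⟩
  obtain ⟨Q, Z, hQprime, hZprime, hZover, hQZ, hZP, h, c, m, nP, nZ, nQ, hnP, hnZ, hnQ, hhd, hcZ,
    hF2, hF1, hI, hC1⟩ := core p (Y.presheaf.stalk (f x)) hcat P
  obtain ⟨z', hz'⟩ := AffPts.primeIdealOf_surjective hU ⟨Z, hZprime⟩
  obtain ⟨z, hzU⟩ := z'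
  have hZeq : (hU.primeIdealOf ⟨z, hzU⟩).asIdeal = Z := congrArg PrimeSpectrum.asIdeal hz'
  have hzx : z ⤳ x := by
    refine (AffPts.primeIdealOf_le_iff hU ⟨z, hzU⟩ ⟨x, hxU⟩).mp ?_
    show (hU.primeIdealOf ⟨z, hzU⟩).asIdeal ≤ P
    rw [hZeq]
    exact hZP
  have h3 : hV.primeIdealOf ⟨f z, e hzU⟩ = hV.primeIdealOf ⟨f x, e hxU⟩ := by
    have h2 := IsAffineOpen.comap_primeIdealOf_appLE (f := f) (x := z) V hV U hU e hzU
    rw [← h2]
    apply PrimeSpectrum.ext
    show Ideal.comap (f.appLE V U e).hom (hU.primeIdealOf ⟨z, hzU⟩).asIdeal = p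
    rw [hZeq, ← halg]
    exact (hZover.over).symm
  have hfz : f z = f x := congrArg Subtype.val (AffPts.primeIdealOf_injective hV h3)
  have hp' : p = (hV.primeIdealOf ⟨f z, e hzU⟩).asIdeal := by rw [h3]
  haveI hzover : (hU.primeIdealOf ⟨z, hzU⟩).asIdeal.LiesOver p := by
    rw [hp']
    exact ResTrdegBridge.liesOver_primeIdealOf f z hV hU e hzU (e hzU) halg
  have hnP' : nP = tr f x := by
    have h1 := trdeg_chart f hV hU e x hxU halg p hp
    rw [hnP] at h1
    exact_mod_cast h1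
  have hnZ' : nZ = tr f z := by
    have h1 := trdeg_chart f hV hU e z hzU halg p hp'
    rw [trdeg_congr_ideal p Z (hU.primeIdealOf ⟨z, hzU⟩).asIdeal hZeq, hnZ] at h1
    exact_mod_cast h1
  have hX : (Order.coheight x : ℕ∞) = P.height := by
    have h1 := CodimPre.stalk_dim_eq_height hU x hxU
    rw [ringKrullDim_stalk_eq_coheight] at h1
    exact_mod_cast h1
  have hZh : (Order.coheight z : ℕ∞) = Z.height := by
    have h1 := CodimPre.stalk_dim_eq_height hU z hzU
    rw [ringKrullDim_stalk_eq_coheight, hZeq] at h1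
    exact_mod_cast h1
  have hYh : (Order.coheight (f x) : ℕ∞) = p.height := by
    have h1 : ringKrullDim (Y.presheaf.stalk (f x)) = p.height :=
      IsLocalization.AtPrime.ringKrullDim_eq_height p (Y.presheaf.stalk (f x))
    rw [ringKrullDim_stalk_eq_coheight] at h1
    exact_mod_cast h1
  have hS1 : (Order.coheight z : ℕ∞) ≤ Order.coheight (f x) + FibreOrder.G f z := by
    have h1 := StalkDimIneq.main f z
    rw [ringKrullDim_stalk_eq_coheight, ringKrullDim_stalk_eq_coheight,
      FibreOrder.ringKrullDim_fiber_stalk, hfz] at h1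
    exact_mod_cast h1
  have hN1 := tr_add_G_le f hzx hfz
  rw [← hX] at hF2 hI
  rw [← hYh] at hhd
  rw [← hZh] at hcZ
  rw [← hnZ'] at hN1
  rw [← hnP'] at hN1
  obtain ⟨r1, r2, r3⟩ := arith_enat (Order.coheight x) (Order.coheight (f x)) (FibreOrder.G f x)
    (FibreOrder.G f z) h c m (Order.coheight z) nP nZ nQ (coheight_ne_top X x)
    (coheight_ne_top Y (f x)) (G_ne_top f x) (G_ne_top f z) (coheight_ne_top X z) H hF2 hF1 hI hC1
    hhd hcZ hN1 hS1
  refine ⟨z, hfz, hzx, r1, ?_, ?_⟩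
  · rw [← hnZ', ← hnP']
    exact r2
  · rw [r3, hfz]

/-- The backward direction of S3448, in terms of coheights. -/
theorem main3448_mpr [IsLocallyNoetherian Y] (f : X ⟶ Y) [LocallyOfFiniteType f] (x z : X)
    (hfz : f z = f x) (hzx : z ⤳ x) (hG : FibreOrder.G f z = 0)
    (hdim : ((tr f z : ℕ) : ℕ∞) + FibreOrder.G f z = ((tr f x : ℕ) : ℕ∞) + FibreOrder.G f x)
    (hz : (Order.coheight z : ℕ∞) = Order.coheight (f z)) :
    (Order.coheight x : ℕ∞) = Order.coheight (f x) + FibreOrder.G f x := by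
  apply le_antisymm
  · have h1 := StalkDimIneq.main f x
    rw [ringKrullDim_stalk_eq_coheight, ringKrullDim_stalk_eq_coheight,
      FibreOrder.ringKrullDim_fiber_stalk] at h1
    exact_mod_cast h1
  · obtain ⟨c, hhead, hlast, hlen⟩ := exists_series_fibre f hzx hfz
    have h1 := FibreOrder.coheight_last_add_length_le c
    rw [hhead] at h1
    have h2 : Order.coheight z ≤ Order.coheight c.last := Order.coheight_anti hlast
    rw [hG, add_zero] at hdim
    have h3 : FibreOrder.G f x = c.length := by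
      have hne := G_ne_top f x
      lift FibreOrder.G f x to ℕ using hne with g hg
      have h4 : tr f z = tr f x + g := by exact_mod_cast hdim
      have h5 : g = c.length := by omega
      rw [h5]
    rw [h3, ← hfz, ← hz]
    exact le_trans (add_le_add_left h2 _) h1

theorem G_eq_zero_iff (f : X ⟶ Y) (z : X) :
    FibreOrder.G f z = 0 ↔ ∀ z' : X, f z' = f z → z' ⤳ z → z' = z := by
  unfold FibreOrder.G
  rw [Order.coheight_eq_zero]
  constructor
  · intro hmax z' hz' hsp
    have h1 : (⟨z, rfl⟩ : ↥(f ⁻¹' {f z})) ≤ ⟨z', hz'⟩ := hsp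
    have h2 : (⟨z', hz'⟩ : ↥(f ⁻¹' {f z})) ≤ ⟨z, rfl⟩ := hmax h1
    have h3 : z ⤳ z' := h2
    exact (Specializes.antisymm hsp h3).eq
  · intro h b hb
    have h1 : b.1 = z := h b.1 b.2 hb
    have h2 : b = ⟨z, rfl⟩ := Subtype.ext h1
    rw [h2]

theorem main3448 [IsLocallyNoetherian Y] (f : X ⟶ Y) [LocallyOfFiniteType f] (x : X)
    (hcat : CAlg.IsUniversallyCatenary (Y.presheaf.stalk (f.base x))) :
    ringKrullDim (X.presheaf.stalk x) =
        ringKrullDim (Y.presheaf.stalk (f.base x)) +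
          ringKrullDim ((f.fiber (f.base x)).presheaf.stalk (f.asFiber x)) ↔
      ∃ z : X, f.base z = f.base x ∧ z ⤳ x ∧
        (∀ z' : X, f.base z' = f.base x → z' ⤳ z → z' = z) ∧
        FlatMor.fibreDimAt f z = FlatMor.fibreDimAt f x ∧
        ringKrullDim (X.presheaf.stalk z) = ringKrullDim (Y.presheaf.stalk (f.base z)) := by
  have hL : ringKrullDim (X.presheaf.stalk x) =
        ringKrullDim (Y.presheaf.stalk (f.base x)) +
          ringKrullDim ((f.fiber (f.base x)).presheaf.stalk (f.asFiber x)) ↔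
      (Order.coheight x : ℕ∞) = Order.coheight (f x) + FibreOrder.G f x := by
    rw [ringKrullDim_stalk_eq_coheight, ringKrullDim_stalk_eq_coheight,
      FibreOrder.ringKrullDim_fiber_stalk, ← WithBot.coe_add, WithBot.coe_inj]
  rw [hL]
  constructor
  · intro H
    obtain ⟨z, hfz, hzx, hG, hdim, hz⟩ := main3448_mp f x hcat H
    refine ⟨z, hfz, hzx, ?_, ?_, ?_⟩
    · intro z' hz'
      exact (G_eq_zero_iff f z).mp hG z' (hz'.trans hfz.symm)
    · rw [fibreDimAt_eq_tr_add_G, fibreDimAt_eq_tr_add_G, hdim]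
    · rw [ringKrullDim_stalk_eq_coheight, ringKrullDim_stalk_eq_coheight, hz]
  · rintro ⟨z, hfz, hzx, hmax, hdim, hz⟩
    refine main3448_mpr f x z hfz hzx ?_ ?_ ?_
    · rw [G_eq_zero_iff]
      intro z' hz'
      exact hmax z' (hz'.trans hfz)
    · rw [fibreDimAt_eq_tr_add_G, fibreDimAt_eq_tr_add_G, WithBot.coe_inj] at hdim
      exact hdim
    · rw [ringKrullDim_stalk_eq_coheight, ringKrullDim_stalk_eq_coheight, WithBot.coe_inj] at hz
      exact hz

end Groth.Agent.Lib.Helper24.FibreDim
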