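import Mathlib
import Groth.Agent.Lib.Helper24.FibreDim.Main3448
import Groth.Agent.Lib.Helper24.LocalDim.Top
import Groth.Prelude.Def_EGA43

/-!
# Pointwise consequences of `EGA43.IsEquidimAt` (helper24)
-/

set_option autoImplicit false
set_option linter.style.haveILetI false
universe u
open scoped Cardinal
open AlgebraicGeometry CategoryTheory Groth.Agent.Lib.Helper7 Groth.Agent.Lib.lead
open Groth.Agent.Lib.Helper18

namespace Groth.Agent.Lib.Helper24.FibreDim

variable {X Y : Scheme.{u}}

/-- Composition with an open immersion does not change the residue transcendence degree. -/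
theorem tr_comp_openImmersion {U' : Scheme.{u}} (j : U' ⟶ X) [IsOpenImmersion j] (f : X ⟶ Y)
    [LocallyOfFiniteType f] (w : U') : tr (j ≫ f) w = tr f (j w) := by
  have h1 := tr_spec (j ≫ f) w
  have h2 := tr_spec f (j w)
  letI a1 : Algebra (Y.residueField (f (j w))) (X.residueField (j w)) :=
    (f.residueFieldMap (j w)).hom.toAlgebra
  letI a2 : Algebra (Y.residueField (f (j w))) (U'.residueField w) :=
    ((j ≫ f).residueFieldMap w).hom.toAlgebra
  have h3 : Algebra.trdeg (Y.residueField (f (j w))) (X.residueField (j w)) =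
      Algebra.trdeg (Y.residueField (f (j w))) (U'.residueField w) := by
    refine NonDomainDim.trdeg_eq_of_ringEquiv (RingEquiv.refl _)
      (asIso (j.residueFieldMap w)).commRingCatIsoToRingEquiv ?_
    intro r
    show (j.residueFieldMap w).hom ((f.residueFieldMap (j w)).hom r) =
      ((j ≫ f).residueFieldMap w).hom r
    rw [Scheme.residueFieldMap_comp]
    rfl
  have h4 : ((tr (j ≫ f) w : ℕ) : Cardinal.{u}) = (tr f (j w) : ℕ) := by
    rw [← h2, ← h1]
    exact h3.symm
  exact_mod_cast h4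

/-- The dimension of the closure of a point in its fibre is the residue transcendence degree. -/
theorem dim_closure_asFiber (g : X ⟶ Y) [LocallyOfFiniteType g] (w : X) :
    topologicalKrullDim ↥(closure ({g.asFiber w} : Set (g.fiber (g w)))) =
      ((tr g w : ℕ) : WithBot ℕ∞) := by
  set F := g.fiber (g w) with hF
  set ζ : F := g.asFiber w with hζ
  haveI : QuasiSober ↥(closure ({ζ} : Set F)) :=
    isClosed_closure.isClosedEmbedding_subtypeVal.quasiSober
  have hind : Topology.IsInducing (g.fiberι (g w)) := (g.fiberι (g w)).isEmbedding.isInducing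
  apply le_antisymm
  · apply LocalDim.dim_le_of_specializing_chains
    intro m c hc
    let v : Fin (m + 1) → X := fun i => g.fiberι (g w) (c i.rev).1
    have hv : StrictMono v := by
      rw [Fin.strictMono_iff_lt_succ]
      intro i
      obtain ⟨h1, h2⟩ := hc i.rev
      rw [← Fin.rev_succ, ← Fin.rev_castSucc] at h1 h2
      show v i.castSucc < v i.succ
      rw [lt_iff_le_not_ge]
      constructor
      · show g.fiberι (g w) (c i.succ.rev).1 ⤳ g.fiberι (g w) (c i.castSucc.rev).1
        exact (h1.map continuous_subtype_val).map (g.fiberι (g w)).continuous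
      · intro hge
        have h3 : g.fiberι (g w) (c i.castSucc.rev).1 ⤳ g.fiberι (g w) (c i.succ.rev).1 := hge
        rw [hind.specializes_iff] at h3
        exact h2 (Topology.IsInducing.subtypeVal.specializes_iff.mp h3)
    have hfib : ∀ i, g (v i) = g w := by
      intro i
      have : v i ∈ Set.range (g.fiberι (g w)) := ⟨_, rfl⟩
      rw [g.range_fiberι] at this
      exact this
    have h1 := tr_add_le_of_strictMono g v hv (fun i => (hfib i).trans (hfib 0).symm) (Fin.last _)
    have h2 : tr g (v (Fin.last _)) ≤ tr g w := by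
      refine tr_le_of_le g ?_ (hfib _)
      show w ⤳ v (Fin.last _)
      have h3 : ζ ⤳ (c (Fin.last m).rev).1 := by
        rw [specializes_iff_mem_closure]
        exact (c (Fin.last m).rev).2
      have h4 := h3.map (g.fiberι (g w)).continuous
      have h5 : g.fiberι (g w) ζ = w := g.fiberι_asFiber w
      rw [h5] at h4
      exact h4
    simp only [Fin.val_last] at h1
    have h3 : m ≤ tr g w := by omega
    exact_mod_cast h3
  · obtain ⟨c, hc, hfc, hle⟩ := exists_chain_fibre g w
    choose c' hc' using fun i => exists_fibre_point g (c i) (g w) (hfc i)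
    have hmem : ∀ i, c' i ∈ closure ({ζ} : Set F) := by
      intro i
      have h5 : g.fiberι (g w) ζ = w := g.fiberι_asFiber w
      rw [← specializes_iff_mem_closure, ← hind.specializes_iff, hc' i, h5]
      exact hle i
    let d : Fin (tr g w + 1) → ↥(closure ({ζ} : Set F)) := fun i => ⟨c' i.rev, hmem i.rev⟩
    refine LocalDim.le_dim_of_specializing_chain d ?_
    intro i
    have hlt : c i.succ.rev < c i.castSucc.rev := by
      apply hc
      rw [Fin.rev_lt_rev]
      exact Fin.castSucc_lt_succ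
    rw [lt_iff_le_not_ge] at hlt
    obtain ⟨h1, h2⟩ := hlt
    constructor
    · rw [← Topology.IsInducing.subtypeVal.specializes_iff]
      show c' i.castSucc.rev ⤳ c' i.succ.rev
      rw [← hind.specializes_iff, hc', hc']
      exact h1
    · intro h3
      apply h2
      rw [← Topology.IsInducing.subtypeVal.specializes_iff] at h3
      have h4 : c' i.succ.rev ⤳ c' i.castSucc.rev := h3
      rw [← hind.specializes_iff, hc', hc'] at h4
      exact h4

/-- Pointwise consequences of equidimensionality at a point. -/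
theorem equidim_points (f : X ⟶ Y) [LocallyOfFiniteType f] (x : X)
    (h : EGA43.IsEquidimAt f x) :
    ∃ (e : ℕ) (U : X.Opens), x ∈ U ∧
      (∀ ξ ∈ U, (∀ ξ' : X, ξ' ⤳ ξ → ξ' = ξ) → ∀ η : Y, η ⤳ f ξ → η = f ξ) ∧
      (∀ ζ ∈ U, (∀ ζ' : X, f ζ' = f ζ → ζ' ⤳ ζ → ζ' = ζ) → tr f ζ = e) := by
  obtain ⟨e, U, hxU, hE1, hE2⟩ := h
  refine ⟨e, U, hxU, ?_, ?_⟩
  · intro ξ hξU hmax
    let ξU : U.toScheme := ⟨ξ, hξU⟩
    have hcomp : closure ({ξU} : Set U.toScheme) ∈ irreducibleComponents (U.toScheme : Type u) := by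
      refine (AffPts.closure_mem_irreducibleComponents_iff (X := U.toScheme) ξU).mpr ?_
      intro y hy
      have h1 : U.ι y ⤳ U.ι ξU := hy.map U.ι.continuous
      have h2 : U.ι y = ξ := hmax _ h1
      exact U.ι.isOpenEmbedding.injective h2
    obtain ⟨W, hW, -, hcl⟩ := hE1 _ hcomp
    have h3 : closure ({f ξ} : Set Y) = W := by
      rw [← hcl]
      have h4 := closure_image_closure (s := ({ξU} : Set U.toScheme)) (U.ι ≫ f).continuous
      rw [Set.image_singleton] at h4
      exact h4.symm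
    rw [← h3] at hW
    exact (AffPts.closure_mem_irreducibleComponents_iff (f ξ)).mp hW
  · intro ζ hζU hmax
    let x' : U.toScheme := ⟨ζ, hζU⟩
    have hcomp : closure ({(U.ι ≫ f).asFiber x'} : Set ((U.ι ≫ f).fiber ((U.ι ≫ f) x'))) ∈
        irreducibleComponents ((U.ι ≫ f).fiber ((U.ι ≫ f) x') : Type u) := by
      rw [AffPts.closure_mem_irreducibleComponents_iff]
      intro w hw
      have h1 : (U.ι ≫ f).fiberι _ w ⤳ x' := by
        have := hw.map ((U.ι ≫ f).fiberι _).continuous
        rwa [(U.ι ≫ f).fiberι_asFiber] at this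
      have h2 : (U.ι ≫ f) ((U.ι ≫ f).fiberι _ w) = (U.ι ≫ f) x' := by
        have : (U.ι ≫ f).fiberι _ w ∈ Set.range ((U.ι ≫ f).fiberι ((U.ι ≫ f) x')) := ⟨w, rfl⟩
        rw [(U.ι ≫ f).range_fiberι] at this
        exact this
      have h3 : U.ι ((U.ι ≫ f).fiberι _ w) = ζ := hmax _ h2 (h1.map U.ι.continuous)
      have h4 : (U.ι ≫ f).fiberι _ w = x' := U.ι.isOpenEmbedding.injective h3
      apply ((U.ι ≫ f).fiberι _).isEmbedding.injective
      rw [h4, (U.ι ≫ f).fiberι_asFiber]
    have h5 := hE2 x' _ hcomp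
    rw [dim_closure_asFiber (U.ι ≫ f) x'] at h5
    have h6 : tr (U.ι ≫ f) x' = e := by exact_mod_cast h5
    rw [← h6, tr_comp_openImmersion U.ι f x']
    rfl

/-- Under the fibre condition of equidimensionality, the local dimension of the fibre at `x` is
`e`. -/
theorem tr_add_G_eq_of_points [IsLocallyNoetherian Y] (f : X ⟶ Y) [LocallyOfFiniteType f] (x : X)
    (e : ℕ) (U : X.Opens) (hxU : x ∈ U)
    (hE2 : ∀ ζ ∈ U, (∀ ζ' : X, f ζ' = f ζ → ζ' ⤳ ζ → ζ' = ζ) → tr f ζ = e) :
    ((tr f x : ℕ) : ℕ∞) + FibreOrder.G f x = e := by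
  have hne := G_ne_top f x
  obtain ⟨n, hn⟩ := ENat.ne_top_iff_exists.mp hne
  have hn' : (n : ℕ∞) ≤ Order.coheight (⟨x, rfl⟩ : ↥(f ⁻¹' {f x})) := by
    rw [hn]
    rfl
  obtain ⟨p, hhead, hlen⟩ := Order.exists_series_of_le_coheight _ hn'
  set ζ₀ : X := p.last.1 with hζ₀
  have hfζ₀ : f ζ₀ = f x := p.last.2
  obtain ⟨w', hw'⟩ := exists_fibre_point f ζ₀ (f x) hfζ₀
  obtain ⟨z', hle, hmax⟩ := FibreOrder.exists_isMax_ge w'
  set ζ : X := f.fiberι (f x) z' with hζ
  have hfζ : f ζ = f x := by
    have : ζ ∈ Set.range (f.fiberι (f x)) := ⟨z', rfl⟩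
    rw [f.range_fiberι] at this
    exact this
  have hζζ₀ : ζ ⤳ ζ₀ := by
    rw [← hw']
    exact (show z' ⤳ w' from hle).map (f.fiberι (f x)).continuous
  have hζ₀x : ζ₀ ⤳ x := by
    have h1 : p.head ≤ p.last := LTSeries.head_le_last p
    rw [hhead] at h1
    exact h1
  have hζx : ζ ⤳ x := hζζ₀.trans hζ₀x
  have hζmax : ∀ ζ' : X, f ζ' = f ζ → ζ' ⤳ ζ → ζ' = ζ := by
    intro ζ' hfζ' hsp
    obtain ⟨z'', hz''⟩ := exists_fibre_point f ζ' (f x) (hfζ'.trans hfζ)
    have h1 : z'' ⤳ z' := by
      rw [← (f.fiberι (f x)).isEmbedding.isInducing.specializes_iff, hz'']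
      exact hsp
    have h2 : z' ⤳ z'' := hmax (show z' ≤ z'' from h1)
    have h3 : ζ ⤳ ζ' := by
      rw [← hz'']
      exact h2.map (f.fiberι (f x)).continuous
    exact (Specializes.antisymm hsp h3).eq
  have hζU : ζ ∈ U := hζx.mem_open U.isOpen hxU
  have he := hE2 ζ hζU hζmax
  -- lower bound for `tr f ζ`
  let c : Fin (p.length + 1) → X := fun i => (p i).1
  have hc : StrictMono c := fun i j hij => p.strictMono hij
  have hfc : ∀ i, f (c i) = f x := fun i => (p i).2
  have h1 := tr_add_le_of_strictMono f c hc (fun i => (hfc i).trans (hfc 0).symm) (Fin.last _)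
  have hc0 : c 0 = x := congrArg Subtype.val hhead
  have hcl : c (Fin.last _) = ζ₀ := rfl
  rw [hc0, hcl] at h1
  simp only [Fin.val_last] at h1
  have h2 : tr f ζ₀ ≤ tr f ζ := tr_le_of_le f (show ζ₀ ≤ ζ from hζζ₀) (hfζ₀.trans hfζ.symm)
  -- upper bound
  have h3 := tr_add_G_le f hζx hfζ
  have hGζ : FibreOrder.G f ζ = 0 := (G_eq_zero_iff f ζ).mpr hζmax
  rw [hGζ, add_zero, ← hn] at h3
  have h4 : tr f ζ ≤ tr f x + n := by exact_mod_cast h3
  rw [← hn]
  have h5 : tr f x + n = e := by omega
  exact_mod_cast h5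

end Groth.Agent.Lib.Helper24.FibreDim
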