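import Mathlib
import Groth.Agent.Lib.Helper24.FibreDim.LocalUC
import Groth.Agent.Lib.Helper7.LocQuotDim

/-!
# The dimension inequality when only the localization `A_p` is Noetherian (helper24)
-/

set_option autoImplicit false
set_option linter.style.haveILetI false
universe u
open scoped Cardinal

namespace Groth.Agent.Lib.Helper24.FibreDim

open Groth.Agent.Lib.lead Groth.Agent.Lib.Helper7

/-- The dimension inequality when only the localization of `A` at `p` is Noetherian. -/
theorem height_add_le_local {A B : Type u} [CommRing A] [CommRing B] [Algebra A B]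
    [Algebra.FiniteType A B] (p : Ideal A) [p.IsPrime]
    (A' : Type u) [CommRing A'] [Algebra A A'] [IsLocalization.AtPrime A' p] [IsNoetherianRing A']
    (P : Ideal B) [P.IsPrime] [P.LiesOver p]
    (n E : ℕ) (hn : Algebra.trdeg (A ⧸ p) (B ⧸ P) = n)
    (hE : ∀ Q ∈ minimalPrimes B, Q ≤ P → Algebra.trdeg (A ⧸ Q.under A) (B ⧸ Q) ≤ E) :
    P.height + n ≤ p.height + E := by
  set MB := Algebra.algebraMapSubmonoid B p.primeCompl with hMB
  let B' := Localization MB
  letI : Algebra A' B' := localizationAlgebra p.primeCompl B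
  haveI : IsScalarTower A A' B' := isScalarTower_localizationAlgebra _ _
  haveI : Algebra.FiniteType A' B' := by
    haveI : IsLocalization (Submonoid.map (algebraMap A B) p.primeCompl) B' :=
      inferInstanceAs (IsLocalization MB _)
    have h := RingHom.finiteType_localizationPreserves (algebraMap A B) p.primeCompl A' B'
      (RingHom.finiteType_algebraMap.mpr inferInstance)
    exact RingHom.finiteType_algebraMap.mp h
  have hdisjP : Disjoint (MB : Set B) (P : Set B) := by
    rw [Set.disjoint_left]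
    rintro _ ⟨a, ha, rfl⟩ haP
    apply ha
    rw [P.over_def p]
    exact haP
  set P' : Ideal B' := P.map (algebraMap B B') with hP'
  haveI : P'.IsPrime := IsLocalization.isPrime_of_isPrime_disjoint MB B' P inferInstance hdisjP
  have hPu : P'.under B = P := IsLocalization.under_map_of_isPrime_disjoint MB B' inferInstance hdisjP
  set p' : Ideal A' := P'.under A' with hp'
  haveI : P'.LiesOver p' := ⟨rfl⟩
  have hunder : ∀ I : Ideal B', (I.under A').under A = (I.under B).under A := by
    intro I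
    simp only [Ideal.under, Ideal.comap_comap]
    rw [← IsScalarTower.algebraMap_eq A A' B', ← IsScalarTower.algebraMap_eq A B B']
  have hp'u : p'.under A = p := by
    rw [hp', hunder, hPu]
    exact (P.over_def p).symm
  have hminB : ∀ Q : Ideal B', Q ∈ minimalPrimes B' → Q.under B ∈ minimalPrimes B := by
    intro Q hQ
    have h := IsLocalization.minimalPrimes_map MB B' (⊥ : Ideal B)
    rw [Ideal.map_bot] at h
    have hQ' : Q ∈ (⊥ : Ideal B').minimalPrimes := hQ
    rw [h] at hQ'
    exact hQ'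
  have hn' : Algebra.trdeg (A' ⧸ p') (B' ⧸ P') = n := by
    rw [trdeg_localization p.primeCompl p' P' p P hp'u hPu, hn]
  have hE' : ∀ Q ∈ minimalPrimes B', Q ≤ P' →
      Algebra.trdeg (A' ⧸ Q.under A') (B' ⧸ Q) ≤ E := by
    intro Q hQ hle
    haveI : Q.IsPrime := hQ.1.1
    haveI : Q.LiesOver (Q.under A') := ⟨rfl⟩
    haveI : (Q.under B).LiesOver ((Q.under B).under A) := ⟨rfl⟩
    have h1 : (Q.under B) ≤ P := by
      rw [← hPu]
      exact Ideal.comap_mono hle
    rw [trdeg_localization p.primeCompl (Q.under A') Q ((Q.under B).under A) (Q.under B)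
      (hunder Q) rfl]
    exact hE _ (hminB Q hQ) h1
  have key := NonDomainDim.height_add_le p' P' n E hn' hE'
  have h1 : P'.height = P.height := by
    rw [← IsLocalization.height_under MB P', hPu]
  have h2 : p'.height = p.height := by
    rw [← IsLocalization.height_under p.primeCompl p', hp'u]
  rw [← h1, ← h2]
  exact key

/-- The dimension inequality for a pair of primes `Q ≤ P` of a finite type `A`-algebra `B`, when the
localization of `A` at `p = P ∩ A` is Noetherian:
`ht(P/Q) + trdeg κ(P)/κ(p) ≤ ht(p/q) + trdeg κ(Q)/κ(q)`. -/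
theorem height_pair_le_local {A B : Type u} [CommRing A] [CommRing B] [Algebra A B]
    [Algebra.FiniteType A B] (p : Ideal A) [p.IsPrime]
    (A' : Type u) [CommRing A'] [Algebra A A'] [IsLocalization.AtPrime A' p] [IsNoetherianRing A']
    (P : Ideal B) [P.IsPrime] [P.LiesOver p]
    (Q : Ideal B) [Q.IsPrime] (hQP : Q ≤ P)
    (n E : ℕ) (hn : Algebra.trdeg (A ⧸ p) (B ⧸ P) = n)
    (hE : Algebra.trdeg (A ⧸ Q.under A) (B ⧸ Q) = E) :
    (P.map (Ideal.Quotient.mk Q)).height + n ≤
      (p.map (Ideal.Quotient.mk (Q.under A))).height + E := by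
  set q : Ideal A := Q.under A with hq
  haveI : Q.LiesOver q := ⟨rfl⟩
  have hqp : q ≤ p := by
    rw [P.over_def p]
    exact Ideal.comap_mono hQP
  haveI : Algebra.FiniteType (A ⧸ q) (B ⧸ Q) := NonDomainDim.finiteType_quotient q Q
  haveI hpbar : (p.map (Ideal.Quotient.mk q)).IsPrime :=
    Ideal.map_isPrime_of_surjective Ideal.Quotient.mk_surjective (by rwa [Ideal.mk_ker])
  haveI hPbar : (P.map (Ideal.Quotient.mk Q)).IsPrime :=
    Ideal.map_isPrime_of_surjective Ideal.Quotient.mk_surjective (by rwa [Ideal.mk_ker])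
  haveI := NonDomainDim.liesOver_map_mk q p Q P hqp hQP
  -- the localization of `A ⧸ q`
  let Abar' := A' ⧸ q.map (algebraMap A A')
  haveI : IsLocalization.AtPrime Abar' (p.map (Ideal.Quotient.mk q)) := by
    unfold IsLocalization.AtPrime
    rw [← LocQuotDim.algebraMapSubmonoid_primeCompl A p q hqp]
    infer_instance
  haveI : IsNoetherianRing Abar' := inferInstance
  have hinj : Function.Injective (algebraMap (A ⧸ q) (B ⧸ Q)) := by
    rw [injective_iff_map_eq_zero]
    intro r hr
    obtain ⟨r, rfl⟩ := Ideal.Quotient.mk_surjective r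
    rw [Ideal.Quotient.algebraMap_mk_of_liesOver, Ideal.Quotient.eq_zero_iff_mem] at hr
    rw [Ideal.Quotient.eq_zero_iff_mem]
    exact hr
  have hbot : (⊥ : Ideal (B ⧸ Q)).under (A ⧸ q) = ⊥ := by
    rw [Ideal.under, ← RingHom.ker_eq_comap_bot]
    exact (RingHom.injective_iff_ker_eq_bot _).mp hinj
  have hn' : Algebra.trdeg ((A ⧸ q) ⧸ p.map (Ideal.Quotient.mk q))
      ((B ⧸ Q) ⧸ P.map (Ideal.Quotient.mk Q)) = n := by
    rw [NonDomainDim.trdeg_doubleQuot q p Q P hqp hQP, hn]
  have hE' : Algebra.trdeg ((A ⧸ q) ⧸ (⊥ : Ideal (B ⧸ Q)).under (A ⧸ q))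
      ((B ⧸ Q) ⧸ (⊥ : Ideal (B ⧸ Q))) = E := by
    rw [← hE]
    haveI : Nontrivial ((A ⧸ q) ⧸ (⊥ : Ideal (B ⧸ Q)).under (A ⧸ q)) :=
      Ideal.Quotient.nontrivial_iff.2 (Ideal.IsPrime.ne_top inferInstance)
    refine NonDomainDim.trdeg_eq_of_ringEquiv
      ((Ideal.quotEquivOfEq hbot).trans (RingEquiv.quotientBot (A ⧸ q)))
      (RingEquiv.quotientBot (B ⧸ Q)) ?_
    intro r
    obtain ⟨r, rfl⟩ := Ideal.Quotient.mk_surjective r
    rfl
  refine height_add_le_local (A := A ⧸ q) (B := B ⧸ Q) (p.map (Ideal.Quotient.mk q)) Abar'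
    (P.map (Ideal.Quotient.mk Q)) n E hn' ?_
  intro Q' hQ' _
  rw [IsDomain.minimalPrimes_eq_singleton_bot] at hQ'
  have hQ'' : Q' = ⊥ := hQ'
  subst hQ''
  exact le_of_eq hE'

end Groth.Agent.Lib.Helper24.FibreDim
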