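import Mathlib
import Groth.Agent.Lib.Helper24.FibreDim.LocalNoeth
import Groth.Agent.Lib.Helper24.FibreDim.Main3448

/-!
# Fibre dimension at a point vs. generic fibre dimension over a Noetherian local ring
(Stacks 0B2L-type bound) (helper24)
-/

set_option autoImplicit false
set_option linter.style.haveILetI false
universe u
open AlgebraicGeometry CategoryTheory TopologicalSpace Topology
open Groth.Agent.Lib.Helper7 Groth.Agent.Lib.lead

namespace Groth.Agent.Lib.Helper24.FibreDim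

variable {X Y : Scheme.{u}}

theorem G_ne_top' (f : X ⟶ Y) [LocallyOfFiniteType f] (v : X) :
    FibreOrder.G f v ≠ ⊤ := by
  haveI : IsLocallyNoetherian (f.fiber (f v)) :=
    LocallyOfFiniteType.isLocallyNoetherian (f.fiberToSpecResidueField (f v))
  have h1 : ringKrullDim ((f.fiber (f v)).presheaf.stalk (f.asFiber v)) ≠ ⊤ := ringKrullDim_ne_top
  rw [FibreOrder.ringKrullDim_fiber_stalk] at h1
  intro h
  rw [h] at h1
  exact h1 rfl

/-- A maximal point of the fibre above `x` computing the local dimension of the fibre at `x`. -/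
theorem exists_max_fibre_point (f : X ⟶ Y) [LocallyOfFiniteType f] (x : X) :
    ∃ z : X, f z = f x ∧ z ⤳ x ∧ FibreOrder.G f z = 0 ∧
      ((tr f z : ℕ) : ℕ∞) = ((tr f x : ℕ) : ℕ∞) + FibreOrder.G f x := by
  obtain ⟨g, hg⟩ := ENat.ne_top_iff_exists.mp (G_ne_top' f x)
  obtain ⟨p, hhead, hlen⟩ := Order.exists_series_of_le_coheight
    (⟨x, rfl⟩ : ↥(f ⁻¹' {f x})) (n := g) (by
      show (g : ℕ∞) ≤ FibreOrder.G f x
      rw [← hg])
  have hz : f (p.last).1 = f x := (p.last).2
  have hzx : (p.last).1 ⤳ x := by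
    have h1 : p.head ≤ p.last := LTSeries.head_le_last p
    rw [hhead] at h1
    exact h1
  have hG0 : FibreOrder.G f (p.last).1 = 0 := by
    have h1 := FibreOrder.coheight_last_add_length_le p
    rw [hhead, hlen] at h1
    have h2 : Order.coheight (⟨x, rfl⟩ : ↥(f ⁻¹' {f x})) = g := hg.symm
    rw [h2] at h1
    have h3 : Order.coheight p.last = FibreOrder.G f (p.last).1 :=
      FibreOrder.coheight_eq_G f (p.last).1 (f x) hz
    rw [h3] at h1
    have h4 : FibreOrder.G f (p.last).1 ≠ ⊤ := G_ne_top' f _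
    obtain ⟨a, ha⟩ := ENat.ne_top_iff_exists.mp h4
    rw [← ha] at h1 ⊢
    have : a + g ≤ g := by exact_mod_cast h1
    have : a = 0 := by omega
    rw [this]
    rfl
  refine ⟨(p.last).1, hz, hzx, hG0, ?_⟩
  apply le_antisymm
  · have h1 := tr_add_G_le f hzx hz
    rw [hG0, add_zero] at h1
    exact h1
  · rw [← hg]
    let c : Fin (p.length + 1) → X := fun i => (p i).1
    have hc : StrictMono c := fun i j hij => p.strictMono hij
    have hf : ∀ i, f (c i) = f (c 0) := fun i => ((p i).2 : f (p i).1 = f x).trans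
      ((p 0).2 : f (p 0).1 = f x).symm
    have h1 := tr_add_le_of_strictMono f c hc hf (Fin.last p.length)
    have h2 : c 0 = x := by
      show (p.head).1 = x
      rw [hhead]
    have h3 : c (Fin.last p.length) = (p.last).1 := rfl
    rw [h2, h3, Fin.val_last, hlen] at h1
    exact_mod_cast h1

/-- The key inequality: `η ⤳ z` with different images, local ring at `f z` Noetherian. -/
theorem tr_add_one_le (f : X ⟶ Y) [LocallyOfFiniteType f] (z η : X) (hηz : η ⤳ z)
    (hne : f η ≠ f z) [IsNoetherianRing (Y.presheaf.stalk (f z))] :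
    ((tr f z : ℕ) : WithBot ℕ∞) + 1 ≤
      ((tr f η : ℕ) : WithBot ℕ∞) + ringKrullDim (Y.presheaf.stalk (f z)) := by
  obtain ⟨V, hV, U, hU, e, hzU⟩ := exists_chart f z
  have hηU : η ∈ U := hηz.mem_open U.isOpen hzU
  letI : Algebra Γ(Y, V) Γ(X, U) := (f.appLE V U e).hom.toAlgebra
  have halg : algebraMap Γ(Y, V) Γ(X, U) = (f.appLE V U e).hom := rfl
  haveI : Algebra.FiniteType Γ(Y, V) Γ(X, U) := f.finiteType_appLE hV hU e
  set p : Ideal Γ(Y, V) := (hV.primeIdealOf ⟨f z, e hzU⟩).asIdeal with hp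
  set P : Ideal Γ(X, U) := (hU.primeIdealOf ⟨z, hzU⟩).asIdeal with hP
  set Q : Ideal Γ(X, U) := (hU.primeIdealOf ⟨η, hηU⟩).asIdeal with hQ
  haveI : P.LiesOver p := ResTrdegBridge.liesOver_primeIdealOf f z hV hU e hzU (e hzU) halg
  haveI : p.IsPrime := (hV.primeIdealOf ⟨f z, e hzU⟩).isPrime
  haveI : P.IsPrime := (hU.primeIdealOf ⟨z, hzU⟩).isPrime
  haveI : Q.IsPrime := (hU.primeIdealOf ⟨η, hηU⟩).isPrime
  have hQover : Q.LiesOver (hV.primeIdealOf ⟨f η, e hηU⟩).asIdeal :=
    ResTrdegBridge.liesOver_primeIdealOf f η hV hU e hηU (e hηU) halg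
  have hQu : (hV.primeIdealOf ⟨f η, e hηU⟩).asIdeal = Q.under Γ(Y, V) := hQover.over
  have hQP : Q ≤ P := (AffPts.primeIdealOf_le_iff hU ⟨η, hηU⟩ ⟨z, hzU⟩).mpr hηz
  letI algY := TopCat.Presheaf.algebra_section_stalk Y.presheaf (⟨f z, e hzU⟩ : V)
  haveI locY : IsLocalization.AtPrime (Y.presheaf.stalk (f z)) p :=
    hV.isLocalization_stalk ⟨f z, e hzU⟩
  have hn : Algebra.trdeg (Γ(Y, V) ⧸ p) (Γ(X, U) ⧸ P) = tr f z :=
    trdeg_chart f hV hU e z hzU halg p hp
  have hE : Algebra.trdeg (Γ(Y, V) ⧸ Q.under Γ(Y, V)) (Γ(X, U) ⧸ Q) = tr f η :=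
    trdeg_chart f hV hU e η hηU halg (Q.under Γ(Y, V)) hQu.symm
  have key := height_pair_le_local p (Y.presheaf.stalk (f z)) P Q hQP (tr f z) (tr f η) hn hE
  -- `P/Q` is a nonzero prime
  have hqp : Q.under Γ(Y, V) ≤ p := by
    rw [P.over_def p]
    exact Ideal.comap_mono hQP
  have hPbar : (P.map (Ideal.Quotient.mk Q)).IsPrime :=
    Ideal.map_isPrime_of_surjective Ideal.Quotient.mk_surjective (by rwa [Ideal.mk_ker])
  have hne_bot : P.map (Ideal.Quotient.mk Q) ≠ ⊥ := by
    intro h1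
    have h2 : P ≤ Q := by
      rw [Ideal.map_eq_bot_iff_le_ker, Ideal.mk_ker] at h1
      exact h1
    have h3 : P = Q := le_antisymm h2 hQP
    apply hne
    have h4 : hV.primeIdealOf ⟨f η, e hηU⟩ = hV.primeIdealOf ⟨f z, e hzU⟩ := by
      apply PrimeSpectrum.ext
      show (hV.primeIdealOf ⟨f η, e hηU⟩).asIdeal = p
      rw [hQu, P.over_def p, h3]
    exact congrArg Subtype.val (AffPts.primeIdealOf_injective hV h4)
  have hpos : 1 ≤ (P.map (Ideal.Quotient.mk Q)).height := by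
    have hlt : (⊥ : Ideal (Γ(X, U) ⧸ Q)) < P.map (Ideal.Quotient.mk Q) := bot_lt_iff_ne_bot.mpr hne_bot
    have := Ideal.height_add_one_le_of_lt_of_isPrime hlt
    exact le_trans (by simp) this
  have hht : (p.map (Ideal.Quotient.mk (Q.under Γ(Y, V)))).height ≤ p.height :=
    NonDomainDim.height_map_mk_le _ p hqp
  have hdim : ringKrullDim (Y.presheaf.stalk (f z)) = p.height :=
    IsLocalization.AtPrime.ringKrullDim_eq_height p (Y.presheaf.stalk (f z))
  rw [hdim]
  have h5 : (1 : ℕ∞) + (tr f z : ℕ) ≤ p.height + (tr f η : ℕ) :=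
    calc (1 : ℕ∞) + (tr f z : ℕ) ≤ (P.map (Ideal.Quotient.mk Q)).height + (tr f z : ℕ) :=
          add_le_add hpos le_rfl
      _ ≤ (p.map (Ideal.Quotient.mk (Q.under Γ(Y, V)))).height + (tr f η : ℕ) := key
      _ ≤ p.height + (tr f η : ℕ) := add_le_add hht le_rfl
  rw [add_comm, add_comm ((tr f η : ℕ) : WithBot ℕ∞)]
  exact_mod_cast h5

theorem main1553 (f : X ⟶ Y) [LocallyOfFiniteType f]
    (x : X) [IsNoetherianRing (Y.presheaf.stalk (f.base x))] (d : ℕ)
    (hgen : ∀ Z ∈ irreducibleComponents (X : Type u), x ∈ Z → ∀ η : X, IsGenericPoint η Z →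
      f.base η ≠ f.base x ∧ FlatMor.fibreDimAt f η = d) :
    FlatMor.fibreDimAt f x + 1 ≤
      (d : WithBot ℕ∞) + ringKrullDim (Y.presheaf.stalk (f.base x)) := by
  obtain ⟨z, hfz, hzx, -, htr⟩ := exists_max_fibre_point f x
  obtain ⟨Z, hZ, hsub⟩ := exists_mem_irreducibleComponents_subset_of_isIrreducible
    (closure ({z} : Set X)) isIrreducible_singleton.closure
  have hZc : IsClosed Z := isClosed_of_mem_irreducibleComponents Z hZ
  obtain ⟨η, hη⟩ := QuasiSober.sober hZ.1 hZc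
  have hzZ : z ∈ Z := hsub (subset_closure rfl)
  have hxZ : x ∈ Z := hzx.mem_closed hZc hzZ
  have hηz : η ⤳ z := hη.specializes hzZ
  obtain ⟨hne, hfd⟩ := hgen Z hZ hxZ η hη
  -- `η` is maximal in its fibre
  have hG : FibreOrder.G f η = 0 := by
    rw [G_eq_zero_iff]
    intro z' _ hz'η
    have h1 : Z ⊆ closure {z'} := by
      rw [← hη.def]
      exact hz'η.closure_subset
    have h2 : closure {z'} = Z :=
      (hZ.2 isIrreducible_singleton.closure h1).antisymm h1 |> fun h => h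
    have h3 : IsGenericPoint z' Z := h2
    exact h3.eq hη
  have hd : ((tr f η : ℕ) : WithBot ℕ∞) = d := by
    rw [fibreDimAt_eq_tr_add_G f η, hG, add_zero] at hfd
    exact hfd
  have hne' : f η ≠ f z := by
    rw [hfz]
    exact hne
  haveI : IsNoetherianRing (Y.presheaf.stalk (f z)) := by
    rw [hfz]
    infer_instance
  have key := tr_add_one_le f z η hηz hne'
  rw [hd, hfz] at key
  rw [fibreDimAt_eq_tr_add_G f x, ← htr]
  exact key

end Groth.Agent.Lib.Helper24.FibreDim
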