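import Mathlib
import Groth.Agent.Lib.Helper24.FibreDim.Equidim
import Groth.Agent.Lib.Helper24.FibreDim.Main1553

/-!
# Equidimensionality at a point from pointwise data; closed immersions and `tr` (helper24)
-/

set_option autoImplicit false
set_option linter.style.haveILetI false
universe u
open AlgebraicGeometry CategoryTheory TopologicalSpace Topology
open Groth.Agent.Lib.Helper7 Groth.Agent.Lib.lead

namespace Groth.Agent.Lib.Helper24.FibreDim

variable {X Y : Scheme.{u}}

theorem residueFieldMap_bijective_of_surjectiveOnStalks {X'' : Scheme.{u}} (j : X'' ⟶ X)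
    [SurjectiveOnStalks j] (w : X'') : Function.Bijective (j.residueFieldMap w).hom := by
  refine ⟨(j.residueFieldMap w).hom.injective, ?_⟩
  intro k
  obtain ⟨a, rfl⟩ := X''.residue_surjective w k
  obtain ⟨b, rfl⟩ := j.stalkMap_surjective w a
  refine ⟨X.residue (j w) b, ?_⟩
  have h := Scheme.residue_residueFieldMap j w
  exact congrArg (fun φ => φ.hom b) h

/-- Composition with a morphism inducing isomorphisms on residue fields does not change the
residue transcendence degree. -/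
theorem tr_comp_of_bijective {X'' : Scheme.{u}} (j : X'' ⟶ X) (f : X ⟶ Y)
    [LocallyOfFiniteType f] [LocallyOfFiniteType (j ≫ f)] (w : X'')
    (hj : Function.Bijective (j.residueFieldMap w).hom) : tr (j ≫ f) w = tr f (j w) := by
  have h1 := tr_spec (j ≫ f) w
  have h2 := tr_spec f (j w)
  letI a1 : Algebra (Y.residueField (f (j w))) (X.residueField (j w)) :=
    (f.residueFieldMap (j w)).hom.toAlgebra
  letI a2 : Algebra (Y.residueField (f (j w))) (X''.residueField w) :=
    ((j ≫ f).residueFieldMap w).hom.toAlgebra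
  have h3 : Algebra.trdeg (Y.residueField (f (j w))) (X.residueField (j w)) =
      Algebra.trdeg (Y.residueField (f (j w))) (X''.residueField w) := by
    refine NonDomainDim.trdeg_eq_of_ringEquiv (RingEquiv.refl _)
      (RingEquiv.ofBijective (j.residueFieldMap w).hom hj) ?_
    intro r
    show (j.residueFieldMap w).hom ((f.residueFieldMap (j w)).hom r) =
      ((j ≫ f).residueFieldMap w).hom r
    rw [Scheme.residueFieldMap_comp]
    rfl
  have h4 : ((tr (j ≫ f) w : ℕ) : Cardinal.{u}) = (tr f (j w) : ℕ) := by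
    rw [← h2, ← h1]
    exact h3.symm
  exact_mod_cast h4

/-- The dimension of the closure of a point of a fibre. -/
theorem dim_closure_fibre_point (h : X ⟶ Y) [LocallyOfFiniteType h] :
    ∀ (y : Y) (v : X) (_ : h v = y) (ζF : h.fiber y) (_ : h.fiberι y ζF = v),
      topologicalKrullDim ↥(closure ({ζF} : Set (h.fiber y))) = ((tr h v : ℕ) : WithBot ℕ∞) := by
  intro y v hv
  subst hv
  intro ζF hζ
  have h1 : ζF = h.asFiber v := by
    apply (h.fiberι (h v)).isEmbedding.injective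
    rw [hζ, h.fiberι_asFiber]
  rw [h1]
  exact dim_closure_asFiber h v

/-- Equidimensionality at a point from pointwise data (irreducible base). -/
theorem isEquidimAt_of_points [IrreducibleSpace Y] (g : X ⟶ Y) [LocallyOfFiniteType g] (w₀ : X)
    (e' : ℕ) (U' : X.Opens) (hw : w₀ ∈ U')
    (ha : ∀ ξ ∈ U', (∀ ξ' : X, ξ' ⤳ ξ → ξ' = ξ) → g ξ = genericPoint Y)
    (hb : ∀ ζ ∈ U', (∀ ζ' : X, g ζ' = g ζ → ζ' ⤳ ζ → ζ' = ζ) → tr g ζ = e') :
    EGA43.IsEquidimAt g w₀ := by
  refine ⟨e', U', hw, ?_, ?_⟩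
  · refine fun (Z : Set U'.toScheme) (hZ : Z ∈ irreducibleComponents (U'.toScheme : Type u)) => ?_
    refine ⟨Set.univ, ?_, trivial, ?_⟩
    · rw [irreducibleComponents_eq_singleton]
      rfl
    · have hZc : IsClosed Z := isClosed_of_mem_irreducibleComponents Z hZ
      obtain ⟨ξ, hξ⟩ := QuasiSober.sober hZ.1 hZc
      have hmax : ∀ ξ' : X, ξ' ⤳ U'.ι ξ → ξ' = U'.ι ξ := by
        intro ξ' hξ'
        have hξ'U : ξ' ∈ U' := hξ'.mem_open U'.isOpen ξ.2
        let ξ'' : U'.toScheme := ⟨ξ', hξ'U⟩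
        have h1 : ξ'' ⤳ ξ := U'.ι.isOpenEmbedding.isInducing.specializes_iff.mp hξ'
        have h2 : Z ⊆ closure {ξ''} := by
          rw [← hξ.def]
          exact h1.closure_subset
        have h3 : closure {ξ''} = Z := (hZ.2 isIrreducible_singleton.closure h2).antisymm h2
        have h4 : IsGenericPoint ξ'' Z := h3
        have h5 : ξ'' = ξ := h4.eq hξ
        exact congrArg U'.ι h5
      have hgen := ha (U'.ι ξ) ξ.2 hmax
      apply Set.eq_univ_of_univ_subset
      rw [← (genericPoint_spec Y).def]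
      apply closure_mono
      rw [Set.singleton_subset_iff]
      exact ⟨ξ, hξ.mem, hgen⟩
  · refine fun (x' : U'.toScheme) Z hZ => ?_
    have hZc : IsClosed Z := isClosed_of_mem_irreducibleComponents Z hZ
    obtain ⟨ζF, hζF⟩ := QuasiSober.sober hZ.1 hZc
    have hhζ : (U'.ι ≫ g) ((U'.ι ≫ g).fiberι ((U'.ι ≫ g) x') ζF) = (U'.ι ≫ g) x' := by
      have : (U'.ι ≫ g).fiberι ((U'.ι ≫ g) x') ζF ∈
          Set.range ((U'.ι ≫ g).fiberι ((U'.ι ≫ g) x')) := ⟨ζF, rfl⟩
      rw [(U'.ι ≫ g).range_fiberι] at this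
      exact this
    have hmaxF : ∀ w : (U'.ι ≫ g).fiber ((U'.ι ≫ g) x'), w ⤳ ζF → w = ζF := by
      intro w hw
      have h2 : Z ⊆ closure {w} := by
        rw [← hζF.def]
        exact hw.closure_subset
      have h3 : closure {w} = Z := (hZ.2 isIrreducible_singleton.closure h2).antisymm h2
      have h4 : IsGenericPoint w Z := h3
      exact h4.eq hζF
    have hmax : ∀ ζ' : X, g ζ' = g (U'.ι ((U'.ι ≫ g).fiberι ((U'.ι ≫ g) x') ζF)) →
        ζ' ⤳ U'.ι ((U'.ι ≫ g).fiberι ((U'.ι ≫ g) x') ζF) →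
        ζ' = U'.ι ((U'.ι ≫ g).fiberι ((U'.ι ≫ g) x') ζF) := by
      intro ζ' hgζ' hζ'
      have hζ'U : ζ' ∈ U' :=
        hζ'.mem_open U'.isOpen ((U'.ι ≫ g).fiberι ((U'.ι ≫ g) x') ζF).2
      let ζ'' : U'.toScheme := ⟨ζ', hζ'U⟩
      have h1 : ζ'' ⤳ (U'.ι ≫ g).fiberι ((U'.ι ≫ g) x') ζF :=
        U'.ι.isOpenEmbedding.isInducing.specializes_iff.mp hζ'
      have h2 : (U'.ι ≫ g) ζ'' = (U'.ι ≫ g) x' := by
        rw [← hhζ]
        exact hgζ'
      obtain ⟨w, hw⟩ := exists_fibre_point (U'.ι ≫ g) ζ'' ((U'.ι ≫ g) x') h2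
      have h3 : w ⤳ ζF := by
        rw [← ((U'.ι ≫ g).fiberι ((U'.ι ≫ g) x')).isEmbedding.isInducing.specializes_iff, hw]
        exact h1
      have h4 : w = ζF := hmaxF w h3
      have h5 : ζ'' = (U'.ι ≫ g).fiberι ((U'.ι ≫ g) x') ζF := by
        rw [← hw, h4]
      exact congrArg U'.ι h5
    have htr := hb _ ((U'.ι ≫ g).fiberι ((U'.ι ≫ g) x') ζF).2 hmax
    have h6 : tr (U'.ι ≫ g) ((U'.ι ≫ g).fiberι ((U'.ι ≫ g) x') ζF) = e' := by
      rw [tr_comp_openImmersion U'.ι g]
      exact htr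
    have h7 := dim_closure_fibre_point (U'.ι ≫ g) ((U'.ι ≫ g) x') _ hhζ ζF rfl
    rw [hζF.def, h6] at h7
    exact h7

end Groth.Agent.Lib.Helper24.FibreDim
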