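import Mathlib
import Groth.Agent.Lib.Helper24.FibreDim.EquidimConv
import Groth.Agent.Lib.Helper24.LocalDim.Scheme
import Groth.Agent.Lib.Helper18.Chev.Main

/-!
# EGA IV 13.3.x: closed irreducible subsets of the expected codimension in an equidimensional
morphism (helper24)
-/

set_option autoImplicit false
set_option linter.style.haveILetI false
universe u
open AlgebraicGeometry CategoryTheory TopologicalSpace Topology
open Groth.Agent.Lib.Helper7 Groth.Agent.Lib.lead Groth.Agent.Lib.Helper18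

namespace Groth.Agent.Lib.Helper24.FibreDim

variable {X Y : Scheme.{u}}

theorem tr_le_fibreDimAt (g : X ⟶ Y) [LocallyOfFiniteType g] {ζ w : X} (hζw : ζ ⤳ w)
    (hg : g ζ = g w) : ((tr g ζ : ℕ) : WithBot ℕ∞) ≤ FlatMor.fibreDimAt g w := by
  rw [fibreDimAt_eq_tr_add_G g w]
  have h1 := tr_add_G_le g hζw hg
  have h2 : ((tr g ζ : ℕ) : ℕ∞) ≤ ((tr g w : ℕ) : ℕ∞) + FibreOrder.G g w :=
    le_trans (le_add_right le_rfl) h1
  exact_mod_cast h2

theorem fibreDimAt_of_fibre_max (g : X ⟶ Y) [LocallyOfFiniteType g] (z : X)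
    (hmax : ∀ z' : X, g z' = g z → z' ⤳ z → z' = z) :
    FlatMor.fibreDimAt g z = ((tr g z : ℕ) : WithBot ℕ∞) := by
  rw [fibreDimAt_eq_tr_add_G g z, (G_eq_zero_iff g z).mpr hmax, add_zero]
  rfl

theorem exists_max_tr (g : X ⟶ Y) [LocallyOfFiniteType g] (w : X) :
    ∃ z : X, g z = g w ∧ z ⤳ w ∧ (∀ z' : X, g z' = g z → z' ⤳ z → z' = z) ∧
      ((tr g z : ℕ) : WithBot ℕ∞) = FlatMor.fibreDimAt g w := by
  obtain ⟨z, hz, hzw, hG, htr⟩ := exists_max_fibre_point g w
  refine ⟨z, hz, hzw, (G_eq_zero_iff g z).mp hG, ?_⟩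
  rw [fibreDimAt_eq_tr_add_G g w, ← htr]
  rfl

/-- Chevalley: the local fibre dimension does not decrease under specialization. -/
theorem fibreDimAt_mono (g : X ⟶ Y) [LocallyOfFiniteType g] {a b : X} (h : a ⤳ b) :
    FlatMor.fibreDimAt g a ≤ FlatMor.fibreDimAt g b := by
  obtain ⟨m, hm⟩ := Chev.exists_nat_fibreDimAt g b
  have hb : b ∈ {x : X | FlatMor.fibreDimAt g x ≤ m} := le_of_eq hm
  have ha := h.mem_open (Chev.isOpen_fibreDimAt_le g m) hb
  rw [hm]
  exact ha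

/-- The local dimension of `X' ∩ f⁻¹(f x)` is the local fibre dimension of the restriction of `f`
to a closed subscheme with underlying set `X'`. -/
theorem localDim_inter_fibre_eq {X'' : Scheme.{u}} (ι : X'' ⟶ X) (hemb : IsClosedEmbedding ι)
    (f : X ⟶ Y) (X' : Set X) (hr : Set.range ι = X') (w₀ : X'')
    (hx : ι w₀ ∈ X' ∩ f ⁻¹' {f (ι w₀)}) :
    FlatMor.localDim ↥(X' ∩ f ⁻¹' {f (ι w₀)}) ⟨ι w₀, hx⟩ = FlatMor.fibreDimAt (ι ≫ f) w₀ := by
  unfold FlatMor.fibreDimAt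
  set φ := (ι ≫ f).fiberHomeo ((ι ≫ f) w₀) with hφ
  have hφw : φ ((ι ≫ f).asFiber w₀) = ⟨w₀, rfl⟩ := by
    apply Subtype.ext
    rw [hφ, Scheme.Hom.fiberHomeo_apply, Scheme.Hom.fiberι_asFiber]
  let ψ : ↥((ι ≫ f) ⁻¹' {(ι ≫ f) w₀}) → ↥(X' ∩ f ⁻¹' {f (ι w₀)}) := fun a =>
    ⟨ι a.1, ⟨hr ▸ Set.mem_range_self a.1, a.2⟩⟩
  have hψc : Continuous ψ := Continuous.subtype_mk (ι.continuous.comp continuous_subtype_val) _
  have hψ : IsOpenEmbedding ψ := by
    refine ⟨⟨?_, ?_⟩, ?_⟩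
    · refine IsInducing.of_comp hψc continuous_subtype_val ?_
      exact hemb.isInducing.comp IsInducing.subtypeVal
    · intro a b hab
      apply Subtype.ext
      apply hemb.injective
      exact congrArg Subtype.val hab
    · have : Set.range ψ = Set.univ := by
        apply Set.eq_univ_of_forall
        rintro ⟨b, hbX', hbf⟩
        rw [← hr] at hbX'
        obtain ⟨a, rfl⟩ := hbX'
        exact ⟨⟨a, hbf⟩, rfl⟩
      rw [this]
      exact isOpen_univ
  rw [LocalDim.localDim_eq_of_isOpenEmbedding φ φ.isOpenEmbedding, hφw,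
    LocalDim.localDim_eq_of_isOpenEmbedding ψ hψ]

end Groth.Agent.Lib.Helper24.FibreDim

namespace Groth.Agent.Lib.Helper24.FibreDim

variable {X Y : Scheme.{u}}

/-- The core of EGA IV 13.3.x in terms of a closed immersion `ι : X'' ⟶ X` whose image is the
closure of `ι w'`. -/
theorem core4943 [IrreducibleSpace Y] [IsLocallyNoetherian Y] (f : X ⟶ Y)
    [LocallyOfFiniteType f] {X'' : Scheme.{u}} (ι : X'' ⟶ X) [IsClosedImmersion ι]
    (w₀ w' : X'') (hgen : ∀ ξ : X'', w' ⤳ ξ)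
    (hf : EGA43.IsEquidimAt f (ι w₀)) (n : ℕ)
    (hcodim : ringKrullDim (X.presheaf.stalk (ι w')) ≤ n)
    (hdim : FlatMor.fibreDimAt (ι ≫ f) w₀ + n ≤ FlatMor.fibreDimAt f (ι w₀)) :
    ringKrullDim (X.presheaf.stalk (ι w')) = n ∧
      FlatMor.fibreDimAt (ι ≫ f) w₀ + n = FlatMor.fibreDimAt f (ι w₀) ∧
      EGA43.IsEquidimAt (ι ≫ f) w₀ ∧ f (ι w') = genericPoint Y ∧
      ((tr f (ι w') : ℕ) : WithBot ℕ∞) + n = FlatMor.fibreDimAt f (ι w₀) := by
  have hemb : IsClosedEmbedding ι := ι.isClosedEmbedding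
  obtain ⟨e, U, hxU, hE1, hE2⟩ := equidim_points f (ι w₀) hf
  have hx'x : ι w' ⤳ ι w₀ := (hgen w₀).map ι.continuous
  have hx'U : ι w' ∈ U := hx'x.mem_open U.isOpen hxU
  have hfd : ∀ u ∈ U, FlatMor.fibreDimAt f u = (e : WithBot ℕ∞) := by
    intro u hu
    rw [fibreDimAt_eq_tr_add_G f u, tr_add_G_eq_of_points f u e U hu hE2]
    rfl
  obtain ⟨d₀, hd₀⟩ := Chev.exists_nat_fibreDimAt (ι ≫ f) w₀
  -- the generic point of `X''`
  have hw'max : ∀ ξ : X'', ξ ⤳ w' → ξ = w' := fun ξ hξ =>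
    ((hgen ξ).antisymm hξ).eq.symm
  have htr' : tr (ι ≫ f) w' = tr f (ι w') :=
    tr_comp_of_bijective ι f w' (residueFieldMap_bijective_of_surjectiveOnStalks ι w')
  have hfdw' : FlatMor.fibreDimAt (ι ≫ f) w' = ((tr f (ι w') : ℕ) : WithBot ℕ∞) := by
    rw [fibreDimAt_of_fibre_max (ι ≫ f) w' (fun z' _ hz' => hw'max z' hz'), htr']
  have hchev : FlatMor.fibreDimAt (ι ≫ f) w' ≤ FlatMor.fibreDimAt (ι ≫ f) w₀ :=
    fibreDimAt_mono (ι ≫ f) (hgen w₀)
  rw [hfdw', hd₀] at hchev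
  have ht'd₀ : tr f (ι w') ≤ d₀ := by exact_mod_cast hchev
  rw [hd₀, hfd _ hxU] at hdim ⊢
  have hd₀e : d₀ + n ≤ e := by exact_mod_cast hdim
  -- a fibre-maximal point above `x'` and a chain up to it
  obtain ⟨z, hfz, hzx', hzmax, hztr⟩ := exists_max_tr f (ι w')
  rw [hfd _ hx'U] at hztr
  have hztr' : tr f z = e := by exact_mod_cast hztr
  obtain ⟨c, hchead, hclast, hclen⟩ := exists_series_fibre f hzx' hfz
  have hcoh := FibreOrder.coheight_last_add_length_le c
  rw [hchead] at hcoh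
  rw [ringKrullDim_stalk_eq_coheight] at hcodim ⊢
  have hcodim' : Order.coheight (ι w') ≤ (n : ℕ∞) := by exact_mod_cast hcodim
  have hlen : c.length = n ∧ tr f (ι w') + n = e := by
    have h1 : (c.length : ℕ∞) ≤ n :=
      le_trans (le_trans (le_add_left le_rfl) hcoh) hcodim'
    have h1' : c.length ≤ n := by exact_mod_cast h1
    omega
  obtain ⟨hlen1, hlen2⟩ := hlen
  have hcoh_eq : Order.coheight (ι w') = (n : ℕ∞) := by
    apply le_antisymm hcodim'
    rw [← hlen1]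
    exact le_trans (le_add_left le_rfl) hcoh
  have hd₀t : d₀ = tr f (ι w') := by omega
  -- `z` is a maximal point of `X`
  have hzmaxX : ∀ z' : X, z' ⤳ z → z' = z := by
    intro z' hz'
    by_contra hne
    have hle : z ≤ z' := hz'
    have hlt : z < z' := by
      rw [lt_iff_le_not_ge]
      refine ⟨hle, fun hge => hne ?_⟩
      have hge' : z ⤳ z' := hge
      exact (hz'.antisymm hge').eq
    have h1 := Order.coheight_add_one_le hlt
    have h2 : Order.coheight z ≤ Order.coheight c.last := Order.coheight_anti hclast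
    have h3 : (1 : ℕ∞) + n ≤ Order.coheight (ι w') := by
      calc (1 : ℕ∞) + n ≤ Order.coheight z + c.length := by
            rw [hlen1]
            exact add_le_add (le_trans (le_add_left le_rfl) h1) le_rfl
        _ ≤ Order.coheight c.last + c.length := add_le_add h2 le_rfl
        _ ≤ _ := hcoh
    rw [hcoh_eq] at h3
    have : (1 + n : ℕ) ≤ n := by exact_mod_cast h3
    omega
  have hzU : z ∈ U := hzx'.mem_open U.isOpen hx'U
  have hYmax := hE1 z hzU hzmaxX
  have hgenY : f (ι w') = genericPoint Y := by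
    rw [← hfz]
    exact (hYmax (genericPoint Y) ((genericPoint_spec Y).specializes trivial)).symm
  refine ⟨by rw [hcoh_eq]; rfl, by exact_mod_cast (by omega : d₀ + n = e), ?_, hgenY,
    by exact_mod_cast hlen2⟩
  -- equidimensionality of the restriction
  let U'' : X''.Opens := ⟨{w | FlatMor.fibreDimAt (ι ≫ f) w ≤ d₀}, Chev.isOpen_fibreDimAt_le (ι ≫ f) d₀⟩
  have hw₀U'' : w₀ ∈ U'' := le_of_eq hd₀
  refine isEquidimAt_of_points (ι ≫ f) w₀ d₀ U'' hw₀U'' ?_ ?_
  · intro ξ _ hξmax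
    have h1 : w' = ξ := hξmax w' (hgen ξ)
    rw [← h1]
    exact hgenY
  · intro ζ hζU hζmax
    have h1 := fibreDimAt_of_fibre_max (ι ≫ f) ζ hζmax
    have h2 : FlatMor.fibreDimAt (ι ≫ f) ζ ≤ d₀ := hζU
    have h3 := fibreDimAt_mono (ι ≫ f) (hgen ζ)
    rw [hfdw', h1] at h3
    rw [h1] at h2
    have h2' : tr (ι ≫ f) ζ ≤ d₀ := by exact_mod_cast h2
    have h3' : tr f (ι w') ≤ tr (ι ≫ f) ζ := by exact_mod_cast h3
    omega

end Groth.Agent.Lib.Helper24.FibreDim

namespace Groth.Agent.Lib.Helper24.FibreDim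

variable {X Y : Scheme.{u}}

theorem main4943 [IrreducibleSpace Y]
    [IsLocallyNoetherian Y] (f : X ⟶ Y) [LocallyOfFiniteType f] (x : X)
    (hf : EGA43.IsEquidimAt f x)
    (X' : TopologicalSpace.Closeds X) (x' : X) (hx' : closure ({x'} : Set X) = (X' : Set X))
    (hx : x ∈ X') (n : ℕ)
    (hcodim : ringKrullDim (X.presheaf.stalk x') ≤ n)
    (hdim : FlatMor.localDim ↥((X' : Set X) ∩ f.base ⁻¹' {f.base x}) ⟨x, ⟨hx, rfl⟩⟩ + n ≤
      FlatMor.fibreDimAt f x) :
    ringKrullDim (X.presheaf.stalk x') = n ∧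
      FlatMor.localDim ↥((X' : Set X) ∩ f.base ⁻¹' {f.base x}) ⟨x, ⟨hx, rfl⟩⟩ + n =
        FlatMor.fibreDimAt f x ∧
      ∀ w : ↥(Scheme.IdealSheafData.vanishingIdeal X').subscheme,
        (Scheme.IdealSheafData.vanishingIdeal X').subschemeι.base w = x →
        EGA43.IsEquidimAt ((Scheme.IdealSheafData.vanishingIdeal X').subschemeι ≫ f) w := by
  have hemb : IsClosedEmbedding (Scheme.IdealSheafData.vanishingIdeal X').subschemeι :=
    (Scheme.IdealSheafData.vanishingIdeal X').subschemeι.isClosedEmbedding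
  have hr : Set.range (Scheme.IdealSheafData.vanishingIdeal X').subschemeι = (X' : Set X) :=
    (Scheme.IdealSheafData.vanishingIdeal X').range_subschemeι.trans
      (Scheme.IdealSheafData.coe_support_vanishingIdeal X')
  have hxr : x ∈ Set.range (Scheme.IdealSheafData.vanishingIdeal X').subschemeι := by
    rw [hr]
    exact hx
  obtain ⟨w₀, hw₀⟩ := hxr
  have hx'r : x' ∈ Set.range (Scheme.IdealSheafData.vanishingIdeal X').subschemeι := by
    rw [hr, ← hx']
    exact subset_closure rfl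
  obtain ⟨w', hw'⟩ := hx'r
  subst hw₀ hw'
  have hgen : ∀ ξ : ↥(Scheme.IdealSheafData.vanishingIdeal X').subscheme, w' ⤳ ξ := by
    intro ξ
    rw [← hemb.isInducing.specializes_iff, specializes_iff_mem_closure, hx', ← hr]
    exact Set.mem_range_self ξ
  have hL := localDim_inter_fibre_eq (Scheme.IdealSheafData.vanishingIdeal X').subschemeι hemb f
    (X' : Set X) hr w₀ ⟨hx, rfl⟩
  have hL' : FlatMor.localDim ↥((X' : Set X) ∩ f.base ⁻¹'
      {f.base ((Scheme.IdealSheafData.vanishingIdeal X').subschemeι w₀)})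
      ⟨(Scheme.IdealSheafData.vanishingIdeal X').subschemeι w₀, ⟨hx, rfl⟩⟩ =
      FlatMor.fibreDimAt ((Scheme.IdealSheafData.vanishingIdeal X').subschemeι ≫ f) w₀ := hL
  rw [hL'] at hdim ⊢
  obtain ⟨h1, h2, h3, -, -⟩ := core4943 f (Scheme.IdealSheafData.vanishingIdeal X').subschemeι w₀ w'
    hgen hf n hcodim hdim
  refine ⟨h1, h2, ?_⟩
  intro w hw
  have : w = w₀ := hemb.injective hw
  rw [this]
  exact h3

end Groth.Agent.Lib.Helper24.FibreDim
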