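import Mathlib
import Groth.Agent.Lib.Helper24.FibreDim.Equidim

/-!
# The dimension formula for a prime of the local ring `O_{X,x}` (helper24)
-/

set_option autoImplicit false
set_option linter.style.haveILetI false
universe u
open scoped Cardinal
open AlgebraicGeometry CategoryTheory Groth.Agent.Lib.Helper7 Groth.Agent.Lib.lead

namespace Groth.Agent.Lib.Helper24.FibreDim

theorem under_le_of_atPrime {B : Type u} [CommRing B] (P : Ideal B) [P.IsPrime] (C : Type u)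
    [CommRing C] [Algebra B C] [IsLocalization.AtPrime C P] (𝔭 : Ideal C) [𝔭.IsPrime] :
    𝔭.under B ≤ P := by
  haveI := IsLocalization.AtPrime.isLocalRing C P
  have h1 : 𝔭 ≤ IsLocalRing.maximalIdeal C :=
    IsLocalRing.le_maximalIdeal (Ideal.IsPrime.ne_top inferInstance)
  have h2 := IsLocalization.AtPrime.under_maximalIdeal C P
  rw [← h2]
  exact Ideal.comap_mono h1

/-- The dimension of the quotient of a localization at a prime by a prime. -/
theorem dim_quot_localization {B : Type u} [CommRing B] (P : Ideal B) [P.IsPrime] (C : Type u)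
    [CommRing C] [Algebra B C] [IsLocalization.AtPrime C P] (𝔭 : Ideal C) [𝔭.IsPrime] :
    ringKrullDim (C ⧸ 𝔭) = ((P.map (Ideal.Quotient.mk (𝔭.under B))).height : WithBot ℕ∞) := by
  have hQP : 𝔭.under B ≤ P := under_le_of_atPrime P C 𝔭
  have h𝔭 : (𝔭.under B).map (algebraMap B C) = 𝔭 := IsLocalization.map_comap P.primeCompl C 𝔭
  haveI hPbar : (P.map (Ideal.Quotient.mk (𝔭.under B))).IsPrime :=
    Ideal.map_isPrime_of_surjective Ideal.Quotient.mk_surjective (by rwa [Ideal.mk_ker])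
  haveI : IsLocalization.AtPrime (C ⧸ (𝔭.under B).map (algebraMap B C))
      (P.map (Ideal.Quotient.mk (𝔭.under B))) := by
    unfold IsLocalization.AtPrime
    rw [← LocQuotDim.algebraMapSubmonoid_primeCompl B P (𝔭.under B) hQP]
    infer_instance
  have h1 := IsLocalization.AtPrime.ringKrullDim_eq_height
    (P.map (Ideal.Quotient.mk (𝔭.under B))) (C ⧸ (𝔭.under B).map (algebraMap B C))
  rw [← h1]
  exact ringKrullDim_eq_of_ringEquiv (Ideal.quotEquivOfEq h𝔭.symm)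

theorem mem_minimalPrimes_localization_iff {B : Type u} [CommRing B] (M : Submonoid B)
    (C : Type u) [CommRing C] [Algebra B C] [IsLocalization M C] (𝔭 : Ideal C) :
    𝔭 ∈ minimalPrimes C ↔ 𝔭.under B ∈ minimalPrimes B := by
  have h := IsLocalization.minimalPrimes_map M C (⊥ : Ideal B)
  rw [Ideal.map_bot] at h
  show 𝔭 ∈ (⊥ : Ideal C).minimalPrimes ↔ _
  rw [h]
  rfl

/-- A Noetherian local ring has a minimal prime computing its dimension. -/
theorem exists_minimalPrime_dim_eq (C : Type u) [CommRing C] [IsLocalRing C]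
    [IsNoetherianRing C] :
    ∃ 𝔭 ∈ minimalPrimes C, ringKrullDim (C ⧸ 𝔭) = ringKrullDim C := by
  obtain ⟨Q, hQmin, hQle, hht⟩ :=
    NonDomainDim.exists_minimalPrime_height_le (IsLocalRing.maximalIdeal C)
  refine ⟨Q, hQmin, le_antisymm (ringKrullDim_le_of_surjective _ Ideal.Quotient.mk_surjective) ?_⟩
  haveI : ((IsLocalRing.maximalIdeal C).map (Ideal.Quotient.mk Q)).IsPrime :=
    Ideal.map_isPrime_of_surjective Ideal.Quotient.mk_surjective (by rwa [Ideal.mk_ker])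
  rw [← IsLocalRing.maximalIdeal_height_eq_ringKrullDim]
  refine le_trans (WithBot.coe_le_coe.mpr hht) ?_
  exact Ideal.height_le_ringKrullDim_of_ne_top (Ideal.IsPrime.ne_top inferInstance)

variable {X Y : Scheme.{u}}

/-- The dimension formula for a prime `𝔭` of `O_{X,x}`, with `ξ` the corresponding generization of
`x`, when `O_{Y,f x}` is universally catenary. -/
theorem stalk_pair [IsLocallyNoetherian Y] (f : X ⟶ Y) [LocallyOfFiniteType f] (x : X)
    (hcat : CAlg.IsUniversallyCatenary (Y.presheaf.stalk (f x)))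
    (𝔭 : Ideal (X.presheaf.stalk x)) [𝔭.IsPrime] :
    ∃ ξ : X, ξ ⤳ x ∧
      (𝔭 ∈ minimalPrimes (X.presheaf.stalk x) → ∀ ξ' : X, ξ' ⤳ ξ → ξ' = ξ) ∧
      ((∀ η : Y, η ⤳ f ξ → η = f ξ) →
        𝔭.comap (f.stalkMap x).hom ∈ minimalPrimes (Y.presheaf.stalk (f x))) ∧
      ringKrullDim (X.presheaf.stalk x ⧸ 𝔭) + ((tr f x : ℕ) : WithBot ℕ∞) =
        ringKrullDim (Y.presheaf.stalk (f x) ⧸ 𝔭.comap (f.stalkMap x).hom) +
          ((tr f ξ : ℕ) : WithBot ℕ∞) := by
  obtain ⟨V, hV, U, hU, e, hxU⟩ := exists_chart f x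
  letI : Algebra Γ(Y, V) Γ(X, U) := (f.appLE V U e).hom.toAlgebra
  have halg : algebraMap Γ(Y, V) Γ(X, U) = (f.appLE V U e).hom := rfl
  haveI : Algebra.FiniteType Γ(Y, V) Γ(X, U) := f.finiteType_appLE hV hU e
  set p : Ideal Γ(Y, V) := (hV.primeIdealOf ⟨f x, e hxU⟩).asIdeal with hp
  set P : Ideal Γ(X, U) := (hU.primeIdealOf ⟨x, hxU⟩).asIdeal with hP
  haveI : P.LiesOver p := ResTrdegBridge.liesOver_primeIdealOf f x hV hU e hxU (e hxU) halg
  haveI : p.IsPrime := (hV.primeIdealOf ⟨f x, e hxU⟩).isPrime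
  haveI : P.IsPrime := (hU.primeIdealOf ⟨x, hxU⟩).isPrime
  letI algY := TopCat.Presheaf.algebra_section_stalk Y.presheaf (⟨f x, e hxU⟩ : V)
  haveI locY : IsLocalization.AtPrime (Y.presheaf.stalk (f x)) p :=
    hV.isLocalization_stalk ⟨f x, e hxU⟩
  letI algX := TopCat.Presheaf.algebra_section_stalk X.presheaf (⟨x, hxU⟩ : U)
  haveI locX : IsLocalization.AtPrime (X.presheaf.stalk x) P :=
    hU.isLocalization_stalk ⟨x, hxU⟩
  set Q : Ideal Γ(X, U) := 𝔭.under Γ(X, U) with hQ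
  haveI hQprime : Q.IsPrime := Ideal.IsPrime.under _ 𝔭
  have hQP : Q ≤ P := under_le_of_atPrime P (X.presheaf.stalk x) 𝔭
  set 𝔮 : Ideal (Y.presheaf.stalk (f x)) := 𝔭.comap (f.stalkMap x).hom with h𝔮
  haveI h𝔮prime : 𝔮.IsPrime := Ideal.comap_isPrime _ 𝔭
  have hsq : ∀ a : Γ(Y, V), (f.stalkMap x).hom (algebraMap Γ(Y, V) (Y.presheaf.stalk (f x)) a) =
      algebraMap Γ(X, U) (X.presheaf.stalk x) (algebraMap Γ(Y, V) Γ(X, U) a) := by
    intro a
    show (f.stalkMap x).hom ((Y.presheaf.germ V (f x) (e hxU)).hom a) =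
      (X.presheaf.germ U x hxU).hom ((f.appLE V U e).hom a)
    rw [Scheme.Hom.germ_stalkMap_apply, Scheme.Hom.appLE, CommRingCat.hom_comp,
      RingHom.comp_apply, X.presheaf.germ_res_apply]
  have h𝔮u : 𝔮.under Γ(Y, V) = Q.under Γ(Y, V) := by
    ext a
    simp only [Ideal.under, Ideal.mem_comap, h𝔮, hQ]
    rw [hsq a]
  obtain ⟨ξ', hξ'⟩ := AffPts.primeIdealOf_surjective hU ⟨Q, hQprime⟩
  obtain ⟨ξ, hξU⟩ := ξ'
  have hQeq : (hU.primeIdealOf ⟨ξ, hξU⟩).asIdeal = Q := congrArg PrimeSpectrum.asIdeal hξ'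
  have hξx : ξ ⤳ x := by
    refine (AffPts.primeIdealOf_le_iff hU ⟨ξ, hξU⟩ ⟨x, hxU⟩).mp ?_
    show (hU.primeIdealOf ⟨ξ, hξU⟩).asIdeal ≤ P
    rw [hQeq]
    exact hQP
  have hQunder : Q.under Γ(Y, V) = (hV.primeIdealOf ⟨f ξ, e hξU⟩).asIdeal := by
    rw [← hQeq]
    exact (ResTrdegBridge.liesOver_primeIdealOf f ξ hV hU e hξU (e hξU) halg).over.symm
  refine ⟨ξ, hξx, ?_, ?_, ?_⟩
  · intro hmin
    have h1 : Q ∈ minimalPrimes Γ(X, U) :=
      (mem_minimalPrimes_localization_iff P.primeCompl (X.presheaf.stalk x) 𝔭).mp hmin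
    rw [← hQeq] at h1
    exact (AffPts.forall_specializes_eq_iff hU ⟨ξ, hξU⟩).mpr h1
  · intro hmax
    have h1 := (AffPts.forall_specializes_eq_iff hV ⟨f ξ, e hξU⟩).mp hmax
    rw [← hQunder, ← h𝔮u] at h1
    exact (mem_minimalPrimes_localization_iff p.primeCompl (Y.presheaf.stalk (f x)) 𝔮).mpr h1
  · have hn := trdeg_chart f hV hU e x hxU halg p hp
    haveI hξover : (hU.primeIdealOf ⟨ξ, hξU⟩).asIdeal.LiesOver (Q.under Γ(Y, V)) := by
      rw [hQunder]
      exact ResTrdegBridge.liesOver_primeIdealOf f ξ hV hU e hξU (e hξU) halg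
    haveI : Q.LiesOver (Q.under Γ(Y, V)) := ⟨rfl⟩
    have hE := trdeg_chart f hV hU e ξ hξU halg (Q.under Γ(Y, V)) hQunder
    rw [trdeg_congr_ideal (Q.under Γ(Y, V)) Q (hU.primeIdealOf ⟨ξ, hξU⟩).asIdeal hQeq] at hE
    have key := height_pair_eq_local p (Y.presheaf.stalk (f x)) hcat P Q hQP (tr f x) (tr f ξ)
      hn hE
    rw [dim_quot_localization P (X.presheaf.stalk x) 𝔭,
      dim_quot_localization p (Y.presheaf.stalk (f x)) 𝔮, h𝔮u]
    exact_mod_cast key

end Groth.Agent.Lib.Helper24.FibreDim
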