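import Mathlib
import Groth.Agent.Lib.Helper24.FibreDim.StalkPair
import Groth.Agent.Lib.Helper24.FibreDim.LocalNoeth
import Groth.Agent.Lib.Helper24.FibreDim.EquidimConv
import Groth.Agent.Lib.Helper24.FibreDim.Main4943
import Groth.Agent.Lib.Helper24.JacDim.LocalDimY

/-!
# Equidimensional stalks + dimension formula ⟹ equidimensional at the point (helper24)
-/

set_option autoImplicit false
set_option linter.style.haveILetI false
universe u
open scoped Cardinal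
open AlgebraicGeometry CategoryTheory TopologicalSpace Topology
open Groth.Agent.Lib.Helper7 Groth.Agent.Lib.lead Groth.Agent.Lib.Helper18

namespace Groth.Agent.Lib.Helper24.FibreDim

/-- In a ring of finite Krull dimension, a prime whose quotient has full dimension is minimal. -/
theorem mem_minimalPrimes_of_dim_quot_eq {R : Type u} [CommRing R] (𝔮 : Ideal R) [𝔮.IsPrime]
    (hfin : ringKrullDim R ≠ ⊤) (h : ringKrullDim (R ⧸ 𝔮) = ringKrullDim R) :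
    𝔮 ∈ minimalPrimes R := by
  obtain ⟨𝔮', h𝔮', hle⟩ := Ideal.exists_minimalPrimes_le (I := (⊥ : Ideal R)) (J := 𝔮) bot_le
  by_cases heq : 𝔮' = 𝔮
  · rw [← heq]; exact h𝔮'
  exfalso
  haveI : 𝔮'.IsPrime := h𝔮'.1.1
  have hlt : 𝔮' < 𝔮 := lt_of_le_of_ne hle heq
  obtain ⟨r, hr𝔮, hr𝔮'⟩ := Set.exists_of_ssubset hlt
  have hne : (Ideal.Quotient.mk 𝔮' r) ≠ 0 := by
    rw [Ne, Ideal.Quotient.eq_zero_iff_mem]
    exact hr𝔮'
  have h1 : ringKrullDim (R ⧸ 𝔮) + 1 ≤ ringKrullDim (R ⧸ 𝔮') := by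
    refine ringKrullDim_succ_le_of_surjective (Ideal.Quotient.factor hle)
      (Ideal.Quotient.factor_surjective hle) (mem_nonZeroDivisors_of_ne_zero hne) ?_
    rw [Ideal.Quotient.factor_mk, Ideal.Quotient.eq_zero_iff_mem]
    exact hr𝔮
  have h2 : ringKrullDim (R ⧸ 𝔮') ≤ ringKrullDim R :=
    ringKrullDim_le_of_surjective _ Ideal.Quotient.mk_surjective
  rw [h] at h1
  have h3 : ringKrullDim R + 1 ≤ ringKrullDim R := h1.trans h2
  have hnb : ringKrullDim R ≠ ⊥ := by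
    rw [← h]
    haveI : Nontrivial (R ⧸ 𝔮) := Ideal.Quotient.nontrivial_iff.mpr (Ideal.IsPrime.ne_top inferInstance)
    exact (lt_of_lt_of_le (WithBot.bot_lt_coe (0 : ℕ∞)) ringKrullDim_nonneg_of_nontrivial).ne'
  obtain ⟨n, hn⟩ : ∃ n : ℕ, ringKrullDim R = ((n : ℕ∞) : WithBot ℕ∞) := by
    cases hR : ringKrullDim R with
    | bot => exact absurd hR hnb
    | coe a =>
      cases a with
      | top => exact absurd hR hfin
      | coe n => exact ⟨n, rfl⟩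
  rw [hn] at h3
  have h4 : ((n : ℕ∞) : WithBot ℕ∞) + 1 = (((n + 1 : ℕ) : ℕ∞) : WithBot ℕ∞) := by
    push_cast; rfl
  rw [h4] at h3
  have h5 : ((n + 1 : ℕ) : ℕ∞) ≤ (n : ℕ∞) := WithBot.coe_le_coe.mp h3
  have h6 : n + 1 ≤ n := by exact_mod_cast h5
  omega

variable {X Y : Scheme.{u}}

/-- The dimension inequality for the prime of `O_{X,x}` corresponding to a generization `ξ` of
`x`. -/
theorem stalk_pair_le [IsLocallyNoetherian Y] (f : X ⟶ Y) [LocallyOfFiniteType f] (x ξ : X)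
    (hξx : ξ ⤳ x) :
    ∃ (𝔭 : Ideal (X.presheaf.stalk x)) (_ : 𝔭.IsPrime),
      ((∀ ξ' : X, ξ' ⤳ ξ → ξ' = ξ) → 𝔭 ∈ minimalPrimes (X.presheaf.stalk x)) ∧
      (𝔭.comap (f.stalkMap x).hom ∈ minimalPrimes (Y.presheaf.stalk (f x)) →
        ∀ η : Y, η ⤳ f ξ → η = f ξ) ∧
      ringKrullDim (X.presheaf.stalk x ⧸ 𝔭) + ((tr f x : ℕ) : WithBot ℕ∞) ≤
        ringKrullDim (Y.presheaf.stalk (f x) ⧸ 𝔭.comap (f.stalkMap x).hom) +
          ((tr f ξ : ℕ) : WithBot ℕ∞) := by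
  obtain ⟨V, hV, U, hU, e, hxU⟩ := exists_chart f x
  have hξU : ξ ∈ U := hξx.mem_open U.isOpen hxU
  letI : Algebra Γ(Y, V) Γ(X, U) := (f.appLE V U e).hom.toAlgebra
  have halg : algebraMap Γ(Y, V) Γ(X, U) = (f.appLE V U e).hom := rfl
  haveI : Algebra.FiniteType Γ(Y, V) Γ(X, U) := f.finiteType_appLE hV hU e
  set p : Ideal Γ(Y, V) := (hV.primeIdealOf ⟨f x, e hxU⟩).asIdeal with hp
  set P : Ideal Γ(X, U) := (hU.primeIdealOf ⟨x, hxU⟩).asIdeal with hP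
  haveI : P.LiesOver p := ResTrdegBridge.liesOver_primeIdealOf f x hV hU e hxU (e hxU) halg
  haveI : p.IsPrime := (hV.primeIdealOf ⟨f x, e hxU⟩).isPrime
  haveI : P.IsPrime := (hU.primeIdealOf ⟨x, hxU⟩).isPrime
  letI algY := TopCat.Presheaf.algebra_section_stalk Y.presheaf (⟨f x, e hxU⟩ : V)
  haveI locY : IsLocalization.AtPrime (Y.presheaf.stalk (f x)) p :=
    hV.isLocalization_stalk ⟨f x, e hxU⟩
  letI algX := TopCat.Presheaf.algebra_section_stalk X.presheaf (⟨x, hxU⟩ : U)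
  haveI locX : IsLocalization.AtPrime (X.presheaf.stalk x) P :=
    hU.isLocalization_stalk ⟨x, hxU⟩
  haveI : IsNoetherianRing (Y.presheaf.stalk (f x)) := inferInstance
  -- the prime of the chart corresponding to `ξ`
  set Q₀ : Ideal Γ(X, U) := (hU.primeIdealOf ⟨ξ, hξU⟩).asIdeal with hQ₀
  haveI hQ₀prime : Q₀.IsPrime := (hU.primeIdealOf ⟨ξ, hξU⟩).isPrime
  have hQ₀P : Q₀ ≤ P := (AffPts.primeIdealOf_le_iff hU ⟨ξ, hξU⟩ ⟨x, hxU⟩).mpr hξx
  have hdisj : Disjoint (P.primeCompl : Set Γ(X, U)) (Q₀ : Set Γ(X, U)) := by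
    rw [Set.disjoint_left]
    intro a ha haQ
    exact ha (hQ₀P haQ)
  set 𝔭 : Ideal (X.presheaf.stalk x) := Q₀.map (algebraMap Γ(X, U) (X.presheaf.stalk x)) with h𝔭
  haveI h𝔭prime : 𝔭.IsPrime :=
    IsLocalization.isPrime_of_isPrime_disjoint P.primeCompl (X.presheaf.stalk x) Q₀ hQ₀prime hdisj
  have h𝔭under : 𝔭.under Γ(X, U) = Q₀ :=
    IsLocalization.under_map_of_isPrime_disjoint P.primeCompl (X.presheaf.stalk x) hQ₀prime hdisj
  refine ⟨𝔭, h𝔭prime, ?_⟩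
  set Q : Ideal Γ(X, U) := 𝔭.under Γ(X, U) with hQ
  haveI hQprime : Q.IsPrime := Ideal.IsPrime.under _ 𝔭
  have hQP : Q ≤ P := under_le_of_atPrime P (X.presheaf.stalk x) 𝔭
  have hQeq : (hU.primeIdealOf ⟨ξ, hξU⟩).asIdeal = Q := h𝔭under.symm
  set 𝔮 : Ideal (Y.presheaf.stalk (f x)) := 𝔭.comap (f.stalkMap x).hom with h𝔮
  haveI h𝔮prime : 𝔮.IsPrime := Ideal.comap_isPrime _ 𝔭
  have hsq : ∀ a : Γ(Y, V), (f.stalkMap x).hom (algebraMap Γ(Y, V) (Y.presheaf.stalk (f x)) a) =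
      algebraMap Γ(X, U) (X.presheaf.stalk x) (algebraMap Γ(Y, V) Γ(X, U) a) := by
    intro a
    show (f.stalkMap x).hom ((Y.presheaf.germ V (f x) (e hxU)).hom a) =
      (X.presheaf.germ U x hxU).hom ((f.appLE V U e).hom a)
    rw [Scheme.Hom.germ_stalkMap_apply, Scheme.Hom.appLE, CommRingCat.hom_comp,
      RingHom.comp_apply, X.presheaf.germ_res_apply]
  have h𝔮u : 𝔮.under Γ(Y, V) = Q.under Γ(Y, V) := by
    ext a
    simp only [Ideal.under, Ideal.mem_comap, h𝔮, hQ]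
    rw [hsq a]
  have hQunder : Q.under Γ(Y, V) = (hV.primeIdealOf ⟨f ξ, e hξU⟩).asIdeal := by
    rw [← hQeq]
    exact (ResTrdegBridge.liesOver_primeIdealOf f ξ hV hU e hξU (e hξU) halg).over.symm
  refine ⟨?_, ?_, ?_⟩
  · intro hmax
    have h1 := (AffPts.forall_specializes_eq_iff hU ⟨ξ, hξU⟩).mp hmax
    rw [hQeq] at h1
    exact (mem_minimalPrimes_localization_iff P.primeCompl (X.presheaf.stalk x) 𝔭).mpr h1
  · intro hmin
    have h1 : 𝔮.under Γ(Y, V) ∈ minimalPrimes Γ(Y, V) :=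
      (mem_minimalPrimes_localization_iff p.primeCompl (Y.presheaf.stalk (f x)) 𝔮).mp hmin
    rw [h𝔮u, hQunder] at h1
    exact (AffPts.forall_specializes_eq_iff hV ⟨f ξ, e hξU⟩).mpr h1
  · have hn := trdeg_chart f hV hU e x hxU halg p hp
    haveI hξover : (hU.primeIdealOf ⟨ξ, hξU⟩).asIdeal.LiesOver (Q.under Γ(Y, V)) := by
      rw [hQunder]
      exact ResTrdegBridge.liesOver_primeIdealOf f ξ hV hU e hξU (e hξU) halg
    haveI : Q.LiesOver (Q.under Γ(Y, V)) := ⟨rfl⟩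
    have hE := trdeg_chart f hV hU e ξ hξU halg (Q.under Γ(Y, V)) hQunder
    rw [trdeg_congr_ideal (Q.under Γ(Y, V)) Q (hU.primeIdealOf ⟨ξ, hξU⟩).asIdeal hQeq] at hE
    have key := height_pair_le_local p (Y.presheaf.stalk (f x)) P Q hQP (tr f x) (tr f ξ)
      hn hE
    rw [dim_quot_localization P (X.presheaf.stalk x) 𝔭,
      dim_quot_localization p (Y.presheaf.stalk (f x)) 𝔮, h𝔮u]
    exact_mod_cast key

/-- Equidimensionality at a point from pointwise data (general base). -/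
theorem isEquidimAt_of_points' (g : X ⟶ Y) [LocallyOfFiniteType g] (w₀ : X)
    (e' : ℕ) (U' : X.Opens) (hw : w₀ ∈ U')
    (ha : ∀ ξ ∈ U', (∀ ξ' : X, ξ' ⤳ ξ → ξ' = ξ) →
      g ξ ⤳ g w₀ ∧ ∀ η : Y, η ⤳ g ξ → η = g ξ)
    (hb : ∀ ζ ∈ U', (∀ ζ' : X, g ζ' = g ζ → ζ' ⤳ ζ → ζ' = ζ) → tr g ζ = e') :
    EGA43.IsEquidimAt g w₀ := by
  refine ⟨e', U', hw, ?_, ?_⟩
  · refine fun (Z : Set U'.toScheme) (hZ : Z ∈ irreducibleComponents (U'.toScheme : Type u)) => ?_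
    have hZc : IsClosed Z := isClosed_of_mem_irreducibleComponents Z hZ
    obtain ⟨ξ, hξ⟩ := QuasiSober.sober hZ.1 hZc
    have hmax : ∀ ξ' : X, ξ' ⤳ U'.ι ξ → ξ' = U'.ι ξ := by
      intro ξ' hξ'
      have hξ'U : ξ' ∈ U' := hξ'.mem_open U'.isOpen ξ.2
      let ξ'' : U'.toScheme := ⟨ξ', hξ'U⟩
      have h1 : ξ'' ⤳ ξ := U'.ι.isOpenEmbedding.isInducing.specializes_iff.mp hξ'
      have h2 : Z ⊆ closure {ξ''} := by
        rw [← hξ.def]
        exact h1.closure_subset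
      have h3 : closure {ξ''} = Z := (hZ.2 isIrreducible_singleton.closure h2).antisymm h2
      have h4 : IsGenericPoint ξ'' Z := h3
      have h5 : ξ'' = ξ := h4.eq hξ
      exact congrArg U'.ι h5
    obtain ⟨hsp, hgen⟩ := ha (U'.ι ξ) ξ.2 hmax
    refine ⟨closure {g (U'.ι ξ)}, ?_, ?_, ?_⟩
    · exact (AffPts.closure_mem_irreducibleComponents_iff (g (U'.ι ξ))).mpr hgen
    · exact specializes_iff_mem_closure.mp hsp
    · apply subset_antisymm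
      · apply closure_minimal _ isClosed_closure
        rw [← hξ.def]
        refine (image_closure_subset_closure_image (U'.ι ≫ g).continuous).trans ?_
        rw [Set.image_singleton]
        rfl
      · apply closure_mono
        rw [Set.singleton_subset_iff]
        exact ⟨ξ, hξ.mem, rfl⟩
  · refine fun (x' : U'.toScheme) Z hZ => ?_
    have hZc : IsClosed Z := isClosed_of_mem_irreducibleComponents Z hZ
    obtain ⟨ζF, hζF⟩ := QuasiSober.sober hZ.1 hZc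
    have hhζ : (U'.ι ≫ g) ((U'.ι ≫ g).fiberι ((U'.ι ≫ g) x') ζF) = (U'.ι ≫ g) x' := by
      have : (U'.ι ≫ g).fiberι ((U'.ι ≫ g) x') ζF ∈
          Set.range ((U'.ι ≫ g).fiberι ((U'.ι ≫ g) x')) := ⟨ζF, rfl⟩
      rw [(U'.ι ≫ g).range_fiberι] at this
      exact this
    have hmaxF : ∀ w : (U'.ι ≫ g).fiber ((U'.ι ≫ g) x'), w ⤳ ζF → w = ζF := by
      intro w hw
      have h2 : Z ⊆ closure {w} := by
        rw [← hζF.def]
        exact hw.closure_subset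
      have h3 : closure {w} = Z := (hZ.2 isIrreducible_singleton.closure h2).antisymm h2
      have h4 : IsGenericPoint w Z := h3
      exact h4.eq hζF
    have hmax : ∀ ζ' : X, g ζ' = g (U'.ι ((U'.ι ≫ g).fiberι ((U'.ι ≫ g) x') ζF)) →
        ζ' ⤳ U'.ι ((U'.ι ≫ g).fiberι ((U'.ι ≫ g) x') ζF) →
        ζ' = U'.ι ((U'.ι ≫ g).fiberι ((U'.ι ≫ g) x') ζF) := by
      intro ζ' hgζ' hζ'
      have hζ'U : ζ' ∈ U' :=
        hζ'.mem_open U'.isOpen ((U'.ι ≫ g).fiberι ((U'.ι ≫ g) x') ζF).2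
      let ζ'' : U'.toScheme := ⟨ζ', hζ'U⟩
      have h1 : ζ'' ⤳ (U'.ι ≫ g).fiberι ((U'.ι ≫ g) x') ζF :=
        U'.ι.isOpenEmbedding.isInducing.specializes_iff.mp hζ'
      have h2 : (U'.ι ≫ g) ζ'' = (U'.ι ≫ g) x' := by
        rw [← hhζ]
        exact hgζ'
      obtain ⟨w, hw⟩ := exists_fibre_point (U'.ι ≫ g) ζ'' ((U'.ι ≫ g) x') h2
      have h3 : w ⤳ ζF := by
        rw [← ((U'.ι ≫ g).fiberι ((U'.ι ≫ g) x')).isEmbedding.isInducing.specializes_iff, hw]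
        exact h1
      have h4 : w = ζF := hmaxF w h3
      have h5 : ζ'' = (U'.ι ≫ g).fiberι ((U'.ι ≫ g) x') ζF := by
        rw [← hw, h4]
      exact congrArg U'.ι h5
    have htr := hb _ ((U'.ι ≫ g).fiberι ((U'.ι ≫ g) x') ζF).2 hmax
    have h6 : tr (U'.ι ≫ g) ((U'.ι ≫ g).fiberι ((U'.ι ≫ g) x') ζF) = e' := by
      rw [tr_comp_openImmersion U'.ι g]
      exact htr
    have h7 := dim_closure_fibre_point (U'.ι ≫ g) ((U'.ι ≫ g) x') _ hhζ ζF rfl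
    rw [hζF.def, h6] at h7
    exact h7

/-- A maximal point is maximal in its fibre, so its local fibre dimension is its residue
transcendence degree. -/
theorem fibreDimAt_of_max (f : X ⟶ Y) [LocallyOfFiniteType f] (ξ : X)
    (hmax : ∀ ξ' : X, f ξ' = f ξ → ξ' ⤳ ξ → ξ' = ξ) :
    FlatMor.fibreDimAt f ξ = ((tr f ξ : ℕ) : ℕ∞) := by
  rw [fibreDimAt_eq_tr_add_G, (G_eq_zero_iff f ξ).mpr hmax, add_zero]

/-- Arithmetic in `WithBot ℕ∞` for the main theorem. -/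
theorem arith3397 (dX dQ dY : WithBot ℕ∞) (G : ℕ∞) (tx tξ : ℕ) (hG : G ≠ ⊤)
    (hdY : dY ≠ ⊤) (hdYb : dY ≠ ⊥)
    (h : dX = dY + ((G : ℕ∞) : WithBot ℕ∞))
    (h1 : dX + ((tx : ℕ) : WithBot ℕ∞) ≤ dQ + ((tξ : ℕ) : WithBot ℕ∞))
    (h2 : dQ ≤ dY) (h3 : ((tξ : ℕ) : ℕ∞) ≤ ((tx : ℕ) : ℕ∞) + G) :
    ((tξ : ℕ) : ℕ∞) = ((tx : ℕ) : ℕ∞) + G ∧ dQ = dY := by
  obtain ⟨g, rfl⟩ : ∃ g : ℕ, G = (g : ℕ∞) := ⟨G.toNat, (ENat.natCast_toNat hG).symm⟩
  obtain ⟨n, rfl⟩ : ∃ n : ℕ, dY = ((n : ℕ∞) : WithBot ℕ∞) := by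
    cases hR : dY with
    | bot => exact absurd hR hdYb
    | coe a =>
      cases a with
      | top => exact absurd hR hdY
      | coe n => exact ⟨n, rfl⟩
  subst h
  have h3' : tξ ≤ tx + g := by exact_mod_cast h3
  cases dQ with
  | bot =>
    exfalso
    rw [WithBot.bot_add] at h1
    have : (((n : ℕ∞) : WithBot ℕ∞) + ((g : ℕ∞) : WithBot ℕ∞) + ((tx : ℕ) : WithBot ℕ∞)) =
        (((n + g + tx : ℕ) : ℕ∞) : WithBot ℕ∞) := by push_cast; rfl
    rw [this] at h1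
    exact absurd (le_bot_iff.mp h1) (WithBot.coe_ne_bot)
  | coe a =>
    cases a with
    | top =>
      exfalso
      have : ((⊤ : ℕ∞) : WithBot ℕ∞) ≤ ((n : ℕ∞) : WithBot ℕ∞) := h2
      have h' : (⊤ : ℕ∞) ≤ (n : ℕ∞) := WithBot.coe_le_coe.mp this
      exact absurd (top_le_iff.mp h') (ENat.natCast_ne_top n)
    | coe m =>
      have h2' : m ≤ n := by
        have : ((m : ℕ∞) : WithBot ℕ∞) ≤ ((n : ℕ∞) : WithBot ℕ∞) := h2
        exact_mod_cast this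
      have h1' : n + g + tx ≤ m + tξ := by
        have e1 : (((n : ℕ∞) : WithBot ℕ∞) + ((g : ℕ∞) : WithBot ℕ∞) + ((tx : ℕ) : WithBot ℕ∞)) =
            (((n + g + tx : ℕ) : ℕ∞) : WithBot ℕ∞) := by push_cast; rfl
        have e2 : (((m : ℕ∞) : WithBot ℕ∞) + ((tξ : ℕ) : WithBot ℕ∞)) =
            (((m + tξ : ℕ) : ℕ∞) : WithBot ℕ∞) := by push_cast; rfl
        have h1'' : (((n : ℕ∞) : WithBot ℕ∞) + ((g : ℕ∞) : WithBot ℕ∞) +
            ((tx : ℕ) : WithBot ℕ∞)) ≤ (((m : ℕ∞) : WithBot ℕ∞) + ((tξ : ℕ) : WithBot ℕ∞)) := h1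
        rw [e1, e2] at h1''
        exact_mod_cast h1''
      constructor
      · have : tξ = tx + g := by omega
        exact_mod_cast this
      · have : m = n := by omega
        rw [this]

theorem main3397 [IsLocallyNoetherian Y] (f : X ⟶ Y) [LocallyOfFiniteType f] (x : X)
    (hX : EGA4.IsEquidim (X.presheaf.stalk x))
    (h : ringKrullDim (X.presheaf.stalk x) =
        ringKrullDim (Y.presheaf.stalk (f.base x)) +
          ringKrullDim ((f.fiber (f.base x)).presheaf.stalk (f.asFiber x))) :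
    EGA43.IsEquidimAt f x := by
  haveI : IsLocallyNoetherian X := LocallyOfFiniteType.isLocallyNoetherian f
  obtain ⟨e, he⟩ := Chev.exists_nat_fibreDimAt f x
  have hU1 : IsOpen {w : X | FlatMor.fibreDimAt f w ≤ e} := Chev.isOpen_fibreDimAt_le f e
  obtain ⟨U0, hU0open, hxU0, hU0⟩ := JacDim.exists_nhd (X := X) Set.univ isClosed_univ x
  rw [FibreOrder.ringKrullDim_fiber_stalk] at h
  have hGtop : FibreOrder.G f x ≠ ⊤ := G_ne_top' f x
  have hetr : ((e : ℕ) : ℕ∞) = ((tr f x : ℕ) : ℕ∞) + FibreOrder.G f x := by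
    have h0 := he
    rw [fibreDimAt_eq_tr_add_G] at h0
    have h0' : ((((tr f x : ℕ) : ℕ∞) + FibreOrder.G f x : ℕ∞) : WithBot ℕ∞) =
        (((e : ℕ) : ℕ∞) : WithBot ℕ∞) := h0
    exact (WithBot.coe_injective h0').symm
  -- the key fact on maximal generizations of `x`
  have key : ∀ ξ : X, ξ ⤳ x → (∀ ξ' : X, ξ' ⤳ ξ → ξ' = ξ) →
      tr f ξ = e ∧ ∀ η : Y, η ⤳ f ξ → η = f ξ := by
    intro ξ hξx hmax
    obtain ⟨𝔭, h𝔭prime, hmin, hgen, hineq⟩ := stalk_pair_le f x ξ hξx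
    have h𝔭min := hmin hmax
    have hdim := hX 𝔭 h𝔭min
    rw [hdim] at hineq
    have hmono0 := fibreDimAt_mono f hξx
    rw [fibreDimAt_of_max f ξ (fun ξ' _ hsp => hmax ξ' hsp), he] at hmono0
    have hmono : ((tr f ξ : ℕ) : ℕ∞) ≤ ((tr f x : ℕ) : ℕ∞) + FibreOrder.G f x := by
      rw [← hetr]
      exact_mod_cast hmono0
    haveI : (𝔭.comap (f.stalkMap x).hom).IsPrime := Ideal.comap_isPrime _ 𝔭
    have hq : ringKrullDim (Y.presheaf.stalk (f x) ⧸ 𝔭.comap (f.stalkMap x).hom) ≤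
        ringKrullDim (Y.presheaf.stalk (f x)) :=
      ringKrullDim_le_of_surjective _ Ideal.Quotient.mk_surjective
    obtain ⟨ht, hd⟩ := arith3397 _ _ _ (FibreOrder.G f x) (tr f x) (tr f ξ) hGtop
      ringKrullDim_ne_top ringKrullDim_ne_bot h hineq hq hmono
    refine ⟨?_, hgen (mem_minimalPrimes_of_dim_quot_eq _ ringKrullDim_ne_top hd)⟩
    rw [← hetr] at ht
    exact_mod_cast ht
  set U' : X.Opens := ⟨U0 ∩ {w : X | FlatMor.fibreDimAt f w ≤ e}, hU0open.inter hU1⟩ with hU'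
  have hxU' : x ∈ U' := ⟨hxU0, le_of_eq he⟩
  have hgenx : ∀ ξ ∈ U', (∀ ξ' : X, ξ' ⤳ ξ → ξ' = ξ) → ξ ⤳ x := by
    intro ξ hξU hmax
    obtain ⟨μ, -, hμξ, hμx⟩ := hU0 ξ ⟨hξU.1, trivial⟩
    rw [hmax μ hμξ] at hμx
    exact hμx
  refine isEquidimAt_of_points' f x e U' hxU' ?_ ?_
  · intro ξ hξU hmax
    have hξx := hgenx ξ hξU hmax
    exact ⟨hξx.map f.continuous, (key ξ hξx hmax).2⟩
  · intro ζ hζU hζmax
    have h1 : FlatMor.fibreDimAt f ζ = ((tr f ζ : ℕ) : ℕ∞) := fibreDimAt_of_max f ζ hζmax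
    have h2 : ((tr f ζ : ℕ) : ℕ∞) ≤ (e : ℕ∞) := by
      have h2' : FlatMor.fibreDimAt f ζ ≤ ((e : ℕ) : WithBot ℕ∞) := hζU.2
      rw [h1] at h2'
      exact_mod_cast h2'
    obtain ⟨ξ, hle, hξmax⟩ := FibreOrder.exists_isMax_ge ζ
    have hξζ : ξ ⤳ ζ := hle
    have hmax : ∀ ξ' : X, ξ' ⤳ ξ → ξ' = ξ := by
      intro ξ' hξ'
      have h3 : ξ ≤ ξ' := hξ'
      have h4 : ξ' ≤ ξ := hξmax h3
      exact (Specializes.antisymm hξ' h4).eq
    have hξU : ξ ∈ U' := hξζ.mem_open U'.isOpen hζU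
    have hξx := hgenx ξ hξU hmax
    have h3 := fibreDimAt_mono f hξζ
    rw [fibreDimAt_of_max f ξ (fun ξ' _ hsp => hmax ξ' hsp), h1, (key ξ hξx hmax).1] at h3
    have h4 : tr f ζ ≤ e := by exact_mod_cast h2
    have h5 : e ≤ tr f ζ := by exact_mod_cast h3
    omega

end Groth.Agent.Lib.Helper24.FibreDim
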