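import Mathlib
import Groth.Agent.Lib.Helper24.FibreDim.Main3397
import Groth.Agent.Lib.Helper18.Chev.Affine

/-!
# Equidimensionality at a point ⟺ quasi-finite map to an affine space (helper24)
-/

set_option autoImplicit false
set_option linter.style.haveILetI false
universe u
open scoped Cardinal
open AlgebraicGeometry CategoryTheory TopologicalSpace Topology
open Groth.Agent.Lib.Helper7 Groth.Agent.Lib.lead Groth.Agent.Lib.Helper18

namespace Groth.Agent.Lib.Helper24.FibreDim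

variable {X Y : Scheme.{u}}

/-- Composition with a locally quasi-finite morphism does not change residue transcendence
degrees. -/
theorem tr_comp_of_lqf {U W V : Scheme.{u}} (π : U ⟶ W) (pr : W ⟶ V)
    [LocallyQuasiFinite π] [LocallyOfFiniteType π] [LocallyOfFiniteType pr] (u : U) :
    tr (π ≫ pr) u = tr pr (π u) := by
  have h0 := QFCodimOne.trdeg_eq_zero_of_quasiFiniteAt π u (π.quasiFiniteAt u)
  have h1 := tr_spec (π ≫ pr) u
  have h2 := tr_spec pr (π u)
  letI a1 : Algebra (V.residueField (pr (π u))) (W.residueField (π u)) :=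
    (pr.residueFieldMap (π u)).hom.toAlgebra
  letI a2 : Algebra (W.residueField (π u)) (U.residueField u) :=
    (π.residueFieldMap u).hom.toAlgebra
  letI a3 : Algebra (V.residueField (pr (π u))) (U.residueField u) :=
    ((π ≫ pr).residueFieldMap u).hom.toAlgebra
  haveI : IsScalarTower (V.residueField (pr (π u))) (W.residueField (π u))
      (U.residueField u) := IsScalarTower.of_algebraMap_eq fun r => by
    show ((π ≫ pr).residueFieldMap u).hom r =
      (π.residueFieldMap u).hom ((pr.residueFieldMap (π u)).hom r)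
    rw [Scheme.residueFieldMap_comp]
    rfl
  have h3 := _root_.trdeg_add_eq (V.residueField (pr (π u))) (W.residueField (π u))
    (A := U.residueField u)
  have h1' : Algebra.trdeg (V.residueField (pr (π u))) (U.residueField u) =
      (tr (π ≫ pr) u : ℕ) := h1
  have h4 : ((tr pr (π u) : ℕ) : Cardinal.{u}) = (tr (π ≫ pr) u : ℕ) := by
    rw [← h1', ← h2, ← h3]
    have : Algebra.trdeg (W.residueField (π u)) (U.residueField u) = 0 := h0
    rw [this, add_zero]
  exact_mod_cast h4.symm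

/-- Under the fibre condition of equidimensionality, the local dimension of the fibre at `x` is
`e` (no Noetherian hypothesis). -/
theorem tr_add_G_eq_of_points' (f : X ⟶ Y) [LocallyOfFiniteType f] (x : X)
    (e : ℕ) (U : X.Opens) (hxU : x ∈ U)
    (hE2 : ∀ ζ ∈ U, (∀ ζ' : X, f ζ' = f ζ → ζ' ⤳ ζ → ζ' = ζ) → tr f ζ = e) :
    ((tr f x : ℕ) : ℕ∞) + FibreOrder.G f x = e := by
  obtain ⟨z, -, hzx, hGz, htr⟩ := exists_max_fibre_point f x
  have hzU : z ∈ U := hzx.mem_open U.isOpen hxU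
  have h1 := hE2 z hzU ((G_eq_zero_iff f z).mp hGz)
  rw [← htr, h1]

/-- A point of the affine space which is maximal in its fibre has residue transcendence degree
`e`. -/
theorem tr_affineSpace_of_G_eq_zero (e : ℕ) (t : 𝔸(ULift.{u} (Fin e); Y))
    (hG : FibreOrder.G (𝔸(ULift.{u} (Fin e); Y) ↘ Y) t = 0) :
    tr (𝔸(ULift.{u} (Fin e); Y) ↘ Y) t = e := by
  set π := 𝔸(ULift.{u} (Fin e); Y) ↘ Y with hπ
  have hmax := (G_eq_zero_iff π t).mp hG
  have hgen : genericPoint (π.fiber (π t)) = π.asFiber t := by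
    have h1 : genericPoint (π.fiber (π t)) ⤳ π.asFiber t :=
      genericPoint_specializes _
    have h2 : π.fiberι (π t) (genericPoint (π.fiber (π t))) ⤳ t := by
      have := h1.map (π.fiberι (π t)).continuous
      rwa [π.fiberι_asFiber] at this
    have h3 : π (π.fiberι (π t) (genericPoint (π.fiber (π t)))) = π t := by
      have : π.fiberι (π t) (genericPoint (π.fiber (π t))) ∈
          Set.range (π.fiberι (π t)) := ⟨_, rfl⟩
      rw [π.range_fiberι] at this
      exact this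
    have h4 := hmax _ h3 h2
    apply (π.fiberι (π t)).isEmbedding.injective
    rw [h4, π.fiberι_asFiber]
  have hcl : closure ({π.asFiber t} : Set (π.fiber (π t))) = Set.univ := by
    rw [← hgen]
    exact (genericPoint_spec (π.fiber (π t))).def
  have h5 := dim_closure_asFiber π t
  rw [hcl] at h5
  have h6 : topologicalKrullDim ↥(Set.univ : Set (π.fiber (π t))) =
      topologicalKrullDim (π.fiber (π t)) :=
    IsHomeomorph.topologicalKrullDim_eq _ (Homeomorph.Set.univ (π.fiber (π t))).isHomeomorph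
  rw [h6, Chev.topologicalKrullDim_fiber_affineSpace] at h5
  have h7 : (Nat.card (ULift.{u} (Fin e)) : WithBot ℕ∞) = e := by simp
  rw [h7] at h5
  exact_mod_cast h5.symm

/-- A maximal point of the affine space over a locally Noetherian scheme lies over a maximal
point. -/
theorem affineSpace_over_max [IsLocallyNoetherian Y] (e : ℕ) (t : 𝔸(ULift.{u} (Fin e); Y))
    (hmax : ∀ t' : 𝔸(ULift.{u} (Fin e); Y), t' ⤳ t → t' = t) :
    ∀ η : Y, η ⤳ (𝔸(ULift.{u} (Fin e); Y) ↘ Y) t → η = (𝔸(ULift.{u} (Fin e); Y) ↘ Y) t := by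
  set π := 𝔸(ULift.{u} (Fin e); Y) ↘ Y with hπ
  haveI : LocallyOfFiniteType π := inferInstance
  haveI : IsLocallyNoetherian 𝔸(ULift.{u} (Fin e); Y) :=
    LocallyOfFiniteType.isLocallyNoetherian π
  intro η hη
  obtain ⟨U0, hU0open, htU0, hU0⟩ :=
    JacDim.exists_nhd (X := 𝔸(ULift.{u} (Fin e); Y)) Set.univ isClosed_univ t
  have hopen : IsOpen (π '' U0) :=
    (AffineSpace.isOpenMap_over (n := ULift.{u} (Fin e)) (S := Y)) U0 hU0open
  have hmem : η ∈ π '' U0 := hη.mem_open hopen ⟨t, htU0, rfl⟩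
  obtain ⟨s, hsU0, hs⟩ := hmem
  obtain ⟨μ, -, hμs, hμt⟩ := hU0 s ⟨hsU0, trivial⟩
  rw [hmax μ hμt] at hμs
  have h1 : π t ⤳ η := by
    rw [← hs]
    exact hμs.map π.continuous
  exact (Specializes.antisymm hη h1).eq

/-- The closure of the image of the closure of a point. -/
theorem closure_image_closure_singleton {A B : Type*} [TopologicalSpace A] [TopologicalSpace B]
    (g : A → B) (hg : Continuous g) (a : A) :
    closure (g '' closure {a}) = closure {g a} := by
  apply subset_antisymm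
  · apply closure_minimal _ isClosed_closure
    refine (image_closure_subset_closure_image hg).trans ?_
    rw [Set.image_singleton]
  · apply closure_mono
    rw [Set.singleton_subset_iff]
    exact ⟨a, subset_closure rfl, rfl⟩

/-- `b) ⟹ a)` over a locally Noetherian base. -/
theorem main3386_mpr [IsLocallyNoetherian Y] (f : X ⟶ Y) [LocallyOfFiniteType f] (x : X)
    (e : ℕ) (U : X.Opens) (g : (U : Scheme.{u}) ⟶ 𝔸(ULift.{u} (Fin e); Y)) (hxU : x ∈ U)
    (hcomm : g ≫ (𝔸(ULift.{u} (Fin e); Y) ↘ Y) = U.ι ≫ f) [LocallyQuasiFinite g]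
    (hcomp : ∀ Z ∈ irreducibleComponents (U.toScheme : Type u),
      closure (g '' Z) ∈ irreducibleComponents (↥𝔸(ULift.{u} (Fin e); Y) : Type u)) :
    EGA43.IsEquidimAt f x := by
  haveI : IsLocallyNoetherian X := LocallyOfFiniteType.isLocallyNoetherian f
  set π := 𝔸(ULift.{u} (Fin e); Y) ↘ Y with hπ
  haveI : LocallyOfFiniteType π := inferInstance
  haveI : LocallyOfFiniteType (g ≫ π) := by rw [hcomm]; infer_instance
  haveI : LocallyOfFiniteType g := locallyOfFiniteType_of_comp g π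
  -- Fact A
  have factA : ∀ w : U.toScheme, tr f (U.ι w) = tr π (g w) := by
    intro w
    rw [← tr_comp_openImmersion U.ι f w, ← tr_comp_of_lqf g π w]
    exact (Chev.tr_congr hcomm w).symm
  -- Fact B
  have factB : ∀ w : U.toScheme, (∀ ξ' : X, ξ' ⤳ U.ι w → ξ' = U.ι w) →
      ∀ t' : 𝔸(ULift.{u} (Fin e); Y), t' ⤳ g w → t' = g w := by
    intro w hw
    have hwmax : ∀ w' : U.toScheme, w' ⤳ w → w' = w := by
      intro w' hw'
      apply U.ι.isOpenEmbedding.injective
      exact hw _ (hw'.map U.ι.continuous)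
    have h1 := (AffPts.closure_mem_irreducibleComponents_iff w).mpr hwmax
    have h2 := hcomp _ h1
    rw [closure_image_closure_singleton g g.continuous w] at h2
    exact (AffPts.closure_mem_irreducibleComponents_iff (g w)).mp h2
  -- Fact D
  have factD : ∀ t : 𝔸(ULift.{u} (Fin e); Y),
      (∀ t' : 𝔸(ULift.{u} (Fin e); Y), t' ⤳ t → t' = t) → tr π t = e := by
    intro t ht
    exact tr_affineSpace_of_G_eq_zero e t ((G_eq_zero_iff π t).mpr (fun t' _ hsp => ht t' hsp))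
  -- Fact E
  have factE : ∀ w : U.toScheme, FlatMor.fibreDimAt f (U.ι w) ≤ e := by
    intro w
    have h1 := Chev.fibreDimAt_le_of_quasiFiniteAt (U.ι ≫ f) e g hcomm w (g.quasiFiniteAt w)
    have h2 := Chev.fibreDimAt_eq_of_openImmersion_square (U.ι ≫ f) (𝟙 Y) U.ι f
      (Category.comp_id _) w
    rw [h2]
    exact h1
  obtain ⟨U0, hU0open, hxU0, hU0⟩ := JacDim.exists_nhd (X := X) Set.univ isClosed_univ x
  set U' : X.Opens := U ⊓ ⟨U0, hU0open⟩ with hU'
  have hxU' : x ∈ U' := ⟨hxU, hxU0⟩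
  have hgenx : ∀ ξ ∈ U', (∀ ξ' : X, ξ' ⤳ ξ → ξ' = ξ) → ξ ⤳ x := by
    intro ξ hξU hmax
    obtain ⟨μ, -, hμξ, hμx⟩ := hU0 ξ ⟨hξU.2, trivial⟩
    rw [hmax μ hμξ] at hμx
    exact hμx
  have hfg : ∀ w : U.toScheme, π (g w) = f (U.ι w) := by
    intro w
    have := congrArg (fun φ : U.toScheme ⟶ Y => φ w) hcomm
    exact this
  refine isEquidimAt_of_points' f x e U' hxU' ?_ ?_
  · intro ξ hξU hmax
    have hξx := hgenx ξ hξU hmax
    refine ⟨hξx.map f.continuous, ?_⟩
    let w : U.toScheme := ⟨ξ, hξU.1⟩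
    have h1 := affineSpace_over_max e (g w) (factB w hmax)
    rw [hfg w] at h1
    exact h1
  · intro ζ hζU hζmax
    have h1 : FlatMor.fibreDimAt f ζ = ((tr f ζ : ℕ) : ℕ∞) := fibreDimAt_of_max f ζ hζmax
    have h2 : tr f ζ ≤ e := by
      have h2' := factE ⟨ζ, hζU.1⟩
      have h2'' : FlatMor.fibreDimAt f ζ ≤ ((e : ℕ) : WithBot ℕ∞) := h2'
      rw [h1] at h2''
      exact_mod_cast h2''
    obtain ⟨ξ, hle, hξmax⟩ := FibreOrder.exists_isMax_ge ζ
    have hξζ : ξ ⤳ ζ := hle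
    have hmax : ∀ ξ' : X, ξ' ⤳ ξ → ξ' = ξ := by
      intro ξ' hξ'
      have h3 : ξ ≤ ξ' := hξ'
      have h4 : ξ' ≤ ξ := hξmax h3
      exact (Specializes.antisymm hξ' h4).eq
    have hξU : ξ ∈ U' := hξζ.mem_open U'.isOpen hζU
    let w : U.toScheme := ⟨ξ, hξU.1⟩
    have h3 := fibreDimAt_mono f hξζ
    have h4 : tr f ξ = e := by
      have := factA w
      rw [factD (g w) (factB w hmax)] at this
      exact this
    rw [fibreDimAt_of_max f ξ (fun ξ' _ hsp => hmax ξ' hsp), h1, h4] at h3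
    have h5 : e ≤ tr f ζ := by exact_mod_cast h3
    omega

/-- `a) ⟹ b)` over an arbitrary base. -/
theorem main3386_mp (f : X ⟶ Y) [LocallyOfFiniteType f] (x : X) (h : EGA43.IsEquidimAt f x) :
    ∃ (e : ℕ) (U : X.Opens) (g : (U : Scheme.{u}) ⟶ 𝔸(ULift.{u} (Fin e); Y)),
      x ∈ U ∧ g ≫ (𝔸(ULift.{u} (Fin e); Y) ↘ Y) = U.ι ≫ f ∧ LocallyQuasiFinite g ∧
      ∀ Z ∈ irreducibleComponents (U.toScheme : Type u),
        closure (g '' Z) ∈ irreducibleComponents (↥𝔸(ULift.{u} (Fin e); Y) : Type u) := by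
  obtain ⟨e, U, hxU, hE1, hE2⟩ := equidim_points f x h
  have hd : FlatMor.fibreDimAt f x = e := by
    rw [fibreDimAt_eq_tr_add_G, tr_add_G_eq_of_points' f x e U hxU hE2]
    rfl
  obtain ⟨V, hV, hfxV⟩ : ∃ V : Y.Opens, IsAffineOpen V ∧ f x ∈ V := by
    obtain ⟨_, ⟨V, hV : IsAffineOpen V, rfl⟩, hfxV, -⟩ :=
      (Y.isBasis_affineOpens).exists_subset_of_mem_open (Set.mem_univ (f x)) isOpen_univ
    exact ⟨V, hV, hfxV⟩
  obtain ⟨U₁, hU₁, hxU₁, g₁, π₁, hg₁, hπ₁, hqf, hlft⟩ :=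
    Chev.exists_affine_nhd_quasiFinite f x V hV hfxV e hd
  set U' : X.Opens := U₁ ⊓ U with hU'
  let j : U'.toScheme ⟶ U₁.toScheme := X.homOfLE inf_le_left
  let m : 𝔸(ULift.{u} (Fin e); (V : Scheme.{u})) ⟶ 𝔸(ULift.{u} (Fin e); Y) :=
    AffineSpace.map _ V.ι
  haveI : IsOpenImmersion m :=
    MorphismProperty.of_isPullback (P := @IsOpenImmersion)
      (AffineSpace.isPullback_map (n := ULift.{u} (Fin e)) V.ι).flip inferInstance
  set π := 𝔸(ULift.{u} (Fin e); Y) ↘ Y with hπ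
  haveI : LocallyOfFiniteType π := inferInstance
  let g' : U'.toScheme ⟶ 𝔸(ULift.{u} (Fin e); Y) := j ≫ π₁ ≫ m
  have hover : g' ≫ π = U'.ι ≫ f := by
    show (j ≫ π₁ ≫ m) ≫ π = U'.ι ≫ f
    rw [Category.assoc, Category.assoc]
    have h1 : m ≫ π = (𝔸(ULift.{u} (Fin e); (V : Scheme.{u})) ↘ (V : Scheme.{u})) ≫ V.ι :=
      AffineSpace.map_over V.ι
    rw [h1, ← Category.assoc π₁, hπ₁, hg₁, ← Category.assoc, X.homOfLE_ι]
  haveI : LocallyQuasiFinite g' := by
    haveI := hqf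
    infer_instance
  haveI : LocallyOfFiniteType (g' ≫ π) := by rw [hover]; infer_instance
  haveI : LocallyOfFiniteType g' := locallyOfFiniteType_of_comp g' π
  refine ⟨e, U', g', ⟨hxU₁, hxU⟩, hover, inferInstance, ?_⟩
  refine fun (Z : Set U'.toScheme) (hZ : Z ∈ irreducibleComponents (U'.toScheme : Type u)) => ?_
  have hZc : IsClosed Z := isClosed_of_mem_irreducibleComponents Z hZ
  obtain ⟨ξ', hξ'⟩ := QuasiSober.sober hZ.1 hZc
  have hmax : ∀ ξ'' : X, ξ'' ⤳ U'.ι ξ' → ξ'' = U'.ι ξ' := by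
    intro ξ₁ hξ₁
    have hξ₁U : ξ₁ ∈ U' := hξ₁.mem_open U'.isOpen ξ'.2
    let ξ₂ : U'.toScheme := ⟨ξ₁, hξ₁U⟩
    have h1 : ξ₂ ⤳ ξ' := U'.ι.isOpenEmbedding.isInducing.specializes_iff.mp hξ₁
    have h2 : Z ⊆ closure {ξ₂} := by
      rw [← hξ'.def]
      exact h1.closure_subset
    have h3 : closure {ξ₂} = Z := (hZ.2 isIrreducible_singleton.closure h2).antisymm h2
    have h4 : IsGenericPoint ξ₂ Z := h3
    have h5 : ξ₂ = ξ' := h4.eq hξ'
    exact congrArg U'.ι h5
  have hξU : U'.ι ξ' ∈ U := ξ'.2.2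
  have hηmax := hE1 (U'.ι ξ') hξU hmax
  have htrξ : tr f (U'.ι ξ') = e := hE2 (U'.ι ξ') hξU (fun ζ' _ hsp => hmax ζ' hsp)
  have hπt : π (g' ξ') = f (U'.ι ξ') := by
    have := congrArg (fun φ : U'.toScheme ⟶ Y => φ ξ') hover
    exact this
  have htrt : tr π (g' ξ') = e := by
    rw [← tr_comp_of_lqf g' π ξ', Chev.tr_congr hover ξ', tr_comp_openImmersion U'.ι f ξ']
    exact htrξ
  have hG : FibreOrder.G π (g' ξ') = 0 := by
    have h1 := Chev.fibreDimAt_affineSpace_le (ULift.{u} (Fin e)) Y (g' ξ')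
    rw [fibreDimAt_eq_tr_add_G, htrt] at h1
    have h7 : (Nat.card (ULift.{u} (Fin e)) : WithBot ℕ∞) = ((e : ℕ∞) : WithBot ℕ∞) := by simp
    rw [h7] at h1
    have h2 : ((e : ℕ) : ℕ∞) + FibreOrder.G π (g' ξ') ≤ (e : ℕ∞) := WithBot.coe_le_coe.mp h1
    have h3 : ((e : ℕ) : ℕ∞) + FibreOrder.G π (g' ξ') ≤ (e : ℕ∞) + 0 := by rwa [add_zero]
    exact le_antisymm ((ENat.add_le_add_iff_left (ENat.natCast_ne_top e)).mp h3) zero_le'
  have htmax : ∀ t' : 𝔸(ULift.{u} (Fin e); Y), t' ⤳ g' ξ' → t' = g' ξ' := by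
    intro t' ht'
    have h1 : π t' ⤳ π (g' ξ') := ht'.map π.continuous
    rw [hπt] at h1
    have h2 : π t' = π (g' ξ') := by
      rw [hπt]
      exact hηmax _ h1
    exact (G_eq_zero_iff π (g' ξ')).mp hG t' h2 ht'
  rw [← hξ'.def, closure_image_closure_singleton g' g'.continuous ξ']
  exact (AffPts.closure_mem_irreducibleComponents_iff (g' ξ')).mpr htmax

end Groth.Agent.Lib.Helper24.FibreDim
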