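import Mathlib
import Groth.Agent.Lib.Helper24.FibreDim.Main3386

/-!
# The irreducible components criterion for equidimensionality at a point (helper24)
-/

set_option autoImplicit false
set_option linter.style.haveILetI false
universe u
open scoped Cardinal
open AlgebraicGeometry CategoryTheory TopologicalSpace Topology
open Groth.Agent.Lib.Helper7 Groth.Agent.Lib.lead Groth.Agent.Lib.Helper18

namespace Groth.Agent.Lib.Helper24.FibreDim

variable {X Y : Scheme.{u}}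

/-- The dimension of the generic fibre of the closure of a point. -/
theorem dim_closure_inter_fibre (f : X ⟶ Y) [LocallyOfFiniteType f] (ξ : X) :
    topologicalKrullDim ↥(closure ({ξ} : Set X) ∩ f ⁻¹' {f ξ}) =
      ((tr f ξ : ℕ) : WithBot ℕ∞) := by
  set C : Set (f.fiber (f ξ)) := closure {f.asFiber ξ} with hC
  let ψ : ↥C → X := fun c => f.fiberι (f ξ) c.1
  have hψ : IsEmbedding ψ := (f.fiberι (f ξ)).isEmbedding.comp IsEmbedding.subtypeVal
  have hrange : Set.range ψ = closure ({ξ} : Set X) ∩ f ⁻¹' {f ξ} := by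
    have h1 : Set.range ψ = f.fiberι (f ξ) '' C := by
      show Set.range ((f.fiberι (f ξ)) ∘ (Subtype.val : ↥C → f.fiber (f ξ))) = _
      rw [Set.range_comp, Subtype.range_val]
    rw [h1, hC, (f.fiberι (f ξ)).isEmbedding.isInducing.closure_eq_preimage_closure_image,
      Set.image_preimage_eq_inter_range, Set.image_singleton, f.fiberι_asFiber, f.range_fiberι]
  have h2 : topologicalKrullDim ↥C = topologicalKrullDim ↥(Set.range ψ) :=
    IsHomeomorph.topologicalKrullDim_eq _ hψ.toHomeomorph.isHomeomorph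
  rw [hrange] at h2
  rw [← h2]
  exact dim_closure_asFiber f ξ

theorem localDim_inter_fibre_eq' {X'' : Scheme.{u}} (ι : X'' ⟶ X) (hemb : IsClosedEmbedding ι)
    (f : X ⟶ Y) (X' : Set X) (hr : Set.range ι = X') (w₀ : X'') (x : X) (hw : ι w₀ = x)
    (hx : x ∈ X' ∩ f ⁻¹' {f x}) :
    FlatMor.localDim ↥(X' ∩ f ⁻¹' {f x}) ⟨x, hx⟩ = FlatMor.fibreDimAt (ι ≫ f) w₀ := by
  subst hw
  exact localDim_inter_fibre_eq ι hemb f X' hr w₀ hx

/-- Data attached to the closure of a point `ξ` specializing to `x`: the local dimension at `x`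
of `closure {ξ} ∩ f⁻¹(f x)` bounds the residue transcendence degrees of the points of this set
specializing to `x`, and is at least that of `ξ`. -/
theorem closure_fibre_facts (f : X ⟶ Y) [LocallyOfFiniteType f] (x ξ : X) (hξx : ξ ⤳ x)
    (hx : x ∈ closure ({ξ} : Set X) ∩ f ⁻¹' {f x}) :
    (∀ z : X, f z = f x → z ⤳ x → ξ ⤳ z →
      ((tr f z : ℕ) : WithBot ℕ∞) ≤
        FlatMor.localDim ↥(closure ({ξ} : Set X) ∩ f ⁻¹' {f x}) ⟨x, hx⟩) ∧
    ((∀ ξ' : X, ξ' ⤳ ξ → ξ' = ξ) → ((tr f ξ : ℕ) : WithBot ℕ∞) ≤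
        FlatMor.localDim ↥(closure ({ξ} : Set X) ∩ f ⁻¹' {f x}) ⟨x, hx⟩) ∧
    FlatMor.localDim ↥(closure ({ξ} : Set X) ∩ f ⁻¹' {f x}) ⟨x, hx⟩ ≤ FlatMor.fibreDimAt f x := by
  set X' : TopologicalSpace.Closeds X := ⟨closure {ξ}, isClosed_closure⟩ with hX'
  set ι := (Scheme.IdealSheafData.vanishingIdeal X').subschemeι with hι
  have hemb : IsClosedEmbedding ι := ι.isClosedEmbedding
  have hr : Set.range ι = closure ({ξ} : Set X) :=
    (Scheme.IdealSheafData.vanishingIdeal X').range_subschemeι.trans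
      (Scheme.IdealSheafData.coe_support_vanishingIdeal X')
  have hxr : x ∈ Set.range ι := by
    rw [hr]
    exact hx.1
  obtain ⟨w₀, hw₀⟩ := hxr
  have hξr : ξ ∈ Set.range ι := by
    rw [hr]
    exact subset_closure rfl
  obtain ⟨w', hw'⟩ := hξr
  have hgen : ∀ ζ : ↥(Scheme.IdealSheafData.vanishingIdeal X').subscheme, w' ⤳ ζ := by
    intro ζ
    rw [← hemb.isInducing.specializes_iff, specializes_iff_mem_closure, hw', ← hr]
    exact Set.mem_range_self ζ
  have hL := localDim_inter_fibre_eq' ι hemb f (closure ({ξ} : Set X)) hr w₀ x hw₀ hx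
  rw [hL]
  refine ⟨?_, ?_, ?_⟩
  · intro z hfz hzx hξz
    have hzr : z ∈ Set.range ι := by
      rw [hr]
      exact specializes_iff_mem_closure.mp hξz
    obtain ⟨z'', hz''⟩ := hzr
    have h1 : z'' ⤳ w₀ := by
      rw [← hemb.isInducing.specializes_iff, hz'', hw₀]
      exact hzx
    have h2 : (ι ≫ f) z'' = (ι ≫ f) w₀ := by
      show f (ι z'') = f (ι w₀)
      rw [hz'', hw₀, hfz]
    have h3 := tr_le_fibreDimAt (ι ≫ f) h1 h2
    rw [tr_comp_of_bijective ι f z'' (residueFieldMap_bijective_of_surjectiveOnStalks ι z''),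
      hz''] at h3
    exact h3
  · intro hmax
    have hw'max : ∀ ζ : ↥(Scheme.IdealSheafData.vanishingIdeal X').subscheme,
        ζ ⤳ w' → ζ = w' := fun ζ hζ => ((hgen ζ).antisymm hζ).eq.symm
    have h1 := fibreDimAt_mono (ι ≫ f) (hgen w₀)
    rw [fibreDimAt_of_fibre_max (ι ≫ f) w' (fun z' _ hz' => hw'max z' hz'),
      tr_comp_of_bijective ι f w' (residueFieldMap_bijective_of_surjectiveOnStalks ι w'),
      hw'] at h1
    exact h1
  · obtain ⟨z'', hfz'', hz''w₀, -, htr⟩ := exists_max_tr (ι ≫ f) w₀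
    rw [← htr, tr_comp_of_bijective ι f z'' (residueFieldMap_bijective_of_surjectiveOnStalks ι z'')]
    have h1 : ι z'' ⤳ x := by
      rw [← hw₀]
      exact hz''w₀.map ι.continuous
    have h2 : f (ι z'') = f x := by
      rw [← hw₀]
      exact hfz''
    exact tr_le_fibreDimAt f h1 h2

theorem main3456_mp [IsLocallyNoetherian Y] (f : X ⟶ Y) [LocallyOfFiniteType f] (x : X)
    (h : EGA43.IsEquidimAt f x) :
    ∃ e : ℕ, ∀ Xj ∈ irreducibleComponents (X : Type u), ∀ hx : x ∈ Xj,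
      closure (f.base '' Xj) ∈ irreducibleComponents (Y : Type u) ∧
      (∀ η : Y, closure ({η} : Set Y) = closure (f.base '' Xj) →
        topologicalKrullDim ↥(Xj ∩ f.base ⁻¹' {η}) = e) ∧
      FlatMor.localDim ↥(Xj ∩ f.base ⁻¹' {f.base x})
        ⟨x, ⟨hx, Set.mem_singleton (f.base x)⟩⟩ = e := by
  obtain ⟨e, U, hxU, hE1, hE2⟩ := equidim_points f x h
  refine ⟨e, fun Xj hXj hx => ?_⟩
  obtain ⟨ξ, hξ⟩ := QuasiSober.sober hXj.1 (isClosed_of_mem_irreducibleComponents Xj hXj)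
  obtain rfl : closure ({ξ} : Set X) = Xj := hξ.def
  have hξx : ξ ⤳ x := specializes_iff_mem_closure.mpr hx
  have hξU : ξ ∈ U := hξx.mem_open U.isOpen hxU
  have hmax : ∀ ξ' : X, ξ' ⤳ ξ → ξ' = ξ :=
    (AffPts.closure_mem_irreducibleComponents_iff ξ).mp hXj
  have hcl : closure (f.base '' closure ({ξ} : Set X)) = closure {f ξ} :=
    closure_image_closure_singleton f f.continuous ξ
  have htr : tr f ξ = e := hE2 ξ hξU (fun ζ' _ hsp => hmax ζ' hsp)
  refine ⟨?_, ?_, ?_⟩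
  · rw [hcl]
    exact (AffPts.closure_mem_irreducibleComponents_iff (f ξ)).mpr (hE1 ξ hξU hmax)
  · intro η hη
    rw [hcl] at hη
    have h1 : η ⤳ f ξ := by
      rw [specializes_iff_closure_subset, hη]
    have h2 : f ξ ⤳ η := by
      rw [specializes_iff_closure_subset, hη]
    obtain rfl : η = f ξ := (h1.antisymm h2).eq
    have h3 := dim_closure_inter_fibre f ξ
    rw [htr] at h3
    exact h3
  · obtain ⟨h1, h2, h3⟩ := closure_fibre_facts f x ξ hξx ⟨hx, Set.mem_singleton (f x)⟩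
    have h4 := h2 hmax
    rw [htr] at h4
    have h5 : FlatMor.fibreDimAt f x = ((e : ℕ) : WithBot ℕ∞) := by
      rw [fibreDimAt_eq_tr_add_G, tr_add_G_eq_of_points' f x e U hxU hE2]
      rfl
    rw [h5] at h3
    exact le_antisymm h3 h4

theorem main3456_mpr [IsLocallyNoetherian Y] (f : X ⟶ Y) [LocallyOfFiniteType f] (x : X)
    (e : ℕ)
    (hyp : ∀ Xj ∈ irreducibleComponents (X : Type u), ∀ hx : x ∈ Xj,
      closure (f.base '' Xj) ∈ irreducibleComponents (Y : Type u) ∧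
      (∀ η : Y, closure ({η} : Set Y) = closure (f.base '' Xj) →
        topologicalKrullDim ↥(Xj ∩ f.base ⁻¹' {η}) = e) ∧
      FlatMor.localDim ↥(Xj ∩ f.base ⁻¹' {f.base x})
        ⟨x, ⟨hx, Set.mem_singleton (f.base x)⟩⟩ = e) :
    EGA43.IsEquidimAt f x := by
  haveI : IsLocallyNoetherian X := LocallyOfFiniteType.isLocallyNoetherian f
  have key : ∀ ξ : X, (∀ ξ' : X, ξ' ⤳ ξ → ξ' = ξ) → ξ ⤳ x →
      (∀ η : Y, η ⤳ f ξ → η = f ξ) ∧ tr f ξ = e ∧
      (∀ z : X, f z = f x → z ⤳ x → ξ ⤳ z → tr f z ≤ e) := by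
    intro ξ hmax hξx
    have hXj : closure ({ξ} : Set X) ∈ irreducibleComponents (X : Type u) :=
      (AffPts.closure_mem_irreducibleComponents_iff ξ).mpr hmax
    have hx : x ∈ closure ({ξ} : Set X) := specializes_iff_mem_closure.mp hξx
    obtain ⟨h1, h2, h3⟩ := hyp _ hXj hx
    have hcl : closure (f.base '' closure ({ξ} : Set X)) = closure {f ξ} :=
      closure_image_closure_singleton f f.continuous ξ
    refine ⟨?_, ?_, ?_⟩
    · rw [hcl] at h1
      exact (AffPts.closure_mem_irreducibleComponents_iff (f ξ)).mp h1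
    · have h4 := h2 (f ξ) hcl.symm
      have h5 := dim_closure_inter_fibre f ξ
      have h6 : ((tr f ξ : ℕ) : WithBot ℕ∞) = ((e : ℕ) : WithBot ℕ∞) := h5.symm.trans h4
      exact_mod_cast h6
    · intro z hfz hzx hξz
      obtain ⟨k1, -, -⟩ := closure_fibre_facts f x ξ hξx ⟨hx, Set.mem_singleton (f x)⟩
      have h4 := k1 z hfz hzx hξz
      have h3' : FlatMor.localDim ↥(closure ({ξ} : Set X) ∩ f ⁻¹' {f x})
          ⟨x, ⟨hx, Set.mem_singleton (f x)⟩⟩ = ((e : ℕ) : WithBot ℕ∞) := h3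
      rw [h3'] at h4
      exact_mod_cast h4
  have max_gen : ∀ ζ : X, ∃ ξ : X, ξ ⤳ ζ ∧ ∀ ξ' : X, ξ' ⤳ ξ → ξ' = ξ := by
    intro ζ
    obtain ⟨ξ, hle, hξmax⟩ := FibreOrder.exists_isMax_ge ζ
    refine ⟨ξ, hle, ?_⟩
    intro ξ' hξ'
    have h3 : ξ ≤ ξ' := hξ'
    have h4 : ξ' ≤ ξ := hξmax h3
    exact (Specializes.antisymm hξ' h4).eq
  have hfx : FlatMor.fibreDimAt f x ≤ ((e : ℕ) : WithBot ℕ∞) := by
    obtain ⟨z, hfz, hzx, -, htr⟩ := exists_max_tr f x
    obtain ⟨ξ, hξz, hmax⟩ := max_gen z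
    have h1 := (key ξ hmax (hξz.trans hzx)).2.2 z hfz hzx hξz
    rw [← htr]
    exact_mod_cast h1
  have hU1 : IsOpen {w : X | FlatMor.fibreDimAt f w ≤ e} := Chev.isOpen_fibreDimAt_le f e
  obtain ⟨U0, hU0open, hxU0, hU0⟩ := JacDim.exists_nhd (X := X) Set.univ isClosed_univ x
  set U' : X.Opens := ⟨U0 ∩ {w : X | FlatMor.fibreDimAt f w ≤ e}, hU0open.inter hU1⟩ with hU'
  have hxU' : x ∈ U' := ⟨hxU0, hfx⟩
  have hgenx : ∀ ξ ∈ U', (∀ ξ' : X, ξ' ⤳ ξ → ξ' = ξ) → ξ ⤳ x := by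
    intro ξ hξU hmax
    obtain ⟨μ, -, hμξ, hμx⟩ := hU0 ξ ⟨hξU.1, trivial⟩
    rw [hmax μ hμξ] at hμx
    exact hμx
  refine isEquidimAt_of_points' f x e U' hxU' ?_ ?_
  · intro ξ hξU hmax
    have hξx := hgenx ξ hξU hmax
    exact ⟨hξx.map f.continuous, (key ξ hmax hξx).1⟩
  · intro ζ hζU hζmax
    have h1 : FlatMor.fibreDimAt f ζ = ((tr f ζ : ℕ) : ℕ∞) := fibreDimAt_of_max f ζ hζmax
    have h2 : tr f ζ ≤ e := by
      have h2' : FlatMor.fibreDimAt f ζ ≤ ((e : ℕ) : WithBot ℕ∞) := hζU.2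
      rw [h1] at h2'
      exact_mod_cast h2'
    obtain ⟨ξ, hξζ, hmax⟩ := max_gen ζ
    have hξU : ξ ∈ U' := hξζ.mem_open U'.isOpen hζU
    have hξx := hgenx ξ hξU hmax
    have h3 := fibreDimAt_mono f hξζ
    rw [fibreDimAt_of_max f ξ (fun ξ' _ hsp => hmax ξ' hsp), h1, (key ξ hmax hξx).2.1] at h3
    have h5 : e ≤ tr f ζ := by exact_mod_cast h3
    omega

end Groth.Agent.Lib.Helper24.FibreDim
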