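import Mathlib
import Groth.Agent.Lib.Helper24.FibreDim.Main4943
import Groth.Agent.Lib.Helper24.JacDim.LocalDimY
import Groth.Agent.Lib.Helper24.CodimPre.Main

/-!
# EGA IV 13.3.x: the zero locus of a section avoiding the maximal points of a fibre of an
equidimensional morphism (helper24)
-/

set_option autoImplicit false
set_option linter.style.haveILetI false
universe u
open AlgebraicGeometry CategoryTheory TopologicalSpace Topology
open Groth.Agent.Lib.Helper7 Groth.Agent.Lib.lead Groth.Agent.Lib.Helper18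

namespace Groth.Agent.Lib.Helper24.FibreDim

variable {X Y : Scheme.{u}}

/-- Krull's principal ideal theorem at a maximal point of the zero locus of a section. -/
theorem stalk_dim_le_one [IsLocallyNoetherian X] (g : Γ(X, ⊤)) (ξ : X)
    (hξg : ξ ∈ X.zeroLocus ({g} : Set Γ(X, ⊤)))
    (hξmax : ∀ ξ' ∈ X.zeroLocus ({g} : Set Γ(X, ⊤)), ξ' ⤳ ξ → ξ' = ξ) :
    ringKrullDim (X.presheaf.stalk ξ) ≤ 1 := by
  obtain ⟨_, ⟨W, hW, rfl⟩, hξW, -⟩ :=
    X.isBasis_affineOpens.exists_subset_of_mem_open (Set.mem_univ ξ) isOpen_univ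
  haveI : IsNoetherianRing Γ(X, W) := IsLocallyNoetherian.component_noetherian ⟨W, hW⟩
  rw [CodimPre.stalk_dim_eq_height hW ξ hξW]
  set gW : Γ(X, W) := X.presheaf.map (homOfLE (le_top : W ≤ ⊤)).op g with hgW
  have hbo : X.basicOpen gW = W ⊓ X.basicOpen g := Scheme.basicOpen_res _ _ _
  have hzl : ∀ q : X, q ∈ X.zeroLocus ({g} : Set Γ(X, ⊤)) ↔ q ∉ X.basicOpen g := by
    intro q
    rw [Scheme.zeroLocus_singleton]
    rfl
  have hmin : (hW.primeIdealOf ⟨ξ, hξW⟩).asIdeal ∈ (Ideal.span {gW}).minimalPrimes := by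
    refine ⟨⟨(hW.primeIdealOf ⟨ξ, hξW⟩).isPrime, ?_⟩, ?_⟩
    · rw [Ideal.span_singleton_le_iff_mem, AffPts.mem_primeIdealOf_iff hW ⟨ξ, hξW⟩ gW, hbo]
      intro h
      exact (hzl ξ).mp hξg h.2
    · rintro Q ⟨hQ, hQg⟩ hQP
      obtain ⟨⟨q, hqW⟩, hq⟩ := AffPts.primeIdealOf_surjective hW ⟨Q, hQ⟩
      have hQeq : (hW.primeIdealOf ⟨q, hqW⟩).asIdeal = Q := congrArg PrimeSpectrum.asIdeal hq
      have hqξ : q ⤳ ξ := by
        refine (AffPts.primeIdealOf_le_iff hW ⟨q, hqW⟩ ⟨ξ, hξW⟩).mp ?_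
        show (hW.primeIdealOf ⟨q, hqW⟩).asIdeal ≤ _
        rw [hQeq]
        exact hQP
      have hqg : q ∈ X.zeroLocus ({g} : Set Γ(X, ⊤)) := by
        rw [hzl]
        intro h
        have h1 : gW ∈ (hW.primeIdealOf ⟨q, hqW⟩).asIdeal := by
          rw [hQeq]
          exact (Ideal.span_singleton_le_iff_mem _).mp hQg
        rw [AffPts.mem_primeIdealOf_iff hW ⟨q, hqW⟩ gW, hbo] at h1
        exact h1 ⟨hqW, h⟩
      have hqeq : q = ξ := hξmax q hqg hqξ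
      subst hqeq
      rw [← hQeq]
  have := Ideal.height_le_one_of_isPrincipal_of_mem_minimalPrimes (Ideal.span {gW}) _ hmin
  exact_mod_cast this

/-- A point which is not maximal in its fibre has `tr + 1` bounded by the local fibre dimension. -/
theorem tr_add_one_le_of_not_max (f : X ⟶ Y) [LocallyOfFiniteType f] (x ζ : X) (hfζ : f ζ = f x)
    (hζx : ζ ⤳ x) (hnot : ¬ ∀ z' : X, f z' = f x → z' ⤳ ζ → z' = ζ) :
    ((tr f ζ : ℕ) : WithBot ℕ∞) + 1 ≤ FlatMor.fibreDimAt f x := by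
  push Not at hnot
  obtain ⟨z', hfz', hz'ζ, hne⟩ := hnot
  have hle : ζ ≤ z' := hz'ζ
  have hlt : ζ < z' := by
    rw [lt_iff_le_not_ge]
    refine ⟨hle, fun hge => hne ?_⟩
    have hge' : ζ ⤳ z' := hge
    exact (hz'ζ.antisymm hge').eq
  have h1 := tr_lt_of_lt f hlt (hfζ.trans hfz'.symm)
  have h2 := tr_le_fibreDimAt f (hz'ζ.trans hζx) hfz'
  have h3 : ((tr f ζ : ℕ) : WithBot ℕ∞) + 1 ≤ ((tr f z' : ℕ) : WithBot ℕ∞) := by
    have : tr f ζ + 1 ≤ tr f z' := h1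
    exact_mod_cast this
  exact le_trans h3 h2

theorem eq_of_isMax {Z : Scheme.{u}} {ξ ξ' : Z} (hξ : IsMax ξ) (h : ξ' ⤳ ξ) : ξ' = ξ := by
  have h1 : ξ ≤ ξ' := h
  have h2 : ξ ⤳ ξ' := hξ h1
  exact (h.antisymm h2).eq

/-- The facts about a maximal point `ξ` of the zero locus of `g` specializing to `x`. -/
theorem comp_facts [IrreducibleSpace Y] [IsLocallyNoetherian Y] (f : X ⟶ Y)
    [LocallyOfFiniteType f] (x : X) (hf : EGA43.IsEquidimAt f x) (g : Γ(X, ⊤))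
    (hmax : ∀ z : X, f z = f x → (∀ z' : X, f z' = f x → z' ⤳ z → z' = z) →
      z ∉ X.zeroLocus ({g} : Set Γ(X, ⊤)))
    (ξ : X) (hξg : ξ ∈ X.zeroLocus ({g} : Set Γ(X, ⊤))) (hξx : ξ ⤳ x)
    (hξmax : ∀ ξ' ∈ X.zeroLocus ({g} : Set Γ(X, ⊤)), ξ' ⤳ ξ → ξ' = ξ) :
    ringKrullDim (X.presheaf.stalk ξ) = 1 ∧ f ξ = genericPoint Y ∧
      ((tr f ξ : ℕ) : WithBot ℕ∞) + 1 = FlatMor.fibreDimAt f x ∧
      ∃ ζ : X, ξ ⤳ ζ ∧ f ζ = f x ∧ ζ ⤳ x ∧
        ((tr f ζ : ℕ) : WithBot ℕ∞) + 1 = FlatMor.fibreDimAt f x := by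
  haveI : IsLocallyNoetherian X := LocallyOfFiniteType.isLocallyNoetherian f
  let X' : TopologicalSpace.Closeds X := ⟨closure {ξ}, isClosed_closure⟩
  have hemb : IsClosedEmbedding (Scheme.IdealSheafData.vanishingIdeal X').subschemeι :=
    (Scheme.IdealSheafData.vanishingIdeal X').subschemeι.isClosedEmbedding
  have hr : Set.range (Scheme.IdealSheafData.vanishingIdeal X').subschemeι = closure {ξ} :=
    (Scheme.IdealSheafData.vanishingIdeal X').range_subschemeι.trans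
      (Scheme.IdealSheafData.coe_support_vanishingIdeal X')
  have hxr : x ∈ Set.range (Scheme.IdealSheafData.vanishingIdeal X').subschemeι := by
    rw [hr]
    exact specializes_iff_mem_closure.mp hξx
  obtain ⟨w₀, hw₀⟩ := hxr
  have hξr : ξ ∈ Set.range (Scheme.IdealSheafData.vanishingIdeal X').subschemeι := by
    rw [hr]
    exact subset_closure rfl
  obtain ⟨w', hw'⟩ := hξr
  have hgen : ∀ ξ₂ : ↥(Scheme.IdealSheafData.vanishingIdeal X').subscheme, w' ⤳ ξ₂ := by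
    intro ξ₂
    rw [← hemb.isInducing.specializes_iff, specializes_iff_mem_closure, hw', ← hr]
    exact Set.mem_range_self ξ₂
  have hVg : IsClosed (X.zeroLocus ({g} : Set Γ(X, ⊤))) := X.zeroLocus_isClosed _
  have hsub : ∀ w : ↥(Scheme.IdealSheafData.vanishingIdeal X').subscheme,
      (Scheme.IdealSheafData.vanishingIdeal X').subschemeι w ∈
        X.zeroLocus ({g} : Set Γ(X, ⊤)) := by
    intro w
    have h1 : (Scheme.IdealSheafData.vanishingIdeal X').subschemeι w ∈ closure {ξ} := by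
      rw [← hr]
      exact Set.mem_range_self w
    exact (specializes_iff_mem_closure.mpr h1).mem_closed hVg hξg
  subst hw₀
  have hcodim : ringKrullDim (X.presheaf.stalk
      ((Scheme.IdealSheafData.vanishingIdeal X').subschemeι w')) ≤ (1 : ℕ) := by
    rw [hw']
    exact stalk_dim_le_one g ξ hξg hξmax
  -- the fibre dimension of the restriction
  obtain ⟨z'', hz''f, hz''w, -, hz''tr⟩ :=
    exists_max_tr ((Scheme.IdealSheafData.vanishingIdeal X').subschemeι ≫ f) w₀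
  have htrz : tr ((Scheme.IdealSheafData.vanishingIdeal X').subschemeι ≫ f) z'' =
      tr f ((Scheme.IdealSheafData.vanishingIdeal X').subschemeι z'') :=
    tr_comp_of_bijective _ f z'' (residueFieldMap_bijective_of_surjectiveOnStalks _ z'')
  have hζx : (Scheme.IdealSheafData.vanishingIdeal X').subschemeι z'' ⤳
      (Scheme.IdealSheafData.vanishingIdeal X').subschemeι w₀ :=
    hz''w.map (Scheme.IdealSheafData.vanishingIdeal X').subschemeι.continuous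
  have hnot : ¬ ∀ z' : X, f z' = f ((Scheme.IdealSheafData.vanishingIdeal X').subschemeι w₀) →
      z' ⤳ (Scheme.IdealSheafData.vanishingIdeal X').subschemeι z'' →
      z' = (Scheme.IdealSheafData.vanishingIdeal X').subschemeι z'' :=
    fun h => hmax _ hz''f h (hsub z'')
  have hdim0 := tr_add_one_le_of_not_max f
    ((Scheme.IdealSheafData.vanishingIdeal X').subschemeι w₀)
    ((Scheme.IdealSheafData.vanishingIdeal X').subschemeι z'') hz''f hζx hnot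
  rw [← htrz, hz''tr] at hdim0
  have hdim : FlatMor.fibreDimAt ((Scheme.IdealSheafData.vanishingIdeal X').subschemeι ≫ f) w₀ +
      ((1 : ℕ) : WithBot ℕ∞) ≤
      FlatMor.fibreDimAt f ((Scheme.IdealSheafData.vanishingIdeal X').subschemeι w₀) := by
    exact_mod_cast hdim0
  obtain ⟨h1, h2, -, h4, h5⟩ := core4943 f (Scheme.IdealSheafData.vanishingIdeal X').subschemeι
    w₀ w' hgen hf 1 hcodim hdim
  rw [hw'] at h1 h4 h5
  refine ⟨by exact_mod_cast h1, h4, by exact_mod_cast h5,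
    (Scheme.IdealSheafData.vanishingIdeal X').subschemeι z'', ?_, hz''f, hζx, ?_⟩
  · have := (hgen z'').map (Scheme.IdealSheafData.vanishingIdeal X').subschemeι.continuous
    rwa [hw'] at this
  · rw [← htrz, hz''tr]
    exact_mod_cast h2

/-- The zero locus with any closed subscheme structure: equidimensionality and fibre dimension. -/
theorem core5925 [IrreducibleSpace Y] [IsLocallyNoetherian Y] (f : X ⟶ Y)
    [LocallyOfFiniteType f] {X'' : Scheme.{u}} (ι : X'' ⟶ X) [IsClosedImmersion ι] (g : Γ(X, ⊤))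
    (hr : Set.range ι = X.zeroLocus ({g} : Set Γ(X, ⊤))) (w₀ : X'')
    (hf : EGA43.IsEquidimAt f (ι w₀))
    (hmax : ∀ z : X, f z = f (ι w₀) → (∀ z' : X, f z' = f (ι w₀) → z' ⤳ z → z' = z) →
      z ∉ X.zeroLocus ({g} : Set Γ(X, ⊤))) :
    EGA43.IsEquidimAt (ι ≫ f) w₀ ∧
      FlatMor.fibreDimAt (ι ≫ f) w₀ + 1 = FlatMor.fibreDimAt f (ι w₀) := by
  haveI : IsLocallyNoetherian X := LocallyOfFiniteType.isLocallyNoetherian f
  have hemb : IsClosedEmbedding ι := ι.isClosedEmbedding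
  have hVg : IsClosed (X.zeroLocus ({g} : Set Γ(X, ⊤))) := X.zeroLocus_isClosed _
  have hmem : ∀ w : X'', ι w ∈ X.zeroLocus ({g} : Set Γ(X, ⊤)) := fun w => hr ▸ Set.mem_range_self w
  have htr : ∀ w : X'', tr (ι ≫ f) w = tr f (ι w) := fun w =>
    tr_comp_of_bijective ι f w (residueFieldMap_bijective_of_surjectiveOnStalks ι w)
  -- facts at maximal points of `X''` specializing to `w₀`
  have hfacts : ∀ ξ'' : X'', IsMax ξ'' → ξ'' ⤳ w₀ →
      f (ι ξ'') = genericPoint Y ∧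
      ((tr f (ι ξ'') : ℕ) : WithBot ℕ∞) + 1 = FlatMor.fibreDimAt f (ι w₀) ∧
      ∃ ζ'' : X'', ξ'' ⤳ ζ'' ∧ (ι ≫ f) ζ'' = (ι ≫ f) w₀ ∧ ζ'' ⤳ w₀ ∧
        ((tr f (ι ζ'') : ℕ) : WithBot ℕ∞) + 1 = FlatMor.fibreDimAt f (ι w₀) := by
    intro ξ'' hξmax hξw
    have hξmax' : ∀ ξ' ∈ X.zeroLocus ({g} : Set Γ(X, ⊤)), ξ' ⤳ ι ξ'' → ξ' = ι ξ'' := by
      intro ξ' hξ' hsp
      rw [← hr] at hξ'
      obtain ⟨ξ₂, rfl⟩ := hξ'
      have h1 : ξ₂ ⤳ ξ'' := hemb.isInducing.specializes_iff.mp hsp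
      rw [eq_of_isMax hξmax h1]
    obtain ⟨-, h2, h3, ζ, hξζ, hfζ, hζx, hζtr⟩ := comp_facts f (ι w₀) hf g hmax (ι ξ'') (hmem ξ'')
      (hξw.map ι.continuous) hξmax'
    refine ⟨h2, h3, ?_⟩
    have hζr : ζ ∈ Set.range ι := by
      rw [hr]
      exact hξζ.mem_closed hVg (hmem ξ'')
    obtain ⟨ζ'', rfl⟩ := hζr
    exact ⟨ζ'', hemb.isInducing.specializes_iff.mp hξζ, hfζ,
      hemb.isInducing.specializes_iff.mp hζx, hζtr⟩
  obtain ⟨d₀, hd₀⟩ := Chev.exists_nat_fibreDimAt (ι ≫ f) w₀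
  -- the fibre dimension formula
  have hB : FlatMor.fibreDimAt (ι ≫ f) w₀ + 1 = FlatMor.fibreDimAt f (ι w₀) := by
    apply le_antisymm
    · obtain ⟨z'', hz''f, hz''w, -, hz''tr⟩ := exists_max_tr (ι ≫ f) w₀
      have hnot : ¬ ∀ z' : X, f z' = f (ι w₀) → z' ⤳ ι z'' → z' = ι z'' :=
        fun h => hmax _ hz''f h (hmem z'')
      have h1 := tr_add_one_le_of_not_max f (ι w₀) (ι z'') hz''f (hz''w.map ι.continuous) hnot
      rw [← htr z'', hz''tr] at h1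
      exact h1
    · obtain ⟨ξ'', hle, hξmax⟩ := FibreOrder.exists_isMax_ge w₀
      obtain ⟨-, -, ζ'', -, hfζ, hζw, hζtr⟩ := hfacts ξ'' hξmax hle
      rw [← hζtr]
      have h1 := tr_le_fibreDimAt (ι ≫ f) hζw hfζ
      rw [htr ζ''] at h1
      exact add_le_add h1 le_rfl
  refine ⟨?_, hB⟩
  obtain ⟨e, he⟩ := Chev.exists_nat_fibreDimAt f (ι w₀)
  rw [hd₀, he] at hB
  have hde : d₀ + 1 = e := by exact_mod_cast hB
  obtain ⟨U0, hU0, hxU0, hnhd⟩ := JacDim.exists_nhd (X.zeroLocus ({g} : Set Γ(X, ⊤))) hVg (ι w₀)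
  let U'' : X''.Opens := ⟨{w | FlatMor.fibreDimAt (ι ≫ f) w ≤ d₀} ∩ ι ⁻¹' U0,
    (Chev.isOpen_fibreDimAt_le (ι ≫ f) d₀).inter (hU0.preimage ι.continuous)⟩
  have hw₀U'' : w₀ ∈ U'' := ⟨le_of_eq hd₀, hxU0⟩
  -- every point of `U''` has a maximal generization specializing to `w₀`
  have hmaxgen : ∀ ζ'' ∈ U'', ∃ ξ'' : X'', IsMax ξ'' ∧ ξ'' ⤳ ζ'' ∧ ξ'' ⤳ w₀ := by
    intro ζ'' hζ''
    obtain ⟨μ, hμg, hμζ, hμx⟩ := hnhd (ι ζ'') ⟨hζ''.2, hmem ζ''⟩
    rw [← hr] at hμg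
    obtain ⟨μ'', rfl⟩ := hμg
    obtain ⟨ξ'', hle, hξmax⟩ := FibreOrder.exists_isMax_ge μ''
    have h1 : ξ'' ⤳ μ'' := hle
    exact ⟨ξ'', hξmax, h1.trans (hemb.isInducing.specializes_iff.mp hμζ),
      h1.trans (hemb.isInducing.specializes_iff.mp hμx)⟩
  refine isEquidimAt_of_points (ι ≫ f) w₀ d₀ U'' hw₀U'' ?_ ?_
  · intro ξ hξU hξmax
    obtain ⟨ξ'', hξ''max, hξ''ξ, hξ''w⟩ := hmaxgen ξ hξU
    have h1 : ξ'' = ξ := hξmax ξ'' hξ''ξ
    rw [← h1]
    exact (hfacts ξ'' hξ''max hξ''w).1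
  · intro ζ hζU hζmax
    have h1 := fibreDimAt_of_fibre_max (ι ≫ f) ζ hζmax
    have h2 : FlatMor.fibreDimAt (ι ≫ f) ζ ≤ d₀ := hζU.1
    obtain ⟨ξ'', hξ''max, hξ''ζ, hξ''w⟩ := hmaxgen ζ hζU
    have h3 := fibreDimAt_mono (ι ≫ f) hξ''ζ
    have h4 := fibreDimAt_of_fibre_max (ι ≫ f) ξ'' (fun z' _ hz' => eq_of_isMax hξ''max hz')
    have h5 := (hfacts ξ'' hξ''max hξ''w).2.1
    rw [he] at h5
    rw [h4, h1, htr ξ''] at h3
    rw [h1] at h2
    have h2' : tr (ι ≫ f) ζ ≤ d₀ := by exact_mod_cast h2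
    have h3' : tr f (ι ξ'') ≤ tr (ι ≫ f) ζ := by exact_mod_cast h3
    have h5' : tr f (ι ξ'') + 1 = e := by exact_mod_cast h5
    omega

theorem main5925 [IrreducibleSpace Y]
    [IsLocallyNoetherian Y] (f : X ⟶ Y) [LocallyOfFiniteType f] (x : X)
    (hf : EGA43.IsEquidimAt f x)
    (g : Γ(X, ⊤)) (hgx : x ∈ X.zeroLocus ({g} : Set Γ(X, ⊤)))
    (hmax : ∀ z : X, f.base z = f.base x →
      (∀ z' : X, f.base z' = f.base x → z ∈ closure ({z'} : Set X) → z' = z) →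
      z ∉ X.zeroLocus ({g} : Set Γ(X, ⊤))) :
    (∀ w : ↥(Scheme.IdealSheafData.vanishingIdeal
          ⟨X.zeroLocus ({g} : Set Γ(X, ⊤)), X.zeroLocus_isClosed _⟩).subscheme,
        (Scheme.IdealSheafData.vanishingIdeal
          ⟨X.zeroLocus ({g} : Set Γ(X, ⊤)), X.zeroLocus_isClosed _⟩).subschemeι.base w = x →
        EGA43.IsEquidimAt ((Scheme.IdealSheafData.vanishingIdeal
          ⟨X.zeroLocus ({g} : Set Γ(X, ⊤)), X.zeroLocus_isClosed _⟩).subschemeι ≫ f) w) ∧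
      FlatMor.localDim ↥(X.zeroLocus ({g} : Set Γ(X, ⊤)) ∩ f.base ⁻¹' {f.base x})
        ⟨x, ⟨hgx, rfl⟩⟩ + 1 = FlatMor.fibreDimAt f x ∧
      ∀ Z ∈ irreducibleComponents ↥(X.zeroLocus ({g} : Set Γ(X, ⊤))),
        (⟨x, hgx⟩ : ↥(X.zeroLocus ({g} : Set Γ(X, ⊤)))) ∈ Z →
        ∀ ξ : ↥(X.zeroLocus ({g} : Set Γ(X, ⊤))),
          closure ({ξ} : Set ↥(X.zeroLocus ({g} : Set Γ(X, ⊤)))) = Z →
          ringKrullDim (X.presheaf.stalk (ξ : X)) = 1 := by
  have hmax' : ∀ z : X, f z = f x → (∀ z' : X, f z' = f x → z' ⤳ z → z' = z) →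
      z ∉ X.zeroLocus ({g} : Set Γ(X, ⊤)) := by
    intro z hz hzmax
    exact hmax z hz (fun z' hz' hcl => hzmax z' hz' (specializes_iff_mem_closure.mpr hcl))
  have hVg : IsClosed (X.zeroLocus ({g} : Set Γ(X, ⊤))) := X.zeroLocus_isClosed _
  set Xg : TopologicalSpace.Closeds X := ⟨X.zeroLocus ({g} : Set Γ(X, ⊤)), X.zeroLocus_isClosed _⟩
    with hXg
  have hemb : IsClosedEmbedding (Scheme.IdealSheafData.vanishingIdeal Xg).subschemeι :=
    (Scheme.IdealSheafData.vanishingIdeal Xg).subschemeι.isClosedEmbedding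
  have hr : Set.range (Scheme.IdealSheafData.vanishingIdeal Xg).subschemeι =
      X.zeroLocus ({g} : Set Γ(X, ⊤)) :=
    (Scheme.IdealSheafData.vanishingIdeal Xg).range_subschemeι.trans
      (Scheme.IdealSheafData.coe_support_vanishingIdeal Xg)
  refine ⟨?_, ?_, ?_⟩
  · intro w hw
    have hw' : (Scheme.IdealSheafData.vanishingIdeal Xg).subschemeι w = x := hw
    subst hw'
    exact (core5925 f (Scheme.IdealSheafData.vanishingIdeal Xg).subschemeι g hr w hf hmax').1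
  · have hxr : x ∈ Set.range (Scheme.IdealSheafData.vanishingIdeal Xg).subschemeι := by
      rw [hr]
      exact hgx
    obtain ⟨w₀, hw₀⟩ := hxr
    subst hw₀
    have hL := localDim_inter_fibre_eq (Scheme.IdealSheafData.vanishingIdeal Xg).subschemeι hemb f
      (X.zeroLocus ({g} : Set Γ(X, ⊤))) hr w₀ ⟨hgx, rfl⟩
    have hL' : FlatMor.localDim ↥(X.zeroLocus ({g} : Set Γ(X, ⊤)) ∩ f.base ⁻¹'
        {f.base ((Scheme.IdealSheafData.vanishingIdeal Xg).subschemeι w₀)})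
        ⟨(Scheme.IdealSheafData.vanishingIdeal Xg).subschemeι w₀, ⟨hgx, rfl⟩⟩ =
        FlatMor.fibreDimAt ((Scheme.IdealSheafData.vanishingIdeal Xg).subschemeι ≫ f) w₀ := hL
    rw [hL']
    exact (core5925 f (Scheme.IdealSheafData.vanishingIdeal Xg).subschemeι g hr w₀ hf hmax').2
  · intro Z hZ hxZ ξ hξ
    have hZc : IsClosed Z := isClosed_of_mem_irreducibleComponents Z hZ
    have hgenξ : IsGenericPoint ξ Z := hξ
    have hξx : ξ.1 ⤳ x := (hgenξ.specializes hxZ).map continuous_subtype_val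
    have hξmax : ∀ ξ' ∈ X.zeroLocus ({g} : Set Γ(X, ⊤)), ξ' ⤳ ξ.1 → ξ' = ξ.1 := by
      intro ξ' hξ' hsp
      have h1 : (⟨ξ', hξ'⟩ : ↥(X.zeroLocus ({g} : Set Γ(X, ⊤)))) ⤳ ξ :=
        IsInducing.subtypeVal.specializes_iff.mp hsp
      have h2 : Z ⊆ closure {(⟨ξ', hξ'⟩ : ↥(X.zeroLocus ({g} : Set Γ(X, ⊤))))} := by
        rw [← hξ]
        exact h1.closure_subset
      have h3 : closure {(⟨ξ', hξ'⟩ : ↥(X.zeroLocus ({g} : Set Γ(X, ⊤))))} = Z :=
        (hZ.2 isIrreducible_singleton.closure h2).antisymm h2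
      have h4 : IsGenericPoint (⟨ξ', hξ'⟩ : ↥(X.zeroLocus ({g} : Set Γ(X, ⊤)))) Z := h3
      exact congrArg Subtype.val (h4.eq hgenξ)
    exact (comp_facts f x hf g hmax' ξ.1 ξ.2 hξx hξmax).1

end Groth.Agent.Lib.Helper24.FibreDim
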