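import Mathlib
import Groth.Agent.Lib.Helper24.FibreDim.Main5925
import Groth.Agent.Lib.Helper24.FibreDim.Main3456
import Groth.Agent.Lib.Helper18.Chev.Affine
import Groth.Agent.Lib.lead.FibreMaxAvoid

/-!
# Quasi-finite dominant quasi-sections through a point of equidimensionality (helper24)
-/

set_option autoImplicit false
set_option linter.style.haveILetI false
universe u
open scoped Cardinal
open AlgebraicGeometry CategoryTheory TopologicalSpace Topology
open Groth.Agent.Lib.Helper7 Groth.Agent.Lib.lead Groth.Agent.Lib.Helper18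

namespace Groth.Agent.Lib.Helper24.FibreDim

variable {X Y : Scheme.{u}}

/-- The reduced induced closed subscheme is reduced. -/
theorem isReduced_vanishingIdeal_subscheme (Z : TopologicalSpace.Closeds X) :
    IsReduced (Scheme.IdealSheafData.vanishingIdeal Z).subscheme := by
  haveI : ∀ i, IsReduced
      ((Scheme.IdealSheafData.vanishingIdeal Z).subschemeCover.openCover.X i) := by
    intro U
    show IsReduced (Spec (.of (Γ(X, U.1) ⧸ (Scheme.IdealSheafData.vanishingIdeal Z).ideal U)))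
    rw [affine_isReduced_iff]
    show _root_.IsReduced (Γ(X, U.1) ⧸ (Scheme.IdealSheafData.vanishingIdeal Z).ideal U)
    rw [← Ideal.isRadical_iff_quotient_reduced, Scheme.IdealSheafData.vanishingIdeal_ideal]
    exact PrimeSpectrum.isRadical_vanishingIdeal _
  exact IsReduced.of_openCover _ (Scheme.IdealSheafData.vanishingIdeal Z).subschemeCover.openCover

/-- Equidimensionality at a point restricts to open subschemes (irreducible base). -/
theorem isEquidimAt_restrict [IrreducibleSpace Y] (f : X ⟶ Y) [LocallyOfFiniteType f]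
    (W : X.Opens) (w : W.toScheme) (h : EGA43.IsEquidimAt f (W.ι w)) :
    EGA43.IsEquidimAt (W.ι ≫ f) w := by
  obtain ⟨e, U, hxU, hE1, hE2⟩ := equidim_points f (W.ι w) h
  refine isEquidimAt_of_points (W.ι ≫ f) w e (W.ι ⁻¹ᵁ U) hxU ?_ ?_
  · intro ξ hξU hξmax
    have hmax : ∀ ξ' : X, ξ' ⤳ W.ι ξ → ξ' = W.ι ξ := by
      intro ξ' hξ'
      have hξ'W : ξ' ∈ W := hξ'.mem_open W.isOpen ξ.2
      have h1 : (⟨ξ', hξ'W⟩ : W.toScheme) ⤳ ξ :=
        W.ι.isOpenEmbedding.isInducing.specializes_iff.mp hξ'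
      exact congrArg W.ι (hξmax _ h1)
    have h1 := hE1 (W.ι ξ) hξU hmax (genericPoint Y) (_root_.genericPoint_specializes _)
    exact h1.symm
  · intro ζ hζU hζmax
    have hmax : ∀ ζ' : X, f ζ' = f (W.ι ζ) → ζ' ⤳ W.ι ζ → ζ' = W.ι ζ := by
      intro ζ' hfζ' hζ'
      have hζ'W : ζ' ∈ W := hζ'.mem_open W.isOpen ζ.2
      have h1 : (⟨ζ', hζ'W⟩ : W.toScheme) ⤳ ζ :=
        W.ι.isOpenEmbedding.isInducing.specializes_iff.mp hζ'
      exact congrArg W.ι (hζmax _ hfζ' h1)
    rw [tr_comp_openImmersion W.ι f ζ]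
    exact hE2 (W.ι ζ) hζU hmax

/-- A point closed in its fibre has residue transcendence degree `0`. -/
theorem tr_eq_zero_of_closed (f : X ⟶ Y) [LocallyOfFiniteType f] (x : X)
    (hcl : ∀ x' : X, f x' = f x → x ⤳ x' → x' = x) : tr f x = 0 := by
  have h1 := dim_closure_asFiber f x
  haveI : QuasiSober ↥(closure ({f.asFiber x} : Set (f.fiber (f x)))) :=
    isClosed_closure.isClosedEmbedding_subtypeVal.quasiSober
  have h2 : topologicalKrullDim ↥(closure ({f.asFiber x} : Set (f.fiber (f x)))) ≤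
      ((0 : ℕ) : WithBot ℕ∞) := by
    apply JacDim.dim_le_of_chains_mem
    intro m c hc hmem
    have hall : ∀ i, c i = f.asFiber x := by
      intro i
      have h3 : f.asFiber x ⤳ c i := specializes_iff_mem_closure.mpr (hmem i)
      have h4 : x ⤳ f.fiberι (f x) (c i) := by
        have := h3.map (f.fiberι (f x)).continuous
        rwa [f.fiberι_asFiber] at this
      have h5 : f (f.fiberι (f x) (c i)) = f x := by
        have : f.fiberι (f x) (c i) ∈ Set.range (f.fiberι (f x)) := ⟨_, rfl⟩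
        rw [f.range_fiberι] at this
        exact this
      have h6 := hcl _ h5 h4
      apply (f.fiberι (f x)).isEmbedding.injective
      rw [h6, f.fiberι_asFiber]
    cases m with
    | zero => exact le_rfl
    | succ m =>
      exfalso
      have h3 := hc 0
      rw [hall, hall] at h3
      exact h3.2 (specializes_refl _)
  rw [h1] at h2
  have : tr f x ≤ 0 := by exact_mod_cast h2
  omega

/-- The base case: fibre dimension `0`. -/
theorem exists_quasiSection_zero [IrreducibleSpace Y] [IsLocallyNoetherian Y] (f : X ⟶ Y)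
    [LocallyOfFiniteType f] (x : X) (hf : EGA43.IsEquidimAt f x)
    (h0 : FlatMor.fibreDimAt f x = ((0 : ℕ) : WithBot ℕ∞)) :
    ∃ (T : Scheme.{u}) (i : T ⟶ X), IsImmersion i ∧ IrreducibleSpace ↥T ∧ IsReduced T ∧
      x ∈ Set.range i.base ∧ LocallyOfFiniteType (i ≫ f) ∧ LocallyQuasiFinite (i ≫ f) ∧
      QuasiCompact (i ≫ f) ∧ IsDominant (i ≫ f) := by
  haveI : IsLocallyNoetherian X := LocallyOfFiniteType.isLocallyNoetherian f
  obtain ⟨e, U, hxU, hE1, hE2⟩ := equidim_points f x hf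
  obtain ⟨ξ, hle, hξmax'⟩ := FibreOrder.exists_isMax_ge x
  have hξx : ξ ⤳ x := hle
  have hξmax : ∀ ξ' : X, ξ' ⤳ ξ → ξ' = ξ := by
    intro ξ' hξ'
    have h3 : ξ ≤ ξ' := hξ'
    have h4 : ξ' ≤ ξ := hξmax' h3
    exact (Specializes.antisymm hξ' h4).eq
  have hξU : ξ ∈ U := hξx.mem_open U.isOpen hxU
  have hfξ : f ξ = genericPoint Y :=
    (hE1 ξ hξU hξmax (genericPoint Y) (_root_.genericPoint_specializes _)).symm
  set X' : TopologicalSpace.Closeds X := ⟨closure {ξ}, isClosed_closure⟩ with hX'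
  set ι₁ := (Scheme.IdealSheafData.vanishingIdeal X').subschemeι with hι₁
  have hemb : IsClosedEmbedding ι₁ := ι₁.isClosedEmbedding
  have hr : Set.range ι₁ = closure ({ξ} : Set X) :=
    (Scheme.IdealSheafData.vanishingIdeal X').range_subschemeι.trans
      (Scheme.IdealSheafData.coe_support_vanishingIdeal X')
  have hxr : x ∈ Set.range ι₁ := by
    rw [hr]
    exact specializes_iff_mem_closure.mp hξx
  obtain ⟨w₀, hw₀⟩ := hxr
  have hξr : ξ ∈ Set.range ι₁ := by
    rw [hr]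
    exact subset_closure rfl
  obtain ⟨w', hw'⟩ := hξr
  have hgen : ∀ ζ : ↥(Scheme.IdealSheafData.vanishingIdeal X').subscheme, w' ⤳ ζ := by
    intro ζ
    rw [← hemb.isInducing.specializes_iff, specializes_iff_mem_closure, hw', ← hr]
    exact Set.mem_range_self ζ
  haveI : IsLocallyNoetherian (Scheme.IdealSheafData.vanishingIdeal X').subscheme :=
    LocallyOfFiniteType.isLocallyNoetherian ι₁
  -- the fibre dimension of the restriction is `0`
  have hd : FlatMor.fibreDimAt (ι₁ ≫ f) w₀ = ((0 : ℕ) : WithBot ℕ∞) := by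
    obtain ⟨d₀, hd₀⟩ := Chev.exists_nat_fibreDimAt (ι₁ ≫ f) w₀
    obtain ⟨z'', hfz'', hz''w₀, -, htr⟩ := exists_max_tr (ι₁ ≫ f) w₀
    have h1 : ι₁ z'' ⤳ x := by
      rw [← hw₀]
      exact hz''w₀.map ι₁.continuous
    have h2 : f (ι₁ z'') = f x := by
      rw [← hw₀]
      exact hfz''
    have h3 := tr_le_fibreDimAt f h1 h2
    rw [← tr_comp_of_bijective ι₁ f z'' (residueFieldMap_bijective_of_surjectiveOnStalks ι₁ z''),
      htr, h0, hd₀] at h3
    have : d₀ ≤ 0 := by exact_mod_cast h3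
    have : d₀ = 0 := by omega
    rw [hd₀, this]
  obtain ⟨V, hV, hfxV⟩ : ∃ V : Y.Opens, IsAffineOpen V ∧ (ι₁ ≫ f) w₀ ∈ V := by
    obtain ⟨_, ⟨V, hV : IsAffineOpen V, rfl⟩, hfxV, -⟩ :=
      (Y.isBasis_affineOpens).exists_subset_of_mem_open (Set.mem_univ ((ι₁ ≫ f) w₀)) isOpen_univ
    exact ⟨V, hV, hfxV⟩
  obtain ⟨U₁, hU₁, hw₀U₁, g₁, π, hg₁, hπ, hqf, hlft⟩ :=
    Chev.exists_affine_nhd_quasiFinite (ι₁ ≫ f) w₀ V hV hfxV 0 hd
  have hw'U₁ : w' ∈ U₁ := (hgen w₀).mem_open U₁.isOpen hw₀U₁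
  have hcomp : (U₁.ι ≫ ι₁) ≫ f = (π ≫ (𝔸(ULift.{u} (Fin 0); (V : Scheme.{u})) ↘ (V : Scheme.{u}))) ≫
      V.ι := by
    rw [hπ, hg₁, Category.assoc]
  haveI := hqf
  haveI := hlft
  haveI : IsNoetherianRing Γ((Scheme.IdealSheafData.vanishingIdeal X').subscheme, U₁) :=
    IsLocallyNoetherian.component_noetherian ⟨U₁, hU₁⟩
  haveI : NoetherianSpace ↥U₁ := noetherianSpace_of_isAffineOpen U₁ hU₁
  haveI : NoetherianSpace (U₁.toScheme) := ‹NoetherianSpace ↥U₁›
  refine ⟨U₁.toScheme, U₁.ι ≫ ι₁, inferInstance, ?_, ?_, ?_, ?_, ?_, inferInstance, ?_⟩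
  · -- irreducible
    let wU : U₁.toScheme := ⟨w', hw'U₁⟩
    have hgenU : ∀ ζ : U₁.toScheme, wU ⤳ ζ := by
      intro ζ
      rw [← U₁.ι.isOpenEmbedding.isInducing.specializes_iff]
      exact hgen ζ.1
    rw [irreducibleSpace_def]
    have : (Set.univ : Set U₁.toScheme) = closure {wU} := by
      apply Set.eq_of_subset_of_subset _ (Set.subset_univ _)
      intro ζ _
      exact specializes_iff_mem_closure.mp (hgenU ζ)
    show IsIrreducible (Set.univ : Set U₁.toScheme)
    rw [this]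
    exact isIrreducible_singleton.closure
  · haveI := isReduced_vanishingIdeal_subscheme X'
    infer_instance
  · exact ⟨⟨w₀, hw₀U₁⟩, hw₀⟩
  · infer_instance
  · rw [hcomp]
    infer_instance
  · constructor
    have h1 : ((U₁.ι ≫ ι₁) ≫ f) ⟨w', hw'U₁⟩ = genericPoint Y := by
      show f (ι₁ w') = genericPoint Y
      rw [hw', hfξ]
    intro y
    have h2 : genericPoint Y ⤳ y := _root_.genericPoint_specializes y
    rw [← h1] at h2
    exact (specializes_iff_mem_closure.mp h2 : y ∈ closure {_}) |>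
      closure_mono (Set.singleton_subset_iff.mpr (Set.mem_range_self _))

/-- Membership in the basic open of the section of the open subscheme corresponding to a section
over `U`. -/
theorem mem_basicOpen_topIso_inv (U : X.Opens) (g : Γ(X, U)) (w : U.toScheme) :
    w ∈ U.toScheme.basicOpen (U.topIso.inv g) ↔ U.ι w ∈ X.basicOpen g := by
  have h := Scheme.Opens.ι_image_basicOpen_topIso_inv U g
  constructor
  · intro hw
    rw [← h]
    exact ⟨w, hw, rfl⟩
  · intro hw
    rw [← h] at hw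
    obtain ⟨w', hw', hww'⟩ := hw
    have : w' = w := U.ι.isOpenEmbedding.injective hww'
    rw [← this]
    exact hw'

/-- Cancel `+ 1`. -/
theorem cancel_add_one {a : WithBot ℕ∞} {d e : ℕ} (ha : a = ((d : ℕ) : WithBot ℕ∞))
    (h : a + 1 = ((e + 1 : ℕ) : WithBot ℕ∞)) : a = ((e : ℕ) : WithBot ℕ∞) := by
  subst ha
  have h1 : (((d : ℕ) : WithBot ℕ∞) + 1) = ((d + 1 : ℕ) : WithBot ℕ∞) := by push_cast; rfl
  rw [h1] at h
  have h2 : d + 1 = e + 1 := by exact_mod_cast h
  have : d = e := by omega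
  rw [this]

/-- The inductive step: cut by a hypersurface through `x` avoiding the maximal points of the
fibre. -/
theorem quasiSection_step [IrreducibleSpace Y] [IsLocallyNoetherian Y] (f : X ⟶ Y)
    [LocallyOfFiniteType f] (x : X) (hf : EGA43.IsEquidimAt f x) (e : ℕ)
    (he : FlatMor.fibreDimAt f x = ((e + 1 : ℕ) : WithBot ℕ∞))
    (hcl : ∀ x' : X, f x' = f x → x ⤳ x' → x' = x) :
    ∃ (X₁ : Scheme.{u}) (j : X₁ ⟶ X) (w : X₁), IsImmersion j ∧ j w = x ∧
      EGA43.IsEquidimAt (j ≫ f) w ∧ FlatMor.fibreDimAt (j ≫ f) w = ((e : ℕ) : WithBot ℕ∞) ∧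
      (∀ w' : X₁, (j ≫ f) w' = (j ≫ f) w → w ⤳ w' → w' = w) := by
  -- `x` is not a maximal point of its fibre
  have htr0 : tr f x = 0 := tr_eq_zero_of_closed f x hcl
  have hG : FibreOrder.G f x ≠ 0 := by
    intro hG0
    rw [fibreDimAt_eq_tr_add_G, htr0, hG0] at he
    have : ((0 : ℕ) : WithBot ℕ∞) = ((e + 1 : ℕ) : WithBot ℕ∞) := by
      rw [← he]
      simp
    have : (0 : ℕ) = e + 1 := by exact_mod_cast this
    omega
  have hx : ∃ x' : X, f.base x' = f.base x ∧ x' ≠ x ∧ x ∈ closure ({x'} : Set X) := by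
    by_contra hcon
    push_neg at hcon
    apply hG
    rw [G_eq_zero_iff]
    intro z' hfz' hz'
    by_contra hne
    exact hcon z' hfz' hne (specializes_iff_mem_closure.mp hz')
  obtain ⟨U, hU, hxU, g, hgx, hgmax⟩ := FibreMaxAvoid.main f x hx
  set xU : U.toScheme := ⟨x, hxU⟩ with hxUdef
  have hfU : EGA43.IsEquidimAt (U.ι ≫ f) xU := isEquidimAt_restrict f U xU hf
  set g' : Γ(U.toScheme, ⊤) := U.topIso.inv g with hg'
  have hgx' : xU ∈ U.toScheme.zeroLocus ({g'} : Set Γ(U.toScheme, ⊤)) := by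
    rw [Scheme.mem_zeroLocus_iff]
    intro s hs
    rw [Set.mem_singleton_iff] at hs
    rw [hs, hg', mem_basicOpen_topIso_inv]
    exact hgx
  have hmax' : ∀ z : U.toScheme, (U.ι ≫ f).base z = (U.ι ≫ f).base xU →
      (∀ z' : U.toScheme, (U.ι ≫ f).base z' = (U.ι ≫ f).base xU →
        z ∈ closure ({z'} : Set U.toScheme) → z' = z) →
      z ∉ U.toScheme.zeroLocus ({g'} : Set Γ(U.toScheme, ⊤)) := by
    intro z hfz hzmax hz0
    rw [Scheme.mem_zeroLocus_iff] at hz0
    apply hz0 g' rfl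
    rw [hg', mem_basicOpen_topIso_inv]
    refine hgmax (U.ι z) hfz ?_ z.2
    intro z'' hfz'' hcl''
    have hsp : z'' ⤳ U.ι z := specializes_iff_mem_closure.mpr hcl''
    have hz''U : z'' ∈ U := hsp.mem_open U.isOpen z.2
    let zz : U.toScheme := ⟨z'', hz''U⟩
    have h1 : zz ⤳ z := U.ι.isOpenEmbedding.isInducing.specializes_iff.mp hsp
    have h2 := hzmax zz hfz'' (specializes_iff_mem_closure.mp h1)
    exact congrArg U.ι h2
  obtain ⟨hE, hdim, -⟩ := main5925 (U.ι ≫ f) xU hfU g' hgx' hmax'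
  set Xg : TopologicalSpace.Closeds U.toScheme :=
    ⟨U.toScheme.zeroLocus ({g'} : Set Γ(U.toScheme, ⊤)), U.toScheme.zeroLocus_isClosed _⟩ with hXg
  set ι' := (Scheme.IdealSheafData.vanishingIdeal Xg).subschemeι with hι'
  have hemb : IsClosedEmbedding ι' := ι'.isClosedEmbedding
  have hr : Set.range ι' = U.toScheme.zeroLocus ({g'} : Set Γ(U.toScheme, ⊤)) :=
    (Scheme.IdealSheafData.vanishingIdeal Xg).range_subschemeι.trans
      (Scheme.IdealSheafData.coe_support_vanishingIdeal Xg)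
  have hxr : xU ∈ Set.range ι' := by
    rw [hr]
    exact hgx'
  obtain ⟨w, hw⟩ := hxr
  have hEw := hE w hw
  have hL := localDim_inter_fibre_eq' ι' hemb (U.ι ≫ f)
    (U.toScheme.zeroLocus ({g'} : Set Γ(U.toScheme, ⊤))) hr w xU hw ⟨hgx', rfl⟩
  have hfibU : FlatMor.fibreDimAt (U.ι ≫ f) xU = FlatMor.fibreDimAt f x :=
    (Chev.fibreDimAt_eq_of_openImmersion_square (U.ι ≫ f) (𝟙 Y) U.ι f
      (Category.comp_id _) xU).symm
  obtain ⟨d₀, hd₀⟩ := Chev.exists_nat_fibreDimAt (ι' ≫ U.ι ≫ f) w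
  have hdim' : FlatMor.fibreDimAt (ι' ≫ U.ι ≫ f) w + 1 = ((e + 1 : ℕ) : WithBot ℕ∞) := by
    rw [← he, ← hfibU, ← hL]
    exact hdim
  have hde := cancel_add_one hd₀ hdim'
  refine ⟨_, ι' ≫ U.ι, w, inferInstance, ?_, ?_, ?_, ?_⟩
  · show U.ι (ι' w) = x
    rw [hw]
    rfl
  · rw [Category.assoc]
    exact hEw
  · rw [Category.assoc]
    exact hde
  · intro w' hfw' hww'
    have h1 : x ⤳ U.ι (ι' w') := by
      have := (hww'.map ι'.continuous).map U.ι.continuous
      rw [hw] at this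
      exact this
    have h2 : f (U.ι (ι' w')) = f x := by
      have h3 : f (U.ι (ι' w')) = f (U.ι (ι' w)) := hfw'
      rw [h3, hw]
      rfl
    have h3 := hcl _ h2 h1
    apply hemb.injective
    apply U.ι.isOpenEmbedding.injective
    rw [h3, hw]
    rfl

/-- The induction. -/
theorem main4944_aux [IrreducibleSpace Y] [IsLocallyNoetherian Y] (e : ℕ) :
    ∀ (X : Scheme.{u}) (f : X ⟶ Y) [LocallyOfFiniteType f] (x : X), EGA43.IsEquidimAt f x →
      FlatMor.fibreDimAt f x = ((e : ℕ) : WithBot ℕ∞) →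
      (∀ x' : X, f x' = f x → x ⤳ x' → x' = x) →
      ∃ (T : Scheme.{u}) (i : T ⟶ X), IsImmersion i ∧ IrreducibleSpace ↥T ∧ IsReduced T ∧
        x ∈ Set.range i.base ∧ LocallyOfFiniteType (i ≫ f) ∧ LocallyQuasiFinite (i ≫ f) ∧
        QuasiCompact (i ≫ f) ∧ IsDominant (i ≫ f) := by
  induction e with
  | zero =>
    intro X f _ x hf h0 _
    exact exists_quasiSection_zero f x hf h0
  | succ e ih =>
    intro X f _ x hf he hcl
    obtain ⟨X₁, j, w, hj, hjw, hE, hd, hcl'⟩ := quasiSection_step f x hf e he hcl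
    haveI := hj
    obtain ⟨T, i, hi, hirr, hred, hmem, h1, h2, h3, h4⟩ := ih X₁ (j ≫ f) w hE hd hcl'
    haveI := hi
    refine ⟨T, i ≫ j, inferInstance, hirr, hred, ?_, ?_, ?_, ?_, ?_⟩
    · obtain ⟨t, ht⟩ := hmem
      exact ⟨t, by show j (i t) = x; rw [show i t = w from ht, hjw]⟩
    · rw [Category.assoc]; exact h1
    · rw [Category.assoc]; exact h2
    · rw [Category.assoc]; exact h3
    · rw [Category.assoc]; exact h4

theorem main4944 [IrreducibleSpace Y] [IsLocallyNoetherian Y] (f : X ⟶ Y)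
    [LocallyOfFiniteType f] (x : X) (hf : EGA43.IsEquidimAt f x)
    (hcl : ∀ x' : X, f.base x' = f.base x → x ⤳ x' → x' = x) :
    ∃ (T : Scheme.{u}) (i : T ⟶ X), IsImmersion i ∧ IrreducibleSpace ↥T ∧ IsReduced T ∧
      x ∈ Set.range i.base ∧ LocallyOfFiniteType (i ≫ f) ∧ LocallyQuasiFinite (i ≫ f) ∧
      QuasiCompact (i ≫ f) ∧ IsDominant (i ≫ f) := by
  obtain ⟨e, he⟩ := Chev.exists_nat_fibreDimAt f x
  exact main4944_aux e X f x hf he hcl

end Groth.Agent.Lib.Helper24.FibreDim
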