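import Mathlib
import Groth.Agent.Lib.Helper24.FibreDim.Formula

/-!
# S4690: `dim X ≤ dim Y + dim (generic fibre)`, with the equality criterion (helper24)
-/

set_option autoImplicit false
set_option linter.style.haveILetI false
universe u
open scoped Cardinal
open AlgebraicGeometry CategoryTheory Groth.Agent.Lib.Helper7 Groth.Agent.Lib.lead

namespace Groth.Agent.Lib.Helper24.FibreDim

variable {X Y : Scheme.{u}}

theorem dim_eq_iSup_coheight (Z : Scheme.{u}) [Nonempty Z] :
    topologicalKrullDim Z = ((⨆ z : Z, Order.coheight z : ℕ∞) : WithBot ℕ∞) := by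
  rw [StalkDimIneq.topologicalKrullDim_eq_krullDim, Order.krullDim_eq_iSup_coheight_of_nonempty]

theorem dim_le_add_tr (f : X ⟶ Y) [IsLocallyNoetherian Y] [LocallyOfFiniteType f]
    [IrreducibleSpace X] :
    topologicalKrullDim X ≤ topologicalKrullDim Y + (tr f (genericPoint ↥X) : WithBot ℕ∞) := by
  refine SchemeDimIneqGlobal.main f (tr f (genericPoint ↥X)) ?_
  intro ξ hξ
  obtain rfl := eq_genericPoint_of_closure_mem ξ hξ
  exact (tr_spec f _).le

/-- Under the universally catenary hypothesis, `sup_x dim O_{X,x} = sup_x dim O_{Y,f x} + E`. -/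
theorem iSup_coheight_eq (f : X ⟶ Y) [IsLocallyNoetherian Y] [LocallyOfFiniteType f]
    [IrreducibleSpace X] [IrreducibleSpace Y] (hf : DenseRange f.base)
    (hY : ∀ y : Y, CAlg.IsUniversallyCatenary (Y.presheaf.stalk y)) :
    (⨆ x : X, Order.coheight x : ℕ∞) =
      (⨆ x : X, Order.coheight (f x)) + (tr f (genericPoint ↥X) : ℕ∞) := by
  apply le_antisymm
  · apply iSup_le
    intro x
    calc (Order.coheight x : ℕ∞) ≤ Order.coheight x + (tr f x : ℕ∞) := le_self_add
      _ = Order.coheight (f x) + (tr f (genericPoint ↥X) : ℕ∞) := coheight_add_tr_eq f hf hY x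
      _ ≤ _ := add_le_add_left (le_iSup (fun x : X => (Order.coheight (f x) : ℕ∞)) x) _
  · rw [ENat.iSup_add]
    apply iSup_le
    intro x
    obtain ⟨x₀, -, hfx₀, ht⟩ := exists_le_tr_zero f x
    have h := coheight_add_tr_eq f hf hY x₀
    rw [ht, hfx₀, Nat.cast_zero, add_zero] at h
    rw [← h]
    exact le_iSup (fun x : X => (Order.coheight x : ℕ∞)) x₀

theorem biSup_range_stalk (f : X ⟶ Y) [Nonempty X] :
    (⨆ y ∈ Set.range f.base, ringKrullDim (Y.presheaf.stalk y)) =
      ((⨆ x : X, Order.coheight (f x) : ℕ∞) : WithBot ℕ∞) := by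
  rw [iSup_range]
  simp_rw [ringKrullDim_stalk_eq_coheight]
  rw [WithBot.coe_iSup (OrderTop.bddAbove _)]

theorem main4690 (f : X ⟶ Y) [IsLocallyNoetherian Y]
    [LocallyOfFiniteType f] [IrreducibleSpace X] [IrreducibleSpace Y] (hf : DenseRange f.base) :
    topologicalKrullDim X ≤ topologicalKrullDim Y + topologicalKrullDim (f.fiber (genericPoint Y)) ∧
      ((∀ y : Y, CAlg.IsUniversallyCatenary (Y.presheaf.stalk y)) →
        (topologicalKrullDim X =
            topologicalKrullDim Y + topologicalKrullDim (f.fiber (genericPoint Y)) ↔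
          topologicalKrullDim Y = ⨆ y ∈ Set.range f.base, ringKrullDim (Y.presheaf.stalk y))) := by
  have hfξ : f (genericPoint ↥X) = genericPoint ↥Y :=
    Groth.Agent.Lib.Helper18.GenFin.map_genericPoint_of_dense f hf
  rw [dim_fibre_generic f (genericPoint ↥Y) hfξ]
  refine ⟨dim_le_add_tr f, fun hY => ?_⟩
  rw [dim_eq_iSup_coheight X, dim_eq_iSup_coheight Y, biSup_range_stalk f,
    iSup_coheight_eq f hf hY, WithBot.coe_add]
  have hcast : (((tr f (genericPoint ↥X) : ℕ) : ℕ∞) : WithBot ℕ∞) =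
      ((tr f (genericPoint ↥X) : ℕ) : WithBot ℕ∞) := rfl
  rw [hcast, ENat.WithBot.add_natCast_cancel]
  exact eq_comm

end Groth.Agent.Lib.Helper24.FibreDim
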