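import Mathlib
import Groth.Agent.Lib.Helper24.FibreDim.LocalUC
import Groth.Agent.Lib.Helper24.FibreDim.Formula
import Groth.Agent.Lib.Helper24.LocalDim.Scheme
import Groth.Agent.Lib.Helper18.FibreTd
import Groth.Prelude.Def_EGA43
import Groth.Prelude.Def_Flat

/-!
# S3391: the dimension formula when the fibre dimension at `x` is the generic one (helper24)
-/

set_option autoImplicit false
set_option linter.style.haveILetI false
universe u
open scoped Cardinal
open AlgebraicGeometry CategoryTheory Groth.Agent.Lib.Helper7 Groth.Agent.Lib.lead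

namespace Groth.Agent.Lib.Helper24.FibreDim

variable {X Y : Scheme.{u}}

/-- The dimension formula (equality) when the local ring of `Y` at `f x` is universally
catenary. -/
theorem coheight_add_tr_eq_local (f : X ⟶ Y) [IsLocallyNoetherian Y] [LocallyOfFiniteType f]
    [IrreducibleSpace X] [IrreducibleSpace Y] (hf : DenseRange f.base) (x : X)
    (hY : CAlg.IsUniversallyCatenary (Y.presheaf.stalk (f x))) :
    (Order.coheight x : ℕ∞) + tr f x = Order.coheight (f x) + tr f (genericPoint ↥X) := by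
  obtain ⟨V, hV, U, hU, e, hxU⟩ := exists_chart f x
  set ξ : X := genericPoint ↥X with hξdef
  have hξx : ξ ⤳ x := genericPoint_specializes x
  have hξU : ξ ∈ U := hξx.mem_open U.isOpen hxU
  have hfξ : f ξ = genericPoint ↥Y :=
    Groth.Agent.Lib.Helper18.GenFin.map_genericPoint_of_dense f hf
  letI : Algebra Γ(Y, V) Γ(X, U) := (f.appLE V U e).hom.toAlgebra
  have halg : algebraMap Γ(Y, V) Γ(X, U) = (f.appLE V U e).hom := rfl
  haveI : Algebra.FiniteType Γ(Y, V) Γ(X, U) := f.finiteType_appLE hV hU e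
  set p : Ideal Γ(Y, V) := (hV.primeIdealOf ⟨f x, e hxU⟩).asIdeal with hp
  set P : Ideal Γ(X, U) := (hU.primeIdealOf ⟨x, hxU⟩).asIdeal with hP
  set Q₀ : Ideal Γ(X, U) := (hU.primeIdealOf ⟨ξ, hξU⟩).asIdeal with hQ₀def
  haveI : P.LiesOver p := ResTrdegBridge.liesOver_primeIdealOf f x hV hU e hxU (e hxU) halg
  haveI : p.IsPrime := (hV.primeIdealOf ⟨f x, e hxU⟩).isPrime
  haveI : P.IsPrime := (hU.primeIdealOf ⟨x, hxU⟩).isPrime
  haveI : Q₀.IsPrime := (hU.primeIdealOf ⟨ξ, hξU⟩).isPrime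
  have hQ₀under : Q₀.under Γ(Y, V) = (hV.primeIdealOf ⟨f ξ, e hξU⟩).asIdeal :=
    (ResTrdegBridge.liesOver_primeIdealOf f ξ hV hU e hξU (e hξU) halg).over.symm
  have hQ₀P : Q₀ ≤ P := (AffPts.primeIdealOf_le_iff hU ⟨ξ, hξU⟩ ⟨x, hxU⟩).mpr hξx
  have hQ₀ : ∀ Q ∈ minimalPrimes Γ(X, U), Q ≤ P → Q = Q₀ := by
    intro Q hQ _
    haveI : Q.IsPrime := hQ.1.1
    obtain ⟨ξ', hξ'⟩ := AffPts.primeIdealOf_surjective hU ⟨Q, inferInstance⟩
    have h1 : closure {ξ'.1} ∈ irreducibleComponents ↥X := by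
      rw [AffPts.closure_mem_irreducibleComponents_iff, AffPts.forall_specializes_eq_iff hU ξ', hξ']
      exact hQ
    have h2 : ξ'.1 = ξ := eq_genericPoint_of_closure_mem _ h1
    have h3 : ξ' = ⟨ξ, hξU⟩ := Subtype.ext h2
    rw [hQ₀def, ← h3, hξ']
  have hq₀ : ∀ q ∈ minimalPrimes Γ(Y, V), q ≤ p → q = Q₀.under Γ(Y, V) := by
    intro q hq _
    haveI : q.IsPrime := hq.1.1
    obtain ⟨η', hη'⟩ := AffPts.primeIdealOf_surjective hV ⟨q, inferInstance⟩
    have h1 : closure {η'.1} ∈ irreducibleComponents ↥Y := by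
      rw [AffPts.closure_mem_irreducibleComponents_iff, AffPts.forall_specializes_eq_iff hV η', hη']
      exact hq
    have h2 : η'.1 = f ξ := by rw [hfξ]; exact eq_genericPoint_of_closure_mem _ h1
    have h3 : η' = ⟨f ξ, e hξU⟩ := Subtype.ext h2
    rw [hQ₀under, ← h3, hη']
  have hn := trdeg_chart f hV hU e x hxU halg p hp
  have hE := trdeg_chart f hV hU e ξ hξU halg (Q₀.under Γ(Y, V)) hQ₀under
  letI algY := TopCat.Presheaf.algebra_section_stalk Y.presheaf (⟨f x, e hxU⟩ : V)
  haveI locY : IsLocalization.AtPrime (Y.presheaf.stalk (f x)) p :=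
    hV.isLocalization_stalk ⟨f x, e hxU⟩
  have key := height_add_eq_local p (Y.presheaf.stalk (f x)) hY P Q₀ hQ₀P hQ₀ hq₀
    (tr f x) (tr f ξ) hn hE
  have hX : ringKrullDim (X.presheaf.stalk x) = P.height := by
    letI := TopCat.Presheaf.algebra_section_stalk X.presheaf (⟨x, hxU⟩ : U)
    have := hU.isLocalization_stalk ⟨x, hxU⟩
    exact IsLocalization.AtPrime.ringKrullDim_eq_height P (X.presheaf.stalk x)
  have hYd : ringKrullDim (Y.presheaf.stalk (f x)) = p.height :=
    IsLocalization.AtPrime.ringKrullDim_eq_height p (Y.presheaf.stalk (f x))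
  rw [ringKrullDim_stalk_eq_coheight] at hX hYd
  have hX' : (Order.coheight x : ℕ∞) = P.height := by exact_mod_cast hX
  have hY' : (Order.coheight (f x) : ℕ∞) = p.height := by exact_mod_cast hYd
  rw [hX', hY']
  exact key

/-- The local dimension of the fibre at `x` is `dim O_{X_y,x} + trdeg κ(x)/κ(y)`. -/
theorem fibreDimAt_eq (f : X ⟶ Y) [LocallyOfFiniteType f] (x : X) (b : ℕ)
    (hb : ringKrullDim ((f.fiber (f.base x)).presheaf.stalk (f.asFiber x)) = b) :
    FlatMor.fibreDimAt f x = (tr f x + b : ℕ) := by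
  letI := Groth.Agent.Lib.Helper18.FibreTd.fibreOver f (f x)
  haveI : LocallyOfFiniteType ((f.fiber (f x)) ↘ Spec (CommRingCat.of (Y.residueField (f x)))) :=
    inferInstanceAs (LocallyOfFiniteType (f.fiberToSpecResidueField (f x)))
  have h1 := Groth.Agent.Lib.Helper18.FibreTd.td_asFiber f x
  rw [tr_spec f x] at h1
  exact LocalDim.localDim_scheme (Y.residueField (f x)) (f.fiber (f x)) (f.asFiber x)
    (tr f x) b h1 hb

theorem main3391 [IrreducibleSpace X] [IrreducibleSpace Y]
    [IsLocallyNoetherian Y] (f : X ⟶ Y) [LocallyOfFiniteType f] [IsDominant f] (x : X)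
    (hcat : CAlg.IsUniversallyCatenary (Y.presheaf.stalk (f.base x)))
    (h : FlatMor.fibreDimAt f x = topologicalKrullDim ↥(f.fiber (genericPoint Y))) :
    ringKrullDim (X.presheaf.stalk x) =
      ringKrullDim (Y.presheaf.stalk (f.base x)) +
        ringKrullDim ((f.fiber (f.base x)).presheaf.stalk (f.asFiber x)) := by
  have hf : DenseRange f.base := f.denseRange
  have hfξ : f (genericPoint ↥X) = genericPoint ↥Y :=
    Groth.Agent.Lib.Helper18.GenFin.map_genericPoint_of_dense f hf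
  have key := coheight_add_tr_eq_local f hf x hcat
  have hgen := dim_fibre_generic f (genericPoint ↥Y) hfξ
  -- the fibre stalk has finite dimension
  have hfin : ∃ b : ℕ, ringKrullDim ((f.fiber (f.base x)).presheaf.stalk (f.asFiber x)) = b := by
    letI := Groth.Agent.Lib.Helper18.FibreTd.fibreOver f (f x)
    haveI : IsLocallyNoetherian (f.fiber (f x)) :=
      LocallyOfFiniteType.isLocallyNoetherian (f.fiberToSpecResidueField (f x))
    haveI : IsNoetherianRing ((f.fiber (f x)).presheaf.stalk (f.asFiber x)) := inferInstance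
    have h1 : ringKrullDim ((f.fiber (f x)).presheaf.stalk (f.asFiber x)) ≠ ⊤ :=
      ringKrullDim_ne_top
    have h2 : ringKrullDim ((f.fiber (f x)).presheaf.stalk (f.asFiber x)) ≠ ⊥ :=
      ringKrullDim_ne_bot
    obtain ⟨c, hc⟩ := WithBot.ne_bot_iff_exists.mp h2
    have hc' : c ≠ ⊤ := by
      intro hct
      rw [hct] at hc
      exact h1 hc.symm
    obtain ⟨b, hb⟩ := ENat.ne_top_iff_exists.mp hc'
    exact ⟨b, by rw [← hc, ← hb]; rfl⟩
  obtain ⟨b, hb⟩ := hfin
  have h3 := fibreDimAt_eq f x b hb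
  rw [h, hgen] at h3
  have h4 : tr f (genericPoint ↥X) = tr f x + b := by exact_mod_cast h3
  rw [h4] at key
  rw [hb, ringKrullDim_stalk_eq_coheight, ringKrullDim_stalk_eq_coheight]
  have h5 : (Order.coheight x : ℕ∞) + (tr f x : ℕ∞) =
      (Order.coheight (f x) + (b : ℕ∞)) + (tr f x : ℕ∞) := by
    rw [key]
    push_cast
    ring
  have h6 : (Order.coheight x : ℕ∞) = Order.coheight (f x) + (b : ℕ∞) :=
    (ENat.add_left_injective_of_ne_top (ENat.natCast_ne_top _)) h5
  rw [h6]
  rfl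

end Groth.Agent.Lib.Helper24.FibreDim
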