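import Mathlib
import Groth.Agent.Lib.Helper24.FibreDim.StalkPair
import Groth.Prelude.Def_EGA43
import Groth.Prelude.Def_EGA4b
import Groth.Prelude.Def_Flat
import Groth.Prelude.Def_Found

/-!
# S3457, S3438, S3396: equidimensional morphisms and the dimension formula (helper24)
-/

set_option autoImplicit false
set_option linter.style.haveILetI false
universe u
open scoped Cardinal
open AlgebraicGeometry CategoryTheory Groth.Agent.Lib.Helper7 Groth.Agent.Lib.lead

namespace Groth.Agent.Lib.Helper24.FibreDim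

variable {X Y : Scheme.{u}}

/-- The common core: for a minimal prime `𝔭` of `O_{X,x}`, its contraction to `O_{Y,y}` is a minimal
prime and the dimension formula holds with the local fibre dimension. -/
theorem equidim_formula [IsLocallyNoetherian Y] (f : X ⟶ Y) [LocallyOfFiniteType f] (x : X)
    (h : EGA43.IsEquidimAt f x)
    (hcat : CAlg.IsUniversallyCatenary (Y.presheaf.stalk (f x)))
    (𝔭 : Ideal (X.presheaf.stalk x)) (h𝔭 : 𝔭 ∈ minimalPrimes (X.presheaf.stalk x)) :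
    𝔭.comap (f.stalkMap x).hom ∈ minimalPrimes (Y.presheaf.stalk (f x)) ∧
      ringKrullDim (X.presheaf.stalk x ⧸ 𝔭) + ((tr f x : ℕ) : WithBot ℕ∞) =
        ringKrullDim (Y.presheaf.stalk (f x) ⧸ 𝔭.comap (f.stalkMap x).hom) +
          FlatMor.fibreDimAt f x := by
  haveI : 𝔭.IsPrime := h𝔭.1.1
  obtain ⟨e, U, hxU, hE1, hE2⟩ := equidim_points f x h
  obtain ⟨ξ, hξx, hξmax, hmin, hform⟩ := stalk_pair f x hcat 𝔭
  have hξU : ξ ∈ U := hξx.mem_open U.isOpen hxU
  have hmax := hξmax h𝔭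
  have h1 : tr f ξ = e := hE2 ξ hξU (fun ζ' _ hsp => hmax ζ' hsp)
  have h2 := tr_add_G_eq_of_points f x e U hxU hE2
  refine ⟨hmin (hE1 ξ hξU hmax), ?_⟩
  rw [hform, h1, fibreDimAt_eq_tr_add_G, h2]
  rfl

theorem main3457 [IsLocallyNoetherian Y] (f : X ⟶ Y)
    [LocallyOfFiniteType f] (x : X) (h : EGA43.IsEquidimAt f x)
    (hcat : CAlg.IsUniversallyCatenary (Y.presheaf.stalk (f.base x))) :
    letI : Algebra (Y.residueField (f.base x)) (X.residueField x) :=
      (f.residueFieldMap x).hom.toAlgebra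
    ∀ 𝔭 ∈ minimalPrimes (X.presheaf.stalk x),
      ringKrullDim (X.presheaf.stalk x ⧸ 𝔭) +
          (Cardinal.toNat (Algebra.trdeg (Y.residueField (f.base x)) (X.residueField x)) :
            WithBot ℕ∞) =
        ringKrullDim (Y.presheaf.stalk (f.base x) ⧸ 𝔭.comap (f.stalkMap x).hom) +
          FlatMor.fibreDimAt f x := by
  intro 𝔭 h𝔭
  have h1 := (equidim_formula f x h hcat 𝔭 h𝔭).2
  have h2 := tr_spec f x
  rw [h2, Cardinal.toNat_natCast]
  exact h1

theorem main3396 [IsLocallyNoetherian Y] (f : X ⟶ Y)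
    [LocallyOfFiniteType f] (x : X) (h : EGA43.IsEquidimAt f x)
    (hcat : CAlg.IsUniversallyCatenary (Y.presheaf.stalk (f.base x)))
    (hY : EGA4.IsEquidim (Y.presheaf.stalk (f.base x))) :
    EGA4.IsEquidim (X.presheaf.stalk x) := by
  haveI : IsLocallyNoetherian X := LocallyOfFiniteType.isLocallyNoetherian f
  obtain ⟨𝔭₀, h𝔭₀, hdim⟩ := exists_minimalPrime_dim_eq (X.presheaf.stalk x)
  intro 𝔭 h𝔭
  obtain ⟨hm, hf⟩ := equidim_formula f x h hcat 𝔭 h𝔭
  obtain ⟨hm₀, hf₀⟩ := equidim_formula f x h hcat 𝔭₀ h𝔭₀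
  rw [hY _ hm] at hf
  rw [hY _ hm₀, ← hf] at hf₀
  rw [← hdim]
  exact (ENat.WithBot.add_natCast_cancel.mp hf₀).symm

theorem main3438 [IsLocallyNoetherian Y] (f : X ⟶ Y)
    [LocallyOfFiniteType f] (x : X) (hY : EGA4.IsEquidim (Y.presheaf.stalk (f.base x)))
    (hcat : CAlg.IsUniversallyCatenary (Y.presheaf.stalk (f.base x)))
    (h : EGA43.IsEquidimAt f x) :
    ringKrullDim (X.presheaf.stalk x) =
        ringKrullDim (Y.presheaf.stalk (f.base x)) +
          ringKrullDim ((f.fiber (f.base x)).presheaf.stalk (f.asFiber x)) := by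
  haveI : IsLocallyNoetherian X := LocallyOfFiniteType.isLocallyNoetherian f
  obtain ⟨𝔭₀, h𝔭₀, hdim⟩ := exists_minimalPrime_dim_eq (X.presheaf.stalk x)
  obtain ⟨hm₀, hf₀⟩ := equidim_formula f x h hcat 𝔭₀ h𝔭₀
  rw [hY _ hm₀, hdim, fibreDimAt_eq_tr_add_G, FibreOrder.ringKrullDim_fiber_stalk] at *
  have h1 : ringKrullDim (Y.presheaf.stalk (f x)) +
      ((((tr f x : ℕ) : ℕ∞) + FibreOrder.G f x : ℕ∞) : WithBot ℕ∞) =
      (ringKrullDim (Y.presheaf.stalk (f x)) + ((FibreOrder.G f x : ℕ∞) : WithBot ℕ∞)) +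
        ((tr f x : ℕ) : WithBot ℕ∞) := by
    rw [WithBot.coe_add, add_assoc]
    congr 1
    rw [add_comm]
    rfl
  rw [h1] at hf₀
  exact ENat.WithBot.add_natCast_cancel.mp hf₀

end Groth.Agent.Lib.Helper24.FibreDim
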