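import Mathlib
import Groth.Agent.Lib.Helper24.FibreDim.Main4690

/-!
# S4692: `dim X = dim Y + n` when all fibres have dimension `n` (helper24)
-/

set_option autoImplicit false
set_option linter.style.haveILetI false
universe u
open scoped Cardinal
open AlgebraicGeometry CategoryTheory Groth.Agent.Lib.Helper7 Groth.Agent.Lib.lead

namespace Groth.Agent.Lib.Helper24.FibreDim

variable {X Y : Scheme.{u}}

theorem surjective_of_fibre_dim (f : X ⟶ Y) (n : ℕ)
    (h : ∀ y : Y, (n : WithBot ℕ∞) ≤ topologicalKrullDim (f.fiber y)) :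
    Function.Surjective f.base := by
  intro y
  have h1 : topologicalKrullDim (f.fiber y) ≠ ⊥ := by
    intro h0
    have := h y
    rw [h0] at this
    exact absurd this (by simp)
  have h2 : Nonempty (f.fiber y) := by
    by_contra hne
    rw [not_nonempty_iff] at hne
    haveI : IsEmpty (TopologicalSpace.IrreducibleCloseds ↥(f.fiber y)) :=
      ⟨fun Z => hne.elim Z.isIrreducible.nonempty.some⟩
    exact h1 (by unfold topologicalKrullDim; exact Order.krullDim_eq_bot)
  obtain ⟨z⟩ := h2
  exact ⟨(f.fiberHomeo y z).1, (f.fiberHomeo y z).2⟩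

theorem irreducibleSpace_of_surjective (f : X ⟶ Y) [IrreducibleSpace X]
    (hs : Function.Surjective f.base) : IrreducibleSpace Y := by
  have h1 : IsIrreducible (f.base '' Set.univ) :=
    (IrreducibleSpace.isIrreducible_univ X).image f.base f.continuous.continuousOn
  rw [Set.image_univ, hs.range_eq] at h1
  haveI : Nonempty Y := ⟨h1.nonempty.some⟩
  exact { isPreirreducible_univ := h1.isPreirreducible, toNonempty := inferInstance }

/-- The key equality when `f` is surjective. -/
theorem dim_eq_of_surjective (f : X ⟶ Y) [IsLocallyNoetherian Y] [LocallyOfFiniteType f]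
    [IrreducibleSpace X] [IrreducibleSpace Y] (hs : Function.Surjective f.base)
    (hY : ∀ y : Y, CAlg.IsUniversallyCatenary (Y.presheaf.stalk y)) :
    topologicalKrullDim X = topologicalKrullDim Y + (tr f (genericPoint ↥X) : WithBot ℕ∞) := by
  have hf : DenseRange f.base := hs.denseRange
  rw [dim_eq_iSup_coheight X, dim_eq_iSup_coheight Y, iSup_coheight_eq f hf hY,
    hs.iSup_comp (fun y : Y => (Order.coheight y : ℕ∞)), WithBot.coe_add]
  rfl

theorem main4692 (f : X ⟶ Y) [IsLocallyNoetherian Y]
    [LocallyOfFiniteType f] [IrreducibleSpace X]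
    (hY : ∀ y : Y, CAlg.IsUniversallyCatenary (Y.presheaf.stalk y)) (n : ℕ) :
    ((∀ y : Y, (n : WithBot ℕ∞) ≤ topologicalKrullDim (f.fiber y)) →
        topologicalKrullDim Y + n ≤ topologicalKrullDim X) ∧
      ((∀ y : Y, topologicalKrullDim (f.fiber y) = n) →
        topologicalKrullDim X = topologicalKrullDim Y + n) := by
  have key : ∀ (h : ∀ y : Y, (n : WithBot ℕ∞) ≤ topologicalKrullDim (f.fiber y)),
      ∃ E : ℕ, topologicalKrullDim X = topologicalKrullDim Y + (E : WithBot ℕ∞) ∧
        ∃ y : Y, topologicalKrullDim (f.fiber y) = (E : WithBot ℕ∞) := by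
    intro h
    have hs := surjective_of_fibre_dim f n h
    haveI := irreducibleSpace_of_surjective f hs
    have hfξ : f (genericPoint ↥X) = genericPoint ↥Y :=
      Groth.Agent.Lib.Helper18.GenFin.map_genericPoint_of_dense f hs.denseRange
    exact ⟨tr f (genericPoint ↥X), dim_eq_of_surjective f hs hY,
      genericPoint ↥Y, dim_fibre_generic f (genericPoint ↥Y) hfξ⟩
  constructor
  · intro h
    obtain ⟨E, hE, y, hy⟩ := key h
    have h1 := h y
    rw [hy] at h1
    rw [hE]
    exact add_le_add_right h1 _
  · intro h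
    obtain ⟨E, hE, y, hy⟩ := key (fun y => (h y).ge)
    rw [h y] at hy
    rw [hE, ← hy]

end Groth.Agent.Lib.Helper24.FibreDim
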